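import Mathlib

set_option autoImplicit false

/-!
# S2066-AUTPERM: a permutation normalizing the image of a generating set of a faithful finite
permutation group induces an automorphism
-/

namespace Cfsg.Agent.H24.J2Out

theorem exists_aut_of_perm {G X : Type*} [Group G] [Finite G] [MulAction G X] [FaithfulSMul G X] (ν : Equiv.Perm X) (S : Set G) (hS : Subgroup.closure S = ⊤) (h : ∀ s ∈ S, ∃ s' : G, (MulAction.toPerm s' : Equiv.Perm X) = ν * MulAction.toPerm s * ν⁻¹) : ∃ φ : MulAut G, ∀ g : G, (MulAction.toPerm (φ g) : Equiv.Perm X) = ν * MulAction.toPerm g * ν⁻¹ := by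
  have hmulP : ∀ a b : G, (MulAction.toPerm (a * b) : Equiv.Perm X) =
      MulAction.toPerm a * MulAction.toPerm b := fun a b =>
    map_mul (MulAction.toPermHom G X) a b
  have honeP : (MulAction.toPerm (1 : G) : Equiv.Perm X) = 1 :=
    map_one (MulAction.toPermHom G X)
  have hinvP : ∀ a : G, (MulAction.toPerm a⁻¹ : Equiv.Perm X) = (MulAction.toPerm a)⁻¹ :=
    fun a => map_inv (MulAction.toPermHom G X) a
  have hinj : Function.Injective (MulAction.toPerm : G → Equiv.Perm X) :=
    MulAction.toPerm_injective
  have hall : ∀ g : G, ∃ g' : G,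
      (MulAction.toPerm g' : Equiv.Perm X) = ν * MulAction.toPerm g * ν⁻¹ := by
    intro g
    have hg : g ∈ Subgroup.closure S := by
      rw [hS]
      exact Subgroup.mem_top g
    induction hg using Subgroup.closure_induction with
    | mem s hs => exact h s hs
    | one => exact ⟨1, by rw [honeP, mul_one, mul_inv_cancel]⟩
    | mul a b _ _ iha ihb =>
      obtain ⟨a', ha'⟩ := iha
      obtain ⟨b', hb'⟩ := ihb
      refine ⟨a' * b', ?_⟩
      rw [hmulP, hmulP, ha', hb']
      group
    | inv a _ iha =>
      obtain ⟨a', ha'⟩ := iha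
      refine ⟨a'⁻¹, ?_⟩
      rw [hinvP, hinvP, ha']
      group
  choose f hf using hall
  have hfmul : ∀ a b : G, f (a * b) = f a * f b := by
    intro a b
    apply hinj
    rw [hf, hmulP, hmulP, hf, hf]
    group
  have hfinj : Function.Injective f := by
    intro a b hab
    apply hinj
    have h1 : ν * (MulAction.toPerm a : Equiv.Perm X) * ν⁻¹ = ν * MulAction.toPerm b * ν⁻¹ := by
      rw [← hf a, ← hf b, hab]
    exact mul_left_cancel (mul_right_cancel h1)
  have hfbij : Function.Bijective f := Finite.injective_iff_bijective.mp hfinj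
  refine ⟨MulEquiv.ofBijective (MonoidHom.mk' f hfmul) hfbij, ?_⟩
  intro g
  exact hf g

end Cfsg.Agent.H24.J2Out
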