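import Cfsg.Agent.H88.AltFDefs

/-!
# S5165-SCB (helper88's team project): every element of order dividing `p` of `Perm (Pt I E p)`
is conjugate, under an even permutation, into the base group.
-/

set_option autoImplicit false

namespace Cfsg.Agent.H24.AltF

open Equiv Equiv.Perm Cfsg.Agent.H88.AltF

section

variable {I : Type} (E : Type) {p : ℕ}

theorem fibP_pow (f : I → ZMod p) (k : ℕ) : fibP E f ^ k = fibP E (k • f) := by
  induction k with
  | zero => simp
  | succ k ih => rw [pow_succ, ih, ← fibP_add, succ_nsmul]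

theorem fibP_pow_p [Fact p.Prime] (f : I → ZMod p) : fibP E f ^ p = 1 := by
  rw [fibP_pow]
  have : p • f = 0 := by
    funext i
    simp
  rw [this, fibP_zero]

variable [Fintype I] [DecidableEq I] [Fintype E] [DecidableEq E]

theorem sign_baseP [Fact p.Prime] (σ : Perm I) :
    sign (baseP E p σ) = sign σ ^ p := by
  unfold baseP
  rw [sign_sumCongr, prodCongr_refl_right, sign_prodCongrLeft]
  simp [Finset.prod_const, Finset.card_univ, ZMod.card]

/-- the support of a fibrewise translation by the indicator function of `J` -/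
theorem support_fibP_ind [Fact p.Prime] (J : Finset I) :
    (fibP E (fun i => if i ∈ J then (1 : ZMod p) else 0)).support =
      (J ×ˢ (Finset.univ : Finset (ZMod p))).map ⟨Sum.inl, Sum.inl_injective⟩ := by
  have hp : (1 : ZMod p) ≠ 0 := one_ne_zero
  ext q
  rcases q with ⟨i, x⟩ | e
  · simp only [mem_support, fibP_inl, ne_eq, Sum.inl.injEq, Prod.mk.injEq, true_and,
      Finset.mem_map, Finset.mem_product, Finset.mem_univ, and_true, Function.Embedding.coeFn_mk,
      Prod.exists, exists_and_right, exists_eq_right]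
    by_cases hi : i ∈ J
    · simp [hi, hp]
    · simp [hi]
  · simp

theorem card_support_fibP_ind [Fact p.Prime] (J : Finset I) :
    (fibP E (fun i => if i ∈ J then (1 : ZMod p) else 0)).support.card = J.card * p := by
  rw [support_fibP_ind, Finset.card_map, Finset.card_product, Finset.card_univ, ZMod.card]

end

theorem scb : Cfsg.Agent.H88.AltF.StmtSCb := by
  intro I E _ _ _ _ _ p _ hp2 hpI x hx
  classical
  have hp : p.Prime := Fact.out
  by_cases hx1 : x = 1
  · exact ⟨1, by simp, by rw [hx1]; simp [(baseB I E p).one_mem]⟩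
  have hord : orderOf x = p := orderOf_eq_prime hx hx1
  obtain ⟨n, hn⟩ := cycleType_prime_order (σ := x) (by rw [hord]; exact hp)
  rw [hord] at hn
  -- `n + 1 ≤ card I`
  have hcardE : Fintype.card E ≤ 1 := Fintype.card_le_one_iff_subsingleton.mpr inferInstance
  have hsum : (n + 1) * p ≤ Fintype.card I * p + 1 := by
    have h1 := sum_cycleType_le x
    rw [hn, Multiset.sum_replicate, smul_eq_mul] at h1
    have h2 : Fintype.card (Pt I E p) = Fintype.card I * p + Fintype.card E := by
      simp [Pt, ZMod.card]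
    omega
  have hnI : n + 1 ≤ Fintype.card I := by
    by_contra h
    push Not at h
    have h3 : (Fintype.card I + 1) * p ≤ (n + 1) * p := Nat.mul_le_mul_right p (by omega)
    have h4 : 2 ≤ p := hp.two_le
    have h5 : (Fintype.card I + 1) * p = Fintype.card I * p + p := by ring
    omega
  obtain ⟨J, -, hJ⟩ := Finset.exists_subset_card_eq (s := (Finset.univ : Finset I)) (n := n + 1)
    (by rw [Finset.card_univ]; exact hnI)
  obtain ⟨f, hf⟩ : ∃ f : I → ZMod p, f = fun i => if i ∈ J then (1 : ZMod p) else 0 := ⟨_, rfl⟩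
  have hy1 : fibP E f ≠ 1 := by
    intro h
    rw [← fibP_zero E] at h
    have h0 := fibP_injective E h
    have hJne : J.Nonempty := by
      rw [← Finset.card_pos, hJ]; omega
    obtain ⟨i, hi⟩ := hJne
    have := congrFun h0 i
    rw [hf] at this
    simp [hi] at this
  have hyord : orderOf (fibP E f) = p := orderOf_eq_prime (fibP_pow_p E f) hy1
  obtain ⟨m, hm⟩ := cycleType_prime_order (σ := fibP E f) (by rw [hyord]; exact hp)
  rw [hyord] at hm
  have hmn : m = n := by
    have h1 := sum_cycleType (fibP E f)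
    rw [hm, Multiset.sum_replicate, smul_eq_mul, hf, card_support_fibP_ind, hJ] at h1
    have := Nat.eq_of_mul_eq_mul_right hp.pos h1
    omega
  have hct : x.cycleType = (fibP E f).cycleType := by rw [hn, hm, hmn]
  obtain ⟨w0, hw0⟩ := isConj_iff.mp (isConj_iff_cycleType_eq.mpr hct)
  rcases Int.units_eq_one_or (sign w0) with hs | hs
  · exact ⟨w0, hs, by rw [hw0]; exact fibP_mem_baseB E f⟩
  · -- correct the sign
    have h3 : 2 < Fintype.card I := by
      have : 3 ≤ p := by
        have := hp.two_le
        omega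
      omega
    obtain ⟨j1, j2, j3, h12, h13, h23⟩ := Fintype.two_lt_card_iff.mp h3
    obtain ⟨a, b, hab, hJab⟩ : ∃ a b : I, a ≠ b ∧ (a ∈ J ↔ b ∈ J) := by
      by_cases h1 : j1 ∈ J <;> by_cases h2 : j2 ∈ J <;> by_cases h3 : j3 ∈ J
      · exact ⟨j1, j2, h12, by simp [h1, h2]⟩
      · exact ⟨j1, j2, h12, by simp [h1, h2]⟩
      · exact ⟨j1, j3, h13, by simp [h1, h3]⟩
      · exact ⟨j2, j3, h23, by simp [h2, h3]⟩
      · exact ⟨j2, j3, h23, by simp [h2, h3]⟩
      · exact ⟨j1, j3, h13, by simp [h1, h3]⟩
      · exact ⟨j1, j2, h12, by simp [h1, h2]⟩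
      · exact ⟨j1, j2, h12, by simp [h1, h2]⟩
    have hfσ : ∀ i, f (swap a b i) = f i := by
      intro i
      rw [hf]
      by_cases hia : i = a
      · subst hia; simp [hJab]
      by_cases hib : i = b
      · subst hib; simp [hJab]
      · rw [swap_apply_of_ne_of_ne hia hib]
    have hcomm : baseP E p (swap a b) * fibP E f = fibP E f * baseP E p (swap a b) := by
      ext (⟨i, t⟩ | e)
      · simp [hfσ]
      · simp
    have hsc : sign (baseP E p (swap a b)) = -1 := by
      rw [sign_baseP, sign_swap hab]
      exact Odd.neg_one_pow (hp.odd_of_ne_two hp2)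
    refine ⟨baseP E p (swap a b) * w0, by rw [map_mul, hsc, hs]; decide, ?_⟩
    have e : baseP E p (swap a b) * w0 * x * (baseP E p (swap a b) * w0)⁻¹ =
        baseP E p (swap a b) * (w0 * x * w0⁻¹) * (baseP E p (swap a b))⁻¹ := by group
    rw [e, hw0, hcomm, mul_inv_cancel_right]
    exact fibP_mem_baseB E f

example : Cfsg.Agent.H88.AltF.StmtSCb := scb

end Cfsg.Agent.H24.AltF
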