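import Cfsg.Agent.H24.C3PermRel

/-!
# S2071 (Out(Co3) = 1) piece C3-NOINV: `x z t` has order dividing 15, `x⁻¹ z t` has not
-/

set_option autoImplicit false

namespace Cfsg.Agent.H24.C3

open Cfsg Cfsg.Agent.H9 Cfsg.Agent.H33 Cfsg.Agent.H33.C3

/-- the code function of `pX * pZ * pT` -/
def fXZT (j : ℕ) : ℕ := g16 cX (g16 cZ (g16 cT j))

/-- the code function of `pX⁻¹ * pZ * pT` -/
def fXiZT (j : ℕ) : ℕ := g16 cXi (g16 cZ (g16 cT j))

theorem xzt_val (j : Fin 552) : ((pX * pZ * pT) j).val = fXZT j.val := rfl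
theorem xizt_val (j : Fin 552) : ((pX⁻¹ * pZ * pT) j).val = fXiZT j.val := rfl

theorem chk_xzt : allB (fun j => Nat.beq (itN fXZT 15 j) j) 552 = true := by decide +kernel
theorem chk_xizt : allB (fun j => Nat.beq (itN fXiZT 15 j) j) 552 = false := by decide +kernel

/-- C3-NOINV. -/
theorem noInv : StNoInv := by
  constructor
  · apply Equiv.ext
    intro j
    apply Fin.ext
    rw [pow_val _ fXZT xzt_val]
    exact (allB_beq' _ _ _).mp chk_xzt j.val j.isLt
  · intro e
    have h : allB (fun j => Nat.beq (itN fXiZT 15 j) j) 552 = true := by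
      rw [allB_beq']
      intro p hp
      have h1 := pow_val _ fXiZT xizt_val 15 ⟨p, hp⟩
      rw [e] at h1
      exact h1.symm
    rw [chk_xizt] at h
    exact Bool.false_ne_true h

end Cfsg.Agent.H24.C3

example : Cfsg.Agent.H33.C3.StNoInv := Cfsg.Agent.H24.C3.noInv
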