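import Cfsg.Agent.H33.C3.Defs

/-!
# S2071 (Out(Co3) = 1) piece C3-PERMREL: relations between the three coded permutations
-/

set_option autoImplicit false

namespace Cfsg.Agent.H24.C3

open Cfsg Cfsg.Agent.H9 Cfsg.Agent.H33 Cfsg.Agent.H33.C3

/-- iterate on naturals (kernel-friendly) -/
def itN (f : ℕ → ℕ) : ℕ → ℕ → ℕ
  | 0, j => j
  | n + 1, j => f (itN f n j)

theorem pow_val (g : Equiv.Perm (Fin 552)) (f : ℕ → ℕ)
    (h : ∀ j : Fin 552, (g j).val = f j.val) :
    ∀ (n : ℕ) (j : Fin 552), ((g ^ n) j).val = itN f n j.val := by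
  intro n
  induction n with
  | zero => intro j; rfl
  | succ n ih =>
    intro j
    rw [pow_succ', Equiv.Perm.mul_apply, h, ih]
    rfl

theorem allB_beq' (f g : ℕ → ℕ) (n : ℕ) :
    allB (fun p => Nat.beq (f p) (g p)) n = true ↔ ∀ p < n, f p = g p := by
  rw [allB_iff]
  constructor
  · intro h j hj
    exact Nat.eq_of_beq_eq_true (h j hj)
  · intro h j hj
    rw [h j hj]
    exact Nat.beq_refl _

theorem pX_val (j : Fin 552) : (pX j).val = g16 cX j.val := rfl
theorem pZ_val (j : Fin 552) : (pZ j).val = g16 cZ j.val := rfl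
theorem pT_val (j : Fin 552) : (pT j).val = g16 cT j.val := rfl
theorem pXi_val (j : Fin 552) : (pX⁻¹ j).val = g16 cXi j.val := rfl
theorem pZi_val (j : Fin 552) : (pZ⁻¹ j).val = g16 cZi j.val := rfl

theorem chk_x23 : allB (fun j => Nat.beq (itN (g16 cX) 23 j) j) 552 = true := by decide +kernel
theorem chk_z11 : allB (fun j => Nat.beq (itN (g16 cZ) 11 j) j) 552 = true := by decide +kernel
theorem chk_t2 : allB (fun j => Nat.beq (g16 cT (g16 cT j)) j) 552 = true := by decide +kernel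
theorem chk_zx : allB (fun j => Nat.beq (g16 cZ (g16 cX j)) (itN (g16 cX) 12 (g16 cZ j))) 552
    = true := by decide +kernel
theorem chk_tz : allB (fun j => Nat.beq (g16 cT (g16 cZ j)) (g16 cZ (g16 cT j))) 552
    = true := by decide +kernel
theorem chk_zfix : allB (fun j => (!Nat.beq (g16 cZ j) j) || (Nat.beq j 0 || Nat.beq j 551)) 552
    = true := by decide +kernel
theorem chk_x0 : Nat.beq (g16 cX 0) 0 = false := by decide +kernel
theorem chk_t0 : g16 cT 0 = 551 := by decide +kernel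
theorem chk_t551 : g16 cT 551 = 0 := by decide +kernel
theorem chk_z551 : g16 cZ 551 = 551 := by decide +kernel

theorem pX_pow23 : pX ^ 23 = 1 := by
  apply Equiv.ext
  intro j
  apply Fin.ext
  rw [pow_val pX (g16 cX) pX_val]
  exact (allB_beq' _ _ _).mp chk_x23 j.val j.isLt

theorem pZ_pow11 : pZ ^ 11 = 1 := by
  apply Equiv.ext
  intro j
  apply Fin.ext
  rw [pow_val pZ (g16 cZ) pZ_val]
  exact (allB_beq' _ _ _).mp chk_z11 j.val j.isLt

theorem pT_sq : pT ^ 2 = 1 := by
  apply Equiv.ext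
  intro j
  apply Fin.ext
  rw [pow_two, Equiv.Perm.mul_apply, pT_val, pT_val]
  exact (allB_beq' _ _ _).mp chk_t2 j.val j.isLt

theorem pX_ne_one : pX ≠ 1 := by
  intro e
  have h := pX_val ⟨0, by norm_num⟩
  rw [e] at h
  have h2 : Nat.beq (g16 cX 0) 0 = true := by
    rw [Nat.beq_eq]
    exact h.symm
  rw [chk_x0] at h2
  exact Bool.false_ne_true h2

theorem pT_ne_one : pT ≠ 1 := by
  intro e
  have h := pT_val ⟨0, by norm_num⟩
  rw [e, chk_t0] at h
  exact absurd h (by decide)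

theorem pZ_conj : pZ * pX * pZ⁻¹ = pX ^ 12 := by
  rw [mul_inv_eq_iff_eq_mul]
  apply Equiv.ext
  intro j
  apply Fin.ext
  rw [Equiv.Perm.mul_apply, Equiv.Perm.mul_apply, pZ_val, pX_val,
    pow_val pX (g16 cX) pX_val, pZ_val]
  exact (allB_beq' _ _ _).mp chk_zx j.val j.isLt

theorem pT_comm : pT * pZ = pZ * pT := by
  apply Equiv.ext
  intro j
  apply Fin.ext
  rw [Equiv.Perm.mul_apply, Equiv.Perm.mul_apply, pT_val, pZ_val, pZ_val, pT_val]
  exact (allB_beq' _ _ _).mp chk_tz j.val j.isLt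

theorem pZ_fix (j : Fin 552) (h : pZ j = j) : j.val = 0 ∨ j.val = 551 := by
  have h1 : g16 cZ j.val = j.val := by rw [← pZ_val, h]
  have h2 := (allB_iff _ _).mp chk_zfix j.val j.isLt
  simp only [Bool.or_eq_true, Bool.not_eq_true', Nat.beq_eq] at h2
  rcases h2 with h2 | h2 | h2
  · rw [h1, Nat.beq_refl] at h2
    exact absurd h2 (by decide)
  · exact Or.inl h2
  · exact Or.inr h2

/-- C3-PERMREL. -/
theorem permRel : StPermRel :=
  ⟨pX_pow23, pX_ne_one, pZ_pow11, pZ_conj, pT_sq, pT_ne_one, pT_comm,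
    (pZ_val _).trans chk_z551, pZ_fix, (pT_val _).trans chk_t0, (pT_val _).trans chk_t551⟩

end Cfsg.Agent.H24.C3

example : Cfsg.Agent.H33.C3.StPermRel := Cfsg.Agent.H24.C3.permRel
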