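import Mathlib
import Cfsg.Agent.H24.CoxOrder

/-! Order of the Coxeter element of type E6: generated certificate. -/

namespace Cfsg.Agent.H24.Cox.E6

open Cfsg.Agent.H24.Cox

/-- Integer reflection matrices of the simple reflections. -/
def S : Fin 6 → Matrix (Fin 6) (Fin 6) ℤ := ![
  !![-1, 0, 1, 0, 0, 0; 0, 1, 0, 0, 0, 0; 0, 0, 1, 0, 0, 0; 0, 0, 0, 1, 0, 0; 0, 0, 0, 0, 1, 0; 0, 0, 0, 0, 0, 1],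
  !![1, 0, 0, 0, 0, 0; 0, -1, 0, 1, 0, 0; 0, 0, 1, 0, 0, 0; 0, 0, 0, 1, 0, 0; 0, 0, 0, 0, 1, 0; 0, 0, 0, 0, 0, 1],
  !![1, 0, 0, 0, 0, 0; 0, 1, 0, 0, 0, 0; 1, 0, -1, 1, 0, 0; 0, 0, 0, 1, 0, 0; 0, 0, 0, 0, 1, 0; 0, 0, 0, 0, 0, 1],
  !![1, 0, 0, 0, 0, 0; 0, 1, 0, 0, 0, 0; 0, 0, 1, 0, 0, 0; 0, 1, 1, -1, 1, 0; 0, 0, 0, 0, 1, 0; 0, 0, 0, 0, 0, 1],
  !![1, 0, 0, 0, 0, 0; 0, 1, 0, 0, 0, 0; 0, 0, 1, 0, 0, 0; 0, 0, 0, 1, 0, 0; 0, 0, 0, 1, -1, 1; 0, 0, 0, 0, 0, 1],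
  !![1, 0, 0, 0, 0, 0; 0, 1, 0, 0, 0, 0; 0, 0, 1, 0, 0, 0; 0, 0, 0, 1, 0, 0; 0, 0, 0, 0, 1, 0; 0, 0, 0, 0, 1, -1]]

set_option maxRecDepth 100000 in
theorem liftable : CoxeterMatrix.E₆.IsLiftable S := by
  unfold CoxeterMatrix.IsLiftable; decide +kernel

set_option maxRecDepth 1000000 in
theorem chunk0 : exec (Mt CoxeterMatrix.E₆) [Op.R, Op.R, Op.R, Op.R, Op.R, Op.R, Op.R, Op.R, Op.R, Op.R, Op.R, Op.R, Op.R, Op.R, Op.R, Op.R, Op.R, Op.R, Op.R, Op.R, Op.R, Op.R, Op.R, Op.B2, Op.R, Op.B2, Op.R, Op.B2, Op.R, Op.B2, Op.L, Op.L, Op.L, Op.L, Op.B2, Op.R, Op.B2, Op.R, Op.B2, Op.L, Op.L, Op.L, Op.B2, Op.L, Op.L, Op.B2, Op.R, Op.B2, Op.R, Op.B3, Op.L, Op.L, Op.L, Op.B3, Op.L, Op.L, Op.L, Op.L, Op.L, Op.L, Op.L, Op.L, Op.L,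 Op.L, Op.L, Op.L, Op.L, Op.B2, Op.R, Op.B2, Op.R, Op.B2, Op.R, Op.B2, Op.R, Op.B3, Op.R, Op.R, Op.B2, Op.R, Op.B2, Op.R, Op.B2, Op.R, Op.B3, Op.R, Op.R, Op.B2, Op.L, Op.L, Op.L, Op.L, Op.L, Op.L, Op.L, Op.L, Op.L, Op.L, Op.L, Op.L, Op.B2, Op.R, Op.B2, Op.R, Op.B2, Op.R, Op.B3, Op.R, Op.R, Op.B2, Op.R, Op.B2, Op.L, Op.L, Op.L, Op.L, Op.L, Op.B2, Op.L, Op.L, Op.B2, Op.L, Op.L, Op.L, Op.B2, Op.R, Op.B3, Op.R, Op.R, Op.B3, Op.R, Op.R, Op.B3, Op.R, Op.R, Op.B2, Op.R, Op.B2, Op.R, Op.B2, Op.R, Op.B3, Op.R, Op.R, Op.B3, Op.R, Op.R, Op.B2, Op.R, Op.B2, Op.R, Op.B3, Op.R, Op.R, Op.B2, Op.R, Op.B3, Op.R, Op.R, Op.B2, Op.R, Op.B3, Op.R, Op.R, Op.B3, Op.R, Op.R, Op.B3, Op.R, Op.R, Op.C, Op.L, Op.B2, Op.R, Op.B2, Op.R, Op.B2,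 Op.L, Op.L, Op.L, Op.L, Op.B2, Op.R, Op.B2, Op.L, Op.L, Op.L, Op.L, Op.L, Op.L, Op.B3, Op.R, Op.R, Op.B2, Op.R, Op.B2, Op.R, Op.B2, Op.R, Op.B2, Op.R, Op.B3, Op.L, Op.L, Op.L, Op.L, Op.B2, Op.R, Op.B2, Op.L, Op.L, Op.L, Op.L, Op.L, Op.L, Op.B3, Op.R, Op.R, Op.B2, Op.R, Op.B2, Op.R, Op.B2, Op.R, Op.B2, Op.R, Op.B3, Op.L, Op.L, Op.L, Op.L, Op.L, Op.L, Op.L, Op.L, Op.L, Op.L, Op.L, Op.L, Op.L, Op.L, Op.L, Op.B2, Op.R, Op.B2, Op.R, Op.B2, Op.R, Op.B2, Op.R, Op.B2, Op.R, Op.B3, Op.L, Op.L, Op.L, Op.L, Op.L, Op.L, Op.B2, Op.L, Op.B2, Op.R, Op.B3, Op.R, Op.R, Op.B2, Op.R, Op.B2, Op.R, Op.B3, Op.R, Op.R, Op.B2, Op.R, Op.B3, Op.R, Op.R, Op.B2, Op.R, Op.B2, Op.R, Op.B2, Op.R, Op.B3, Op.R, Op.R, Op.B2, Op.L, Op.L, Op.L, Op.L,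 Op.B2, Op.L, Op.L, Op.B2, Op.L, Op.L, Op.L, Op.L, Op.L, Op.L, Op.B2, Op.L, Op.L, Op.L, Op.L, Op.L, Op.B2, Op.L, Op.L, Op.B2, Op.R, Op.B2, Op.R, Op.B3, Op.R, Op.R, Op.B2, Op.R, Op.B3, Op.R, Op.R, Op.B3, Op.R, Op.R, Op.B2, Op.R, Op.B2, Op.R, Op.B2, Op.R, Op.B2, Op.R, Op.B3, Op.R, Op.R, Op.B3, Op.R, Op.R, Op.B2, Op.R, Op.B2, Op.R, Op.B3, Op.R, Op.R, Op.B2, Op.R, Op.B3, Op.R, Op.R, Op.B2, Op.R, Op.B3, Op.R, Op.R, Op.B3, Op.R, Op.R, Op.C, Op.L, Op.L, Op.L, Op.L, Op.L, Op.L, Op.L, Op.L, Op.L, Op.L, Op.L, Op.B2, Op.R, Op.B2, Op.R, Op.B2, Op.R, Op.B2, Op.R, Op.B2, Op.R, Op.B2, Op.R, Op.B2, Op.R, Op.B2, Op.L, Op.L, Op.L, Op.L, Op.L, Op.L, Op.L, Op.L, Op.L, Op.B3, Op.R, Op.R, Op.B2, Op.R, Op.B2, Op.R, Op.B2, Op.L, Op.L, Op.L,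 Op.L, Op.L, Op.B2, Op.R, Op.B3, Op.R, Op.R, Op.B2, Op.L, Op.L, Op.L, Op.L, Op.L, Op.L, Op.B2, Op.R, Op.B2, Op.R, Op.B2, Op.R, Op.B2, Op.R, Op.B3, Op.R, Op.R, Op.B3, Op.R, Op.R, Op.B3, Op.R, Op.R, Op.B2, Op.L, Op.L, Op.L, Op.L, Op.L, Op.L, Op.L, Op.L, Op.L, Op.B2, Op.L, Op.L, Op.B3, Op.R, Op.R, Op.B3, Op.R, Op.R, Op.B2, Op.R, Op.B2, Op.L, Op.L, Op.L, Op.L, Op.L, Op.L, Op.L, Op.L, Op.L, Op.L, Op.B2, Op.L, Op.L, Op.L, Op.L, Op.L, Op.B2, Op.R, Op.B2, Op.R, Op.B2, Op.R, Op.B3, Op.R, Op.R, Op.B3, Op.R, Op.R, Op.B2, Op.R, Op.B2, Op.L, Op.L, Op.L, Op.L, Op.L, Op.L, Op.L, Op.L, Op.L, Op.L, Op.B3, Op.R, Op.R, Op.B2, Op.R, Op.B3, Op.R, Op.R, Op.B2, Op.R, Op.B2, Op.R, Op.B3, Op.R, Op.R, Op.B2, Op.R, Op.B3, Op.R, Op.R, Op.B2,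 Op.R, Op.B2, Op.R, Op.B3, Op.R, Op.R, Op.B2, Op.R, Op.B3, Op.R, Op.R, Op.B2, Op.R, Op.B2, Op.R, Op.B3, Op.R, Op.R, Op.B3, Op.R, Op.R, Op.B2, Op.R, Op.B3, Op.R, Op.R, Op.B2, Op.R, Op.C, Op.L, Op.L, Op.L, Op.L, Op.L, Op.L, Op.L, Op.B2, Op.L, Op.L, Op.B3, Op.R, Op.R, Op.B3, Op.R, Op.R, Op.B2, Op.R, Op.B2, Op.R, Op.B2, Op.L, Op.L, Op.L, Op.L, Op.L, Op.L, Op.L, Op.L, Op.B3, Op.R, Op.R, Op.B2, Op.R, Op.B2, Op.R, Op.B3, Op.R, Op.R, Op.B2, Op.L, Op.L, Op.L, Op.L, Op.B2, Op.L, Op.L, Op.L, Op.B2, Op.R, Op.B3, Op.R, Op.R, Op.B3, Op.R, Op.R, Op.B2, Op.L, Op.L, Op.L, Op.L, Op.L, Op.L, Op.L, Op.L, Op.L, Op.L, Op.L, Op.L, Op.L, Op.B2, Op.R, Op.B2, Op.L, Op.L, Op.B2, Op.L, Op.L, Op.B3, Op.R, Op.R, Op.B3, Op.R, Op.R, Op.B3, Op.R,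 Op.R, Op.B2, Op.R, Op.B2, Op.R, Op.B2, Op.R, Op.B2, Op.R, Op.B2, Op.R, Op.B2, Op.R, Op.B2, Op.L, Op.L, Op.L, Op.L, Op.L, Op.L, Op.L, Op.B2, Op.L, Op.L, Op.B2, Op.L, Op.L, Op.L, Op.L, Op.L, Op.B3, Op.R, Op.R, Op.B2, Op.R, Op.B2, Op.R, Op.B2, Op.R, Op.B3, Op.R, Op.R, Op.B3, Op.R, Op.R, Op.B2, Op.R, Op.B2, Op.R, Op.B2, Op.L, Op.L, Op.L, Op.L, Op.L, Op.L, Op.L, Op.L, Op.L, Op.B2, Op.R, Op.B2, Op.L, Op.L, Op.L, Op.L, Op.B2, Op.R, Op.B3, Op.R, Op.R, Op.B2, Op.R, Op.B3, Op.R, Op.R, Op.B2, Op.R, Op.B2, Op.R, Op.B3, Op.R, Op.R, Op.B2, Op.L, Op.L, Op.L, Op.L, Op.L, Op.L, Op.L, Op.L, Op.L, Op.L, Op.L, Op.B2, Op.R, Op.B2, Op.R, Op.B2, Op.R, Op.B2, Op.L, Op.L, Op.L, Op.L, Op.B2, Op.L, Op.L, Op.B3, Op.R, Op.R, Op.B3, Op.R, Op.R,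 Op.B2, Op.R, Op.B2, Op.R, Op.B3, Op.R, Op.R, Op.B2, Op.R, Op.B2, Op.R, Op.B2, Op.R, Op.B2, Op.R, Op.B3, Op.R, Op.R, Op.B3, Op.R, Op.R, Op.B3, Op.R, Op.R, Op.B2, Op.R, Op.B3, Op.R, Op.R, Op.B2, Op.R, Op.B2, Op.R, Op.B3, Op.R, Op.R, Op.B3, Op.R, Op.R, Op.B3, Op.R, Op.R, Op.B2, Op.R, Op.C, Op.L, Op.L, Op.B2, Op.L, Op.L, Op.L, Op.L, Op.L, Op.L, Op.B2, Op.R, Op.B2, Op.L, Op.L, Op.L, Op.B3, Op.R, Op.R, Op.B2, Op.R, Op.B3, Op.R, Op.R, Op.B2, Op.R, Op.B2, Op.L, Op.L, Op.L, Op.L, Op.L, Op.L, Op.L, Op.L, Op.L, Op.L, Op.L, Op.L, Op.L, Op.B2, Op.L, Op.L, Op.B3, Op.R, Op.R, Op.B3, Op.R, Op.R, Op.B2, Op.R, Op.B2, Op.R, Op.B2, Op.R, Op.B2, Op.R, Op.B2, Op.R, Op.B2, Op.R, Op.B2, Op.L, Op.L, Op.L, Op.L, Op.L, Op.L, Op.L, Op.B2,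 Op.L, Op.L, Op.B2, Op.L, Op.L, Op.B2, Op.R, Op.B2, Op.R, Op.B3, Op.R, Op.R, Op.B3, Op.R, Op.R, Op.B2, Op.R, Op.B2, Op.L, Op.L, Op.L, Op.L, Op.L, Op.L, Op.L, Op.L, Op.B2, Op.R, Op.B2, Op.L, Op.L, Op.L, Op.B3, Op.R, Op.R, Op.B2, Op.R, Op.B3, Op.R, Op.R, Op.B2, Op.R, Op.B2, Op.R, Op.B3, Op.R, Op.R, Op.B2, Op.R, Op.B3, Op.R, Op.R, Op.B2, Op.R, Op.B2, Op.R, Op.B3, Op.R, Op.R, Op.B2, Op.R, Op.B2, Op.R, Op.B2, Op.R, Op.B3, Op.R, Op.R, Op.B3, Op.R, Op.R, Op.C, Op.L, Op.L, Op.L, Op.L, Op.L, Op.L, Op.B2, Op.R, Op.B2, Op.R, Op.B2, Op.L, Op.L, Op.L, Op.L, Op.L, Op.L, Op.L, Op.L, Op.L, Op.L, Op.L, Op.B2, Op.R, Op.B2, Op.L, Op.L, Op.B2, Op.L, Op.B2, Op.R, Op.B3, Op.R, Op.R, Op.B3, Op.R, Op.R, Op.B2, Op.R, Op.B2, Op.R, Op.B2,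 Op.R, Op.B2, Op.R, Op.B3, Op.L, Op.L, Op.L, Op.L, Op.L, Op.L, Op.L, Op.L, Op.L, Op.L, Op.L, Op.L, Op.L, Op.L, Op.L, Op.L]
    []
    [0, 1, 2, 3, 4, 5, 0, 1, 2, 3, 4, 5, 0, 1, 2, 3, 4, 5, 0, 1, 2, 3, 4, 5, 0, 1, 2, 3, 4, 5, 0, 1, 2, 3, 4, 5, 0, 1, 2, 3, 4, 5, 0, 1, 2, 3, 4, 5, 0, 1, 2, 3, 4, 5, 0, 1, 2, 3, 4, 5, 0, 1, 2, 3, 4, 5, 0, 1, 2, 3, 4, 5] =
    ([5, 4, 3, 2, 1, 3],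
     [0, 3, 2, 0, 1, 3, 4, 5, 3, 2, 1, 3, 4, 5, 0, 2, 3, 1, 3, 2, 0, 4, 3, 2, 4, 5, 0, 1, 2, 3, 4, 5, 0, 1, 2, 3, 4, 5, 0, 1, 2, 3, 4, 5, 0, 1, 2, 3, 4, 5, 0, 1, 2, 3, 4, 5]) := by decide +kernel

set_option maxRecDepth 1000000 in
theorem chunk1 : exec (Mt CoxeterMatrix.E₆) [Op.L, Op.B2, Op.R, Op.B2, Op.R, Op.B2, Op.R, Op.B2, Op.R, Op.B2, Op.R, Op.B2, Op.R, Op.B3, Op.L, Op.L, Op.L, Op.L, Op.L, Op.L, Op.L, Op.B2, Op.L, Op.B2, Op.R, Op.B3, Op.R, Op.R, Op.B2, Op.R, Op.B2, Op.R, Op.B2, Op.R, Op.B3, Op.R, Op.R, Op.B2, Op.R, Op.B3, Op.R, Op.R, Op.B2, Op.R, Op.B2, Op.R, Op.B3, Op.R, Op.R, Op.B2, Op.R, Op.B2, Op.R, Op.B3, Op.R, Op.R, Op.B2, Op.R, Op.B3, Op.R, Op.R, Op.B2, Op.R, Op.B3, Op.R, Op.R, Op.B2, Op.R, Op.C, Op.L,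 Op.L, Op.L, Op.L, Op.L, Op.L, Op.L, Op.L, Op.L, Op.L, Op.L, Op.B2, Op.R, Op.B2, Op.R, Op.B2, Op.R, Op.B2, Op.R, Op.B2, Op.R, Op.B2, Op.R, Op.B2, Op.L, Op.L, Op.L, Op.L, Op.L, Op.L, Op.L, Op.B2, Op.R, Op.B2, Op.L, Op.L, Op.B2, Op.L, Op.L, Op.B2, Op.L, Op.L, Op.L, Op.L, Op.L, Op.L, Op.L, Op.B2, Op.R, Op.B2, Op.R, Op.B2, Op.R, Op.B2, Op.R, Op.B2, Op.R, Op.B2, Op.R, Op.B2, Op.R, Op.B3, Op.R, Op.R, Op.B3, Op.R, Op.R, Op.B3, Op.R, Op.R, Op.B2, Op.L, Op.L, Op.L, Op.L, Op.L, Op.L, Op.L, Op.B2, Op.R, Op.B2, Op.L, Op.L, Op.L, Op.L, Op.L, Op.L, Op.L, Op.L, Op.B2, Op.L, Op.L, Op.L, Op.L, Op.L, Op.B2, Op.R, Op.B2, Op.R, Op.B2, Op.R, Op.B3, Op.R, Op.R, Op.B3, Op.R, Op.R, Op.B2, Op.R, Op.B2, Op.R, Op.B2, Op.R, Op.B3, Op.R, Op.R,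 Op.B2, Op.R, Op.B3, Op.R, Op.R, Op.B2, Op.R, Op.B2, Op.R, Op.B3, Op.R, Op.R, Op.B3, Op.R, Op.R, Op.B2, Op.R, Op.B2, Op.R, Op.B3, Op.R, Op.R, Op.B2, Op.R, Op.B2, Op.R, Op.C, Op.L, Op.L, Op.L, Op.L, Op.L, Op.L, Op.L, Op.L, Op.L, Op.B2, Op.L, Op.L, Op.B3, Op.R, Op.R, Op.B3, Op.R, Op.R, Op.B2, Op.R, Op.B2, Op.R, Op.B2, Op.R, Op.B2, Op.L, Op.L, Op.L, Op.L, Op.L, Op.L, Op.L, Op.L, Op.L, Op.B3, Op.R, Op.R, Op.B2, Op.R, Op.B2, Op.R, Op.B3, Op.R, Op.R, Op.B2, Op.R, Op.B2, Op.L, Op.L, Op.L, Op.L, Op.L, Op.B2, Op.L, Op.L, Op.L, Op.B2, Op.R, Op.B3, Op.R, Op.R, Op.B3, Op.R, Op.R, Op.B2, Op.R, Op.B2, Op.L, Op.L, Op.L, Op.L, Op.L, Op.L, Op.L, Op.L, Op.L, Op.L, Op.L, Op.L, Op.B3, Op.R, Op.R, Op.B2, Op.R, Op.B2, Op.R, Op.B2, Op.R,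 Op.B2, Op.R, Op.B2, Op.R, Op.B2, Op.L, Op.L, Op.L, Op.L, Op.L, Op.L, Op.L, Op.L, Op.B2, Op.R, Op.B3, Op.R, Op.R, Op.B2, Op.R, Op.B2, Op.R, Op.B2, Op.L, Op.L, Op.L, Op.L, Op.L, Op.L, Op.B2, Op.R, Op.B2, Op.R, Op.B3, Op.R, Op.R, Op.B2, Op.L, Op.L, Op.L, Op.L, Op.L, Op.L, Op.L, Op.L, Op.B2, Op.R, Op.B2, Op.R, Op.B2, Op.R, Op.B2, Op.R, Op.B2, Op.R, Op.B2, Op.R, Op.B3, Op.R, Op.R, Op.B3, Op.R, Op.R, Op.B3, Op.R, Op.R, Op.B2, Op.R, Op.B3, Op.R, Op.R, Op.B2, Op.R, Op.B2, Op.R, Op.B2, Op.R, Op.B3, Op.R, Op.R, Op.B3, Op.R, Op.R, Op.B3, Op.R, Op.R, Op.B2, Op.R, Op.B2, Op.R, Op.C, Op.L, Op.L, Op.L, Op.L, Op.L, Op.L, Op.L, Op.L, Op.L, Op.B2, Op.R, Op.B2, Op.R, Op.B2, Op.R, Op.B2, Op.R, Op.B2, Op.R, Op.B2, Op.R, Op.B3, Op.R,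 Op.R, Op.C, Op.L, Op.L, Op.L, Op.L, Op.L, Op.L, Op.L, Op.L, Op.L, Op.B2, Op.R, Op.B2, Op.L, Op.L, Op.L, Op.B3, Op.R, Op.R, Op.B2, Op.R, Op.B3, Op.R, Op.R, Op.B2, Op.R, Op.B2, Op.R, Op.B3, Op.R, Op.R, Op.B2, Op.R, Op.C, Op.L, Op.L, Op.L, Op.L, Op.L, Op.B2, Op.L, Op.L, Op.L, Op.L, Op.L, Op.L, Op.L, Op.B2, Op.L, Op.B2, Op.R, Op.B3, Op.R, Op.R, Op.B2, Op.R, Op.B2, Op.R, Op.B2, Op.R, Op.B3, Op.R, Op.R, Op.B3, Op.R, Op.R, Op.B2, Op.R, Op.B2, Op.R, Op.C, Op.L, Op.L, Op.L, Op.L, Op.L, Op.L, Op.L, Op.L, Op.B2, Op.R, Op.B2, Op.R, Op.B2, Op.L, Op.L, Op.L, Op.B2, Op.L, Op.L, Op.L, Op.L, Op.L, Op.B2, Op.R, Op.B2, Op.R, Op.B2, Op.R, Op.B3, Op.R, Op.R, Op.B3, Op.R, Op.R, Op.B2, Op.R, Op.B3, Op.R, Op.R, Op.B2, Op.R, Op.B2, Op.R,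 Op.B2, Op.R, Op.C, Op.L, Op.C, Op.L, Op.L, Op.L, Op.L, Op.L, Op.B2, Op.R, Op.B2, Op.L, Op.L, Op.B2, Op.L, Op.L, Op.L, Op.L, Op.L, Op.B2, Op.R, Op.B2, Op.R, Op.B2, Op.R, Op.B3, Op.R, Op.R, Op.B3, Op.R, Op.R, Op.B3, Op.R, Op.R, Op.B2, Op.R, Op.C, Op.L, Op.C, Op.L, Op.C, Op.L, Op.L, Op.B2, Op.R, Op.C, Op.L, Op.L, Op.L, Op.B2, Op.R, Op.B2, Op.R, Op.C, Op.L, Op.L, Op.L, Op.L, Op.L, Op.L, Op.L, Op.L, Op.L, Op.B2, Op.R, Op.B2, Op.R, Op.B2, Op.R, Op.B2, Op.L, Op.L, Op.L, Op.L, Op.L, Op.B3, Op.R, Op.R, Op.B2, Op.R, Op.B2, Op.L, Op.L, Op.L, Op.L, Op.B2, Op.R, Op.B3, Op.L, Op.L, Op.L, Op.B2, Op.R, Op.B2, Op.L, Op.L, Op.B2, Op.L, Op.L, Op.B2, Op.R, Op.B2, Op.R, Op.B3, Op.R, Op.R, Op.B3, Op.R, Op.R, Op.B2, Op.R, Op.B3, Op.R,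 Op.R, Op.B3, Op.R, Op.R, Op.B3, Op.R, Op.R, Op.B2, Op.R, Op.B2, Op.R, Op.B2, Op.R, Op.C, Op.L, Op.C, Op.L, Op.L, Op.L, Op.B2, Op.L, Op.L, Op.B2, Op.L, Op.L, Op.L, Op.L, Op.L, Op.B3, Op.R, Op.R, Op.B2, Op.R, Op.B2, Op.R, Op.B2, Op.R, Op.B3, Op.R, Op.R, Op.B3, Op.R, Op.R, Op.C, Op.L, Op.C, Op.L, Op.L, Op.B2, Op.R, Op.C, Op.L, Op.L, Op.L, Op.L, Op.L, Op.L, Op.L, Op.L, Op.L, Op.L, Op.L, Op.B2, Op.R, Op.B2, Op.R, Op.B2, Op.L, Op.L, Op.L, Op.L, Op.B3, Op.R, Op.R, Op.B2, Op.R, Op.B2, Op.R, Op.B3, Op.R, Op.R, Op.B2, Op.R, Op.B2, Op.R, Op.B2, Op.R, Op.B2, Op.R, Op.B2, Op.R, Op.B2, Op.R, Op.C, Op.L, Op.L, Op.L, Op.B2, Op.L, Op.L, Op.L, Op.L, Op.L, Op.L, Op.B2, Op.R, Op.B2, Op.R, Op.B3, Op.R, Op.R, Op.B3, Op.R, Op.R, Op.B3,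 Op.R, Op.R, Op.C, Op.L, Op.L, Op.L, Op.L, Op.L, Op.B2, Op.L, Op.L, Op.L, Op.L, Op.B2, Op.R, Op.B2, Op.R, Op.B3, Op.R, Op.R, Op.B3, Op.R, Op.R, Op.B2, Op.R, Op.B2, Op.R, Op.C, Op.L, Op.C, Op.L, Op.L, Op.B2, Op.R, Op.C, Op.L, Op.L, Op.L, Op.L, Op.L, Op.L, Op.L, Op.B2, Op.R, Op.B3, Op.R, Op.R, Op.B2, Op.R, Op.B2, Op.R, Op.B2, Op.R, Op.C, Op.L, Op.L, Op.L, Op.L, Op.L, Op.L, Op.L, Op.B3, Op.R, Op.R, Op.B2, Op.R, Op.B2, Op.R, Op.B2, Op.R, Op.B2, Op.R, Op.C, Op.L, Op.C, Op.L, Op.C, Op.L, Op.C, Op.L, Op.C, Op.L, Op.C, Op.L, Op.C]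
    [5, 4, 3, 2, 1, 3]
    [0, 3, 2, 0, 1, 3, 4, 5, 3, 2, 1, 3, 4, 5, 0, 2, 3, 1, 3, 2, 0, 4, 3, 2, 4, 5, 0, 1, 2, 3, 4, 5, 0, 1, 2, 3, 4, 5, 0, 1, 2, 3, 4, 5, 0, 1, 2, 3, 4, 5, 0, 1, 2, 3, 4, 5] =
    ([],
     []) := by decide +kernel

set_option maxRecDepth 100000 in
theorem upper : ((List.finRange 6).map CoxeterMatrix.E₆.simple).prod ^ 12 = 1 :=
  pow_eq_one_of_exec CoxeterMatrix.E₆ 12 [0, 1, 2, 3, 4, 5, 0, 1, 2, 3, 4, 5, 0, 1, 2, 3, 4, 5, 0, 1, 2, 3, 4, 5, 0, 1, 2, 3, 4, 5, 0, 1, 2, 3, 4, 5, 0, 1, 2, 3, 4, 5, 0, 1, 2, 3, 4, 5, 0, 1, 2, 3, 4, 5, 0, 1, 2, 3, 4, 5, 0, 1, 2, 3, 4, 5, 0, 1, 2, 3, 4, 5] (by decide +kernel)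
    ((val_eq_of_exec _ _ _ _ _ _ chunk0).trans
    (val_eq_of_exec _ _ _ _ _ _ chunk1))

set_option maxRecDepth 100000 in
theorem order : orderOf ((List.finRange 6).map CoxeterMatrix.E₆.simple).prod = 12 :=
  order_coxeter CoxeterMatrix.E₆ S liftable 12 [6, 4] (by norm_num) upper (by decide +kernel) (by decide +kernel)

end Cfsg.Agent.H24.Cox.E6
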