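import Mathlib
import Cfsg.Agent.H24.CoxOrder

/-! Order of the Coxeter element of type E7: generated certificate. -/

namespace Cfsg.Agent.H24.Cox.E7

open Cfsg.Agent.H24.Cox

/-- Integer reflection matrices of the simple reflections. -/
def S : Fin 7 → Matrix (Fin 7) (Fin 7) ℤ := ![
  !![-1, 0, 1, 0, 0, 0, 0; 0, 1, 0, 0, 0, 0, 0; 0, 0, 1, 0, 0, 0, 0; 0, 0, 0, 1, 0, 0, 0; 0, 0, 0, 0, 1, 0, 0; 0, 0, 0, 0, 0, 1, 0; 0, 0, 0, 0, 0, 0, 1],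
  !![1, 0, 0, 0, 0, 0, 0; 0, -1, 0, 1, 0, 0, 0; 0, 0, 1, 0, 0, 0, 0; 0, 0, 0, 1, 0, 0, 0; 0, 0, 0, 0, 1, 0, 0; 0, 0, 0, 0, 0, 1, 0; 0, 0, 0, 0, 0, 0, 1],
  !![1, 0, 0, 0, 0, 0, 0; 0, 1, 0, 0, 0, 0, 0; 1, 0, -1, 1, 0, 0, 0; 0, 0, 0, 1, 0, 0, 0; 0, 0, 0, 0, 1, 0, 0; 0, 0, 0, 0, 0, 1, 0; 0, 0, 0, 0, 0, 0, 1],
  !![1, 0, 0, 0, 0, 0, 0; 0, 1, 0, 0, 0, 0, 0; 0, 0, 1, 0, 0, 0, 0; 0, 1, 1, -1, 1, 0, 0; 0, 0, 0, 0, 1, 0, 0; 0, 0, 0, 0, 0, 1, 0; 0, 0, 0, 0, 0, 0, 1],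
  !![1, 0, 0, 0, 0, 0, 0; 0, 1, 0, 0, 0, 0, 0; 0, 0, 1, 0, 0, 0, 0; 0, 0, 0, 1, 0, 0, 0; 0, 0, 0, 1, -1, 1, 0; 0, 0, 0, 0, 0, 1, 0; 0, 0, 0, 0, 0, 0, 1],
  !![1, 0, 0, 0, 0, 0, 0; 0, 1, 0, 0, 0, 0, 0; 0, 0, 1, 0, 0, 0, 0; 0, 0, 0, 1, 0, 0, 0; 0, 0, 0, 0, 1, 0, 0; 0, 0, 0, 0, 1, -1, 1; 0, 0, 0, 0, 0, 0, 1],
  !![1, 0, 0, 0, 0, 0, 0; 0, 1, 0, 0, 0, 0, 0; 0, 0, 1, 0, 0, 0, 0; 0, 0, 0, 1, 0, 0, 0; 0, 0, 0, 0, 1, 0, 0; 0, 0, 0, 0, 0, 1, 0; 0, 0, 0, 0, 0, 1, -1]]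

set_option maxRecDepth 100000 in
theorem liftable : CoxeterMatrix.E₇.IsLiftable S := by
  unfold CoxeterMatrix.IsLiftable; decide +kernel

set_option maxRecDepth 1000000 in
theorem chunk0 : exec (Mt CoxeterMatrix.E₇) [Op.R, Op.R, Op.R, Op.R, Op.R, Op.R, Op.R, Op.R, Op.R, Op.R, Op.R, Op.R, Op.R, Op.R, Op.R, Op.R, Op.R, Op.R, Op.R, Op.R, Op.R, Op.R, Op.R, Op.R, Op.R, Op.R, Op.R, Op.R, Op.R, Op.R, Op.R, Op.R, Op.R, Op.R, Op.R, Op.R, Op.R, Op.R, Op.R, Op.R, Op.R, Op.R, Op.R, Op.R, Op.R, Op.R, Op.R, Op.R, Op.R, Op.R, Op.R, Op.R, Op.R, Op.R, Op.R, Op.R, Op.B2, Op.L, Op.L, Op.L, Op.L, Op.L, Op.L, Op.L, Op.L, Op.L, Op.L, Op.L, Op.L, Op.L, Op.L, Op.L, Op.L, Op.L, Op.L, Op.L, Op.L, Op.L, Op.L, Op.L, Op.L, Op.L,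 Op.L, Op.L, Op.L, Op.L, Op.B2, Op.R, Op.B2, Op.R, Op.B2, Op.R, Op.B2, Op.R, Op.B2, Op.R, Op.B3, Op.R, Op.R, Op.B2, Op.R, Op.B2, Op.R, Op.B2, Op.R, Op.B2, Op.R, Op.B3, Op.R, Op.R, Op.B2, Op.R, Op.B2, Op.R, Op.B2, Op.R, Op.B2, Op.R, Op.B3, Op.R, Op.R, Op.B2, Op.R, Op.B2, Op.R, Op.B2, Op.L, Op.L, Op.L, Op.L, Op.L, Op.L, Op.B2, Op.L, Op.L, Op.L, Op.L, Op.L, Op.L, Op.L, Op.L, Op.L, Op.L, Op.L, Op.L, Op.L, Op.L, Op.L, Op.L, Op.B2, Op.R, Op.B2, Op.R, Op.B2, Op.R, Op.B2, Op.R, Op.B3, Op.R, Op.R, Op.B2, Op.R, Op.B2, Op.R, Op.B2, Op.R, Op.B2, Op.R, Op.B3, Op.R, Op.R, Op.B2, Op.R, Op.B2, Op.R, Op.B2, Op.L, Op.L, Op.L, Op.L, Op.L, Op.L, Op.L, Op.L, Op.L, Op.L, Op.L, Op.L, Op.L, Op.L, Op.L, Op.B2, Op.R, Op.B2, Op.R,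 Op.B2, Op.R, Op.B3, Op.R, Op.R, Op.B2, Op.R, Op.B2, Op.R, Op.B2, Op.L, Op.L, Op.L, Op.L, Op.L, Op.L, Op.B2, Op.L, Op.L, Op.B2, Op.L, Op.L, Op.L, Op.B2, Op.R, Op.B3, Op.R, Op.R, Op.B3, Op.R, Op.R, Op.B3, Op.R, Op.R, Op.B2, Op.R, Op.B2, Op.R, Op.B2, Op.R, Op.B2, Op.R, Op.B3, Op.R, Op.R, Op.B3, Op.R, Op.R, Op.B2, Op.R, Op.B2, Op.R, Op.B2, Op.L, Op.L, Op.L, Op.L, Op.L, Op.L, Op.L, Op.B2, Op.R, Op.B2, Op.L, Op.L, Op.L, Op.L, Op.L, Op.L, Op.L, Op.B2, Op.L, Op.L, Op.L, Op.L, Op.B2, Op.R, Op.B2, Op.R, Op.B3, Op.R, Op.R, Op.B3, Op.R, Op.R, Op.B2, Op.R, Op.B2, Op.R, Op.B2, Op.L, Op.L, Op.L, Op.L, Op.L, Op.L, Op.L, Op.L, Op.L, Op.L, Op.L, Op.L, Op.L, Op.L, Op.L, Op.L, Op.L, Op.L, Op.L, Op.L, Op.L, Op.L, Op.L, Op.B2,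 Op.R, Op.B2, Op.R, Op.B2, Op.R, Op.B2, Op.R, Op.B2, Op.R, Op.B3, Op.R, Op.R, Op.B2, Op.R, Op.B2, Op.R, Op.B2, Op.R, Op.B2, Op.R, Op.B3, Op.R, Op.R, Op.B2, Op.R, Op.B2, Op.R, Op.B2, Op.L, Op.L, Op.L, Op.L, Op.L, Op.L, Op.L, Op.L, Op.L, Op.L, Op.L, Op.L, Op.L, Op.L, Op.L, Op.L, Op.B2, Op.R, Op.B2, Op.R, Op.B2, Op.R, Op.B2, Op.R, Op.B3, Op.R, Op.R, Op.B2, Op.R, Op.B2, Op.R, Op.B2, Op.R, Op.B2, Op.R, Op.B3, Op.R, Op.R, Op.B2, Op.R, Op.B2, Op.L, Op.L, Op.L, Op.L, Op.L, Op.L, Op.L, Op.L, Op.L, Op.L, Op.L, Op.L, Op.L, Op.L, Op.B2, Op.R, Op.B2, Op.R, Op.B2, Op.R, Op.B3, Op.R, Op.R, Op.B2, Op.R, Op.B2, Op.R, Op.B2, Op.L, Op.L, Op.L, Op.L, Op.L, Op.L, Op.B2, Op.L, Op.L, Op.B2, Op.L, Op.L, Op.L, Op.B2, Op.R, Op.B3,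 Op.R, Op.R, Op.B3, Op.R, Op.R, Op.B3, Op.R, Op.R, Op.B2, Op.R, Op.B2, Op.R, Op.B2, Op.R, Op.B2, Op.R, Op.B3, Op.R, Op.R, Op.B3, Op.R, Op.R, Op.B2, Op.R, Op.B2, Op.R, Op.B2, Op.R, Op.B3, Op.R, Op.R, Op.B2, Op.R, Op.B3, Op.R, Op.R, Op.B2, Op.R, Op.B2, Op.R, Op.B3, Op.R, Op.R, Op.B2, Op.R, Op.B2, Op.R, Op.B3, Op.R, Op.R, Op.B2, Op.R, Op.B3, Op.R, Op.R, Op.B2, Op.R, Op.B2, Op.R, Op.B2, Op.R, Op.B2, Op.R, Op.B3, Op.R, Op.R, Op.B3, Op.R, Op.R, Op.B3, Op.R, Op.R, Op.B2, Op.R, Op.B2, Op.R, Op.B2, Op.R, Op.B2, Op.R, Op.B3, Op.R, Op.R, Op.B3, Op.R, Op.R, Op.B2, Op.R, Op.B2, Op.R, Op.B2, Op.R, Op.B2, Op.R, Op.B3, Op.R, Op.R, Op.B2, Op.R, Op.B2, Op.R, Op.B2, Op.R, Op.B2, Op.R, Op.C, Op.L, Op.L, Op.L, Op.L, Op.L,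 Op.L, Op.L, Op.B2, Op.R, Op.B2, Op.L, Op.L, Op.L, Op.L, Op.L, Op.L, Op.L, Op.L, Op.L, Op.L, Op.L, Op.L, Op.L, Op.L, Op.L, Op.L, Op.L, Op.L, Op.L, Op.L, Op.L, Op.L, Op.L, Op.L, Op.L, Op.L, Op.L, Op.L, Op.B2, Op.R, Op.B2, Op.R, Op.B2, Op.R, Op.B2, Op.R, Op.B2, Op.R, Op.B2, Op.R, Op.B2, Op.R, Op.B3, Op.R, Op.R, Op.B2, Op.R, Op.B2, Op.R, Op.B2, Op.R, Op.B2, Op.R, Op.B2, Op.R, Op.B2, Op.R, Op.B3, Op.R, Op.R, Op.B2, Op.R, Op.B2, Op.L, Op.L, Op.L, Op.L, Op.L, Op.L, Op.L, Op.L, Op.L, Op.L, Op.L, Op.L, Op.L, Op.L, Op.L, Op.L, Op.L, Op.L, Op.L, Op.B2, Op.R, Op.B2, Op.R, Op.B2, Op.R, Op.B2, Op.R, Op.B2, Op.R, Op.B2, Op.R, Op.B3, Op.R, Op.R, Op.B2, Op.R, Op.B2, Op.R, Op.B2, Op.L, Op.L, Op.L, Op.L, Op.L, Op.L, Op.L,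 Op.L, Op.L, Op.L, Op.L, Op.B2, Op.L, Op.L, Op.B3, Op.R, Op.R, Op.B3, Op.R, Op.R, Op.B2, Op.R, Op.B2, Op.R, Op.B2, Op.R, Op.B3, Op.R, Op.R, Op.B2, Op.R, Op.B2, Op.L, Op.L, Op.L, Op.L, Op.L, Op.L, Op.L, Op.L, Op.L, Op.L, Op.L, Op.L, Op.B3, Op.R, Op.R, Op.B2, Op.R, Op.B2, Op.R, Op.B3, Op.R, Op.R, Op.B2, Op.R, Op.B3, Op.R, Op.R, Op.B2, Op.R, Op.B2, Op.R, Op.B2, Op.R, Op.B3, Op.R, Op.R, Op.B2, Op.R, Op.B3, Op.R, Op.R, Op.B2, Op.R, Op.B2, Op.R, Op.B3, Op.R, Op.R, Op.B2, Op.R, Op.B2, Op.R, Op.B2, Op.R, Op.B3, Op.R, Op.R, Op.B2, Op.R, Op.B2, Op.R, Op.B3, Op.R, Op.R, Op.B2, Op.R, Op.B2, Op.R, Op.B2, Op.L, Op.L, Op.L, Op.L, Op.L, Op.L, Op.L, Op.L, Op.L, Op.L, Op.L, Op.L, Op.L, Op.L, Op.L, Op.L, Op.L, Op.L, Op.L,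 Op.L, Op.L, Op.L, Op.L, Op.L, Op.L, Op.L, Op.L, Op.L, Op.L, Op.L, Op.B2, Op.L, Op.L, Op.L, Op.B2, Op.R, Op.B3, Op.R, Op.R, Op.B3, Op.R, Op.R, Op.B2, Op.R, Op.B3, Op.R, Op.R, Op.B2, Op.R, Op.B2, Op.R, Op.B2, Op.R, Op.B2, Op.R, Op.B2, Op.R, Op.B3, Op.R, Op.R, Op.B2, Op.R, Op.B3, Op.R, Op.R, Op.B3, Op.R, Op.R, Op.B2, Op.R, Op.B2, Op.R, Op.B2, Op.R, Op.B2, Op.R, Op.B2, Op.R, Op.B3, Op.R, Op.R, Op.B3, Op.R, Op.R, Op.B2, Op.R, Op.B2, Op.R, Op.B2, Op.L, Op.L, Op.L, Op.L, Op.L, Op.L, Op.L, Op.L, Op.B2, Op.R, Op.B2, Op.R, Op.B2, Op.L, Op.L, Op.L, Op.L, Op.L, Op.L, Op.L, Op.L, Op.B2, Op.L, Op.L, Op.L, Op.L, Op.L, Op.L, Op.L, Op.L, Op.L, Op.L, Op.L, Op.L, Op.B2, Op.R, Op.B2, Op.L, Op.L, Op.B2, Op.L, Op.L, Op.L,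 Op.L, Op.L, Op.B2, Op.R, Op.B2, Op.R, Op.B2, Op.R, Op.B3, Op.R, Op.R, Op.B3, Op.R, Op.R, Op.B3, Op.R, Op.R, Op.B2, Op.R, Op.B2, Op.R, Op.B2, Op.L, Op.L, Op.L, Op.L, Op.L, Op.L, Op.L, Op.L, Op.L, Op.B2, Op.R, Op.B2, Op.L, Op.L, Op.L, Op.L, Op.B2, Op.R, Op.B3, Op.R, Op.R, Op.B2, Op.R, Op.B3, Op.R, Op.R, Op.B2, Op.R, Op.B2, Op.R, Op.B3, Op.R, Op.R, Op.B2, Op.R, Op.B2, Op.R, Op.B3, Op.R, Op.R, Op.B2, Op.R, Op.B2, Op.R, Op.B2, Op.R, Op.B3, Op.R, Op.R, Op.B3, Op.R, Op.R, Op.B2, Op.R, Op.B2, Op.R, Op.B2, Op.R, Op.B2, Op.L, Op.L, Op.L, Op.L, Op.L, Op.L, Op.L, Op.L, Op.L, Op.L, Op.L, Op.L, Op.L, Op.L, Op.L, Op.L, Op.L, Op.L, Op.B2, Op.L, Op.L, Op.L, Op.L, Op.L, Op.L, Op.L, Op.B3, Op.R, Op.R, Op.B2, Op.R, Op.B2,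 Op.R, Op.B2, Op.R, Op.B3, Op.R, Op.R, Op.B3, Op.R, Op.R, Op.B2, Op.R, Op.B2, Op.R, Op.B2]
    []
    [0, 1, 2, 3, 4, 5, 6, 0, 1, 2, 3, 4, 5, 6, 0, 1, 2, 3, 4, 5, 6, 0, 1, 2, 3, 4, 5, 6, 0, 1, 2, 3, 4, 5, 6, 0, 1, 2, 3, 4, 5, 6, 0, 1, 2, 3, 4, 5, 6, 0, 1, 2, 3, 4, 5, 6, 0, 1, 2, 3, 4, 5, 6, 0, 1, 2, 3, 4, 5, 6, 0, 1, 2, 3, 4, 5, 6, 0, 1, 2, 3, 4, 5, 6, 0, 1, 2, 3, 4, 5, 6, 0, 1, 2, 3, 4, 5, 6, 0, 1, 2, 3, 4, 5, 6, 0, 1, 2, 3, 4, 5, 6, 0, 1, 2, 3, 4, 5, 6, 0, 1, 2, 3, 4, 5, 6] =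
    ([5, 4, 3, 2, 1, 3, 4, 0, 2, 3, 1, 6, 5, 4, 3, 2, 1, 3, 0, 6, 5, 4, 3, 1, 2, 3, 0, 2, 1],
     [6, 2, 1, 3, 2, 0, 4, 3, 1, 2, 3, 4, 5, 6, 4, 2, 3, 1, 0, 2, 3, 4, 5, 6, 2, 0, 3, 2, 1, 3, 4, 5, 6, 1, 2, 3, 4, 5, 6, 0, 1, 2, 3, 4, 5, 6, 0, 1, 2, 3, 4, 5, 6, 0, 1, 2, 3, 4, 5, 6, 0, 1, 2, 3, 4, 5, 6, 0, 1, 2, 3, 4, 5, 6, 0, 1, 2, 3, 4, 5, 6, 0, 1, 2, 3, 4, 5, 6, 0, 1, 2, 3, 4, 5, 6]) := by decide +kernel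

set_option maxRecDepth 1000000 in
theorem chunk1 : exec (Mt CoxeterMatrix.E₇) [Op.R, Op.B2, Op.R, Op.B3, Op.R, Op.R, Op.B2, Op.R, Op.B3, Op.R, Op.R, Op.B2, Op.R, Op.B2, Op.R, Op.B3, Op.R, Op.R, Op.B2, Op.R, Op.B2, Op.L, Op.L, Op.L, Op.L, Op.L, Op.L, Op.L, Op.L, Op.L, Op.L, Op.L, Op.L, Op.L, Op.L, Op.L, Op.L, Op.L, Op.L, Op.L, Op.L, Op.L, Op.L, Op.L, Op.L, Op.B2, Op.R, Op.B2, Op.R, Op.B2, Op.R, Op.B2, Op.R, Op.B2, Op.R, Op.B2, Op.R, Op.B2, Op.R, Op.B2, Op.R, Op.B2, Op.R, Op.B2, Op.R, Op.B3, Op.R, Op.R, Op.B2, Op.R, Op.B2, Op.R, Op.B2, Op.R, Op.B2, Op.L, Op.L, Op.L, Op.L, Op.L, Op.L, Op.L, Op.L, Op.L, Op.L, Op.L, Op.L, Op.L, Op.L, Op.L, Op.L, Op.B2, Op.R, Op.B2, Op.R, Op.B2, Op.R, Op.B2, Op.L, Op.L, Op.L,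 Op.L, Op.B2, Op.L, Op.L, Op.L, Op.B2, Op.R, Op.B3, Op.R, Op.R, Op.B3, Op.R, Op.R, Op.B2, Op.R, Op.B2, Op.R, Op.B3, Op.R, Op.R, Op.B2, Op.R, Op.B2, Op.R, Op.B2, Op.R, Op.B2, Op.R, Op.B3, Op.R, Op.R, Op.B2, Op.R, Op.B2, Op.L, Op.L, Op.L, Op.L, Op.L, Op.L, Op.L, Op.L, Op.L, Op.L, Op.L, Op.L, Op.L, Op.L, Op.L, Op.L, Op.L, Op.B3, Op.R, Op.R, Op.B2, Op.R, Op.B2, Op.R, Op.B3, Op.R, Op.R, Op.B2, Op.R, Op.B2, Op.R, Op.B3, Op.R, Op.R, Op.B2, Op.R, Op.B2, Op.R, Op.B3, Op.R, Op.R, Op.B2, Op.R, Op.B2, Op.L, Op.L, Op.L, Op.L, Op.L, Op.B2, Op.L, Op.L, Op.L, Op.L, Op.L, Op.L, Op.L, Op.L, Op.L, Op.L, Op.L, Op.L, Op.L, Op.L, Op.L, Op.L, Op.L, Op.B2, Op.L, Op.L, Op.L, Op.L, Op.B2, Op.R, Op.B2, Op.R, Op.B3, Op.R, Op.R,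 Op.B3, Op.R, Op.R, Op.B2, Op.R, Op.B2, Op.R, Op.B2, Op.R, Op.B3, Op.R, Op.R, Op.B2, Op.R, Op.B2, Op.R, Op.B2, Op.R, Op.B2, Op.R, Op.B3, Op.R, Op.R, Op.B2, Op.R, Op.B2, Op.R, Op.B3, Op.R, Op.R, Op.B3, Op.R, Op.R, Op.B2, Op.R, Op.B2, Op.R, Op.B2, Op.R, Op.B3, Op.R, Op.R, Op.B3, Op.R, Op.R, Op.B2, Op.R, Op.B2, Op.R, Op.B3, Op.R, Op.R, Op.B2, Op.R, Op.B2, Op.R, Op.B2, Op.R, Op.B2, Op.R, Op.B3, Op.R, Op.R, Op.B2, Op.R, Op.B3, Op.R, Op.R, Op.B3, Op.R, Op.R, Op.B2, Op.R, Op.B3, Op.R, Op.R, Op.B2, Op.R, Op.B2, Op.R, Op.B2, Op.R, Op.B2, Op.R, Op.B3, Op.R, Op.R, Op.B3, Op.R, Op.R, Op.B3, Op.R, Op.R, Op.B2, Op.R, Op.B2, Op.R, Op.B2, Op.R, Op.C, Op.L, Op.L, Op.L, Op.L, Op.L, Op.L, Op.B2, Op.L, Op.L, Op.L, Op.L,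 Op.L, Op.L, Op.L, Op.L, Op.L, Op.L, Op.B2, Op.R, Op.B2, Op.L, Op.L, Op.B2, Op.L, Op.L, Op.L, Op.L, Op.L, Op.L, Op.L, Op.L, Op.L, Op.L, Op.L, Op.L, Op.L, Op.B2, Op.R, Op.B2, Op.R, Op.B2, Op.R, Op.B2, Op.L, Op.L, Op.L, Op.L, Op.B2, Op.R, Op.B2, Op.L, Op.L, Op.B2, Op.L, Op.L, Op.L, Op.L, Op.L, Op.L, Op.L, Op.L, Op.L, Op.L, Op.L, Op.L, Op.L, Op.L, Op.L, Op.L, Op.L, Op.L, Op.L, Op.L, Op.L, Op.B2, Op.R, Op.B2, Op.R, Op.B2, Op.R, Op.B2, Op.R, Op.B2, Op.R, Op.B2, Op.R, Op.B2, Op.R, Op.B2, Op.L, Op.L, Op.L, Op.L, Op.L, Op.L, Op.L, Op.L, Op.B2, Op.R, Op.B2, Op.R, Op.B2, Op.R, Op.B2, Op.L, Op.L, Op.L, Op.L, Op.B2, Op.R, Op.B2, Op.L, Op.L, Op.B2, Op.L, Op.L, Op.L, Op.L, Op.B2, Op.R, Op.B2, Op.R, Op.B3, Op.R, Op.R,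 Op.B3, Op.R, Op.R, Op.B3, Op.R, Op.R, Op.B2, Op.R, Op.B3, Op.R, Op.R, Op.B2, Op.R, Op.B2, Op.R, Op.B2, Op.R, Op.B3, Op.R, Op.R, Op.B2, Op.R, Op.B2, Op.R, Op.B2, Op.R, Op.B2, Op.R, Op.B2, Op.R, Op.B2, Op.R, Op.B3, Op.R, Op.R, Op.B2, Op.R, Op.B2, Op.R, Op.B3, Op.R, Op.R, Op.B3, Op.R, Op.R, Op.B3, Op.R, Op.R, Op.B2, Op.R, Op.B3, Op.R, Op.R, Op.B2, Op.R, Op.B2, Op.R, Op.B2, Op.R, Op.B2, Op.R, Op.B2, Op.R, Op.B2, Op.R, Op.B3, Op.R, Op.R, Op.B3, Op.R, Op.R, Op.B3, Op.R, Op.R, Op.B2, Op.R, Op.B2, Op.R, Op.B2, Op.R, Op.B2, Op.R, Op.B2, Op.R, Op.B3, Op.R, Op.R, Op.B3, Op.R, Op.R, Op.B2, Op.R, Op.B2, Op.R, Op.B2, Op.R, Op.C, Op.L, Op.L, Op.L, Op.L, Op.L, Op.L, Op.L, Op.L, Op.L, Op.L, Op.L, Op.L, Op.L, Op.L, Op.L,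 Op.L, Op.L, Op.L, Op.L, Op.L, Op.L, Op.L, Op.L, Op.L, Op.L, Op.L, Op.L, Op.L, Op.L, Op.L, Op.L, Op.L, Op.L, Op.L, Op.L, Op.L, Op.B2, Op.R, Op.B2, Op.R, Op.B2, Op.L, Op.L, Op.L, Op.B2, Op.R, Op.B2, Op.L, Op.L, Op.L, Op.B3, Op.R, Op.R, Op.B2, Op.R, Op.B3, Op.R, Op.R, Op.B3, Op.R, Op.R, Op.B2, Op.R, Op.B2, Op.R, Op.B2, Op.R, Op.B2, Op.R, Op.B2, Op.R, Op.B2, Op.R, Op.B2, Op.R, Op.B2, Op.R, Op.B2, Op.R, Op.B3, Op.R, Op.R, Op.B2, Op.L, Op.L, Op.L, Op.L, Op.L, Op.L, Op.L, Op.L, Op.L, Op.L, Op.L, Op.L, Op.B2, Op.L, Op.L, Op.B2, Op.L, Op.L, Op.L, Op.L, Op.L, Op.B2, Op.R, Op.B3, Op.R, Op.R, Op.B2, Op.R, Op.B2, Op.R, Op.B3, Op.R, Op.R, Op.B3, Op.R, Op.R, Op.B2, Op.R, Op.B2, Op.R, Op.B2, Op.R, Op.B2, Op.R, Op.B2,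 Op.R, Op.B2, Op.R, Op.B3, Op.R, Op.R, Op.B2, Op.L, Op.L, Op.L, Op.L, Op.L, Op.L, Op.L, Op.L, Op.L, Op.B2, Op.L, Op.L, Op.B2, Op.L, Op.L, Op.L, Op.L, Op.L, Op.L, Op.L, Op.B2, Op.L, Op.L, Op.B3, Op.R, Op.R, Op.B3, Op.R, Op.R, Op.B2, Op.R, Op.B2, Op.R, Op.B2, Op.R, Op.B2, Op.R, Op.B2, Op.R, Op.B3, Op.R, Op.R, Op.B3, Op.R, Op.R, Op.B2, Op.R, Op.B2, Op.R, Op.B2, Op.R, Op.B3, Op.R, Op.R, Op.B2, Op.R, Op.B2, Op.R, Op.B3, Op.R, Op.R, Op.B3, Op.R, Op.R, Op.B2, Op.R, Op.B2, Op.R, Op.B2, Op.R, Op.B2, Op.R, Op.B2, Op.R, Op.B2, Op.R, Op.B3, Op.R, Op.R, Op.B2, Op.R, Op.B2, Op.R, Op.B2, Op.L, Op.L, Op.L, Op.L, Op.L, Op.L, Op.L, Op.L, Op.L, Op.L, Op.L, Op.B2, Op.R, Op.B2, Op.L, Op.L, Op.L, Op.B2, Op.L, Op.L, Op.L, Op.L,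 Op.L, Op.L, Op.L, Op.L, Op.L, Op.L, Op.L, Op.L, Op.L, Op.L, Op.L, Op.L, Op.L, Op.B2, Op.R, Op.B2, Op.R, Op.B2, Op.R, Op.B2, Op.L, Op.L, Op.L, Op.L, Op.B2, Op.R, Op.B2, Op.L, Op.L, Op.L, Op.B2, Op.L, Op.L, Op.B2, Op.R, Op.B2, Op.R, Op.B3, Op.R, Op.R, Op.B2, Op.R, Op.B3, Op.R, Op.R, Op.B2, Op.R, Op.B3, Op.R, Op.R, Op.B2, Op.R, Op.B2, Op.R, Op.B3, Op.R, Op.R, Op.B2, Op.R, Op.B3, Op.R, Op.R, Op.B2, Op.R, Op.B2, Op.R, Op.B2, Op.R, Op.B2, Op.R, Op.B2, Op.R, Op.B3, Op.R, Op.R, Op.B2, Op.R, Op.B3, Op.R, Op.R, Op.B2, Op.R, Op.B2, Op.R, Op.B3, Op.R, Op.R, Op.B2, Op.R, Op.B2, Op.L, Op.L, Op.L, Op.L, Op.L, Op.B2, Op.L, Op.L, Op.L, Op.L, Op.L, Op.L, Op.L, Op.L, Op.L, Op.L, Op.L, Op.L, Op.L, Op.L, Op.B2, Op.R, Op.B2,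 Op.L, Op.L, Op.B2, Op.L, Op.L, Op.B2, Op.L, Op.L, Op.L, Op.L, Op.L, Op.L, Op.L, Op.L, Op.L, Op.L, Op.L, Op.L, Op.B2, Op.R, Op.B2, Op.L, Op.L, Op.B2, Op.L, Op.B2, Op.R, Op.B3, Op.R, Op.R, Op.B3, Op.R, Op.R, Op.B2, Op.R, Op.B2, Op.R, Op.B2, Op.R, Op.B2, Op.R, Op.B2, Op.R, Op.B2, Op.R, Op.B2, Op.R, Op.B2, Op.R, Op.B2, Op.R, Op.B3, Op.R, Op.R, Op.B3, Op.R, Op.R, Op.B3, Op.R, Op.R, Op.B2, Op.R, Op.B2, Op.R, Op.B2, Op.R, Op.B2, Op.R, Op.B2, Op.L, Op.L, Op.L, Op.L, Op.L, Op.L, Op.L, Op.L, Op.L, Op.L, Op.L, Op.B2, Op.R, Op.B2, Op.L, Op.L, Op.L, Op.L, Op.L, Op.L, Op.L, Op.L, Op.L, Op.L, Op.B2, Op.R, Op.B2, Op.R, Op.B2, Op.L, Op.L, Op.L, Op.L, Op.B2, Op.L, Op.L, Op.L, Op.B2, Op.R, Op.B2, Op.R]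
    [5, 4, 3, 2, 1, 3, 4, 0, 2, 3, 1, 6, 5, 4, 3, 2, 1, 3, 0, 6, 5, 4, 3, 1, 2, 3, 0, 2, 1]
    [6, 2, 1, 3, 2, 0, 4, 3, 1, 2, 3, 4, 5, 6, 4, 2, 3, 1, 0, 2, 3, 4, 5, 6, 2, 0, 3, 2, 1, 3, 4, 5, 6, 1, 2, 3, 4, 5, 6, 0, 1, 2, 3, 4, 5, 6, 0, 1, 2, 3, 4, 5, 6, 0, 1, 2, 3, 4, 5, 6, 0, 1, 2, 3, 4, 5, 6, 0, 1, 2, 3, 4, 5, 6, 0, 1, 2, 3, 4, 5, 6, 0, 1, 2, 3, 4, 5, 6, 0, 1, 2, 3, 4, 5, 6] =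
    ([2, 6, 5, 1, 3, 4, 2, 3, 0, 2, 1, 3, 2],
     [4, 0, 3, 4, 5, 6, 2, 3, 4, 5, 1, 3, 2, 0, 4, 3, 2, 1, 3, 4, 5, 6, 4, 5, 1, 3, 2, 0, 4, 3, 1, 2, 3, 4, 5, 6, 3, 2, 0, 4, 3, 1, 2, 3, 4, 5, 6, 3, 4, 5, 6, 0, 1, 2, 3, 4, 5, 6, 0, 1, 2, 3, 4, 5, 6, 0, 1, 2, 3, 4, 5, 6, 0, 1, 2, 3, 4, 5, 6, 0, 1, 2, 3, 4, 5, 6, 0, 1, 2, 3, 4, 5, 6, 0, 1, 2, 3, 4, 5, 6, 0, 1, 2, 3, 4, 5, 6]) := by decide +kernel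

set_option maxRecDepth 1000000 in
theorem chunk2 : exec (Mt CoxeterMatrix.E₇) [Op.B2, Op.R, Op.B3, Op.R, Op.R, Op.B2, Op.R, Op.B2, Op.R, Op.B3, Op.R, Op.R, Op.B2, Op.R, Op.B2, Op.R, Op.B2, Op.R, Op.B3, Op.R, Op.R, Op.B2, Op.R, Op.B3, Op.R, Op.R, Op.B2, Op.R, Op.B2, Op.R, Op.B3, Op.R, Op.R, Op.B2, Op.R, Op.B2, Op.L, Op.L, Op.L, Op.L, Op.L, Op.L, Op.L, Op.L, Op.L, Op.L, Op.L, Op.L, Op.B2, Op.R, Op.B2, Op.R, Op.B2, Op.R, Op.B2, Op.L, Op.L, Op.L, Op.L, Op.B2, Op.L, Op.L, Op.L, Op.L, Op.L, Op.L, Op.L, Op.L, Op.L, Op.L, Op.L, Op.B2, Op.R, Op.B2, Op.R, Op.B2, Op.R, Op.B2, Op.L, Op.L, Op.L, Op.L, Op.B2, Op.R, Op.B2, Op.L, Op.L, Op.L, Op.B2, Op.R, Op.B2, Op.R, Op.B2, Op.R, Op.B3, Op.R, Op.R, Op.B2, Op.R, Op.B3,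 Op.R, Op.R, Op.B2, Op.R, Op.B2, Op.R, Op.B2, Op.R, Op.B2, Op.R, Op.B3, Op.R, Op.R, Op.B3, Op.R, Op.R, Op.B2, Op.R, Op.B2, Op.R, Op.B3, Op.R, Op.R, Op.B2, Op.R, Op.B2, Op.R, Op.B2, Op.R, Op.B2, Op.R, Op.B3, Op.R, Op.R, Op.B2, Op.R, Op.B3, Op.R, Op.R, Op.B2, Op.R, Op.B3, Op.R, Op.R, Op.B2, Op.R, Op.B2, Op.R, Op.B2, Op.R, Op.B3, Op.R, Op.R, Op.B3, Op.R, Op.R, Op.B2, Op.R, Op.B2, Op.R, Op.B2, Op.R, Op.B3, Op.R, Op.R, Op.B2, Op.R, Op.B3, Op.R, Op.R, Op.B2, Op.R, Op.B2, Op.R, Op.B3, Op.R, Op.R, Op.B2, Op.R, Op.B2, Op.R, Op.C, Op.L, Op.L, Op.L, Op.L, Op.L, Op.L, Op.L, Op.L, Op.L, Op.L, Op.L, Op.L, Op.L, Op.L, Op.L, Op.L, Op.L, Op.L, Op.L, Op.L, Op.L, Op.L, Op.L, Op.L, Op.L, Op.L, Op.L, Op.B2, Op.R, Op.B2, Op.L,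 Op.L, Op.B2, Op.L, Op.L, Op.B3, Op.R, Op.R, Op.B3, Op.R, Op.R, Op.B3, Op.R, Op.R, Op.B2, Op.R, Op.B2, Op.R, Op.B2, Op.R, Op.B2, Op.R, Op.B2, Op.R, Op.B2, Op.R, Op.B2, Op.R, Op.B2, Op.R, Op.B2, Op.R, Op.B2, Op.R, Op.B3, Op.R, Op.R, Op.B2, Op.R, Op.B2, Op.R, Op.B2, Op.L, Op.L, Op.L, Op.L, Op.L, Op.L, Op.L, Op.L, Op.L, Op.L, Op.L, Op.L, Op.L, Op.L, Op.L, Op.B2, Op.R, Op.B2, Op.R, Op.B2, Op.R, Op.B2, Op.L, Op.L, Op.L, Op.L, Op.L, Op.B2, Op.R, Op.B2, Op.L, Op.L, Op.L, Op.B2, Op.R, Op.B2, Op.L, Op.L, Op.L, Op.B2, Op.R, Op.B2, Op.R, Op.B2, Op.R, Op.B3, Op.R, Op.R, Op.B3, Op.R, Op.R, Op.B2, Op.R, Op.B2, Op.R, Op.B3, Op.R, Op.R, Op.B2, Op.R, Op.B2, Op.R, Op.B2, Op.R, Op.B2, Op.R, Op.B3, Op.R, Op.R, Op.B2, Op.L,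 Op.L, Op.L, Op.L, Op.L, Op.L, Op.L, Op.L, Op.L, Op.L, Op.L, Op.L, Op.L, Op.L, Op.L, Op.L, Op.L, Op.L, Op.B2, Op.R, Op.B2, Op.R, Op.B2, Op.L, Op.L, Op.L, Op.L, Op.B3, Op.R, Op.R, Op.B2, Op.R, Op.B2, Op.R, Op.B3, Op.R, Op.R, Op.B2, Op.R, Op.B2, Op.R, Op.B3, Op.R, Op.R, Op.B2, Op.R, Op.B2, Op.R, Op.B3, Op.R, Op.R, Op.B2, Op.R, Op.B2, Op.R, Op.B3, Op.R, Op.R, Op.B2, Op.R, Op.B2, Op.R, Op.B3, Op.R, Op.R, Op.B2, Op.R, Op.B2, Op.R, Op.B3, Op.R, Op.R, Op.B2, Op.R, Op.B2, Op.R, Op.B2, Op.R, Op.B2, Op.R, Op.B3, Op.R, Op.R, Op.B2, Op.R, Op.C, Op.L, Op.L, Op.L, Op.L, Op.L, Op.L, Op.L, Op.L, Op.L, Op.L, Op.L, Op.L, Op.L, Op.L, Op.B2, Op.R, Op.B2, Op.R, Op.B2, Op.R, Op.B2, Op.L, Op.L, Op.L, Op.L, Op.L, Op.B3, Op.R,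 Op.R, Op.B2, Op.R, Op.B2, Op.R, Op.B2, Op.R, Op.B3, Op.R, Op.R, Op.B2, Op.R, Op.B2, Op.R, Op.B2, Op.R, Op.B2, Op.R, Op.B2, Op.R, Op.B2, Op.R, Op.B3, Op.R, Op.R, Op.C, Op.L, Op.C, Op.L, Op.L, Op.L, Op.L, Op.L, Op.L, Op.L, Op.L, Op.L, Op.L, Op.B2, Op.R, Op.B2, Op.R, Op.B2, Op.R, Op.B2, Op.R, Op.B2, Op.L, Op.L, Op.L, Op.L, Op.L, Op.B2, Op.R, Op.B2, Op.R, Op.B2, Op.L, Op.L, Op.L, Op.B2, Op.R, Op.B2, Op.L, Op.L, Op.B2, Op.L, Op.L, Op.L, Op.L, Op.L, Op.L, Op.L, Op.L, Op.L, Op.L, Op.L, Op.L, Op.L, Op.L, Op.L, Op.B2, Op.R, Op.B2, Op.R, Op.B2, Op.R, Op.B2, Op.R, Op.B2, Op.R, Op.B2, Op.R, Op.B2, Op.L, Op.L, Op.L, Op.L, Op.L, Op.L, Op.L, Op.B2, Op.R, Op.B2, Op.R, Op.B2, Op.L, Op.L, Op.L, Op.B2, Op.L, Op.L, Op.L,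 Op.L, Op.L, Op.L, Op.L, Op.L, Op.L, Op.L, Op.L, Op.L, Op.L, Op.L, Op.L, Op.B2, Op.R, Op.B2, Op.R, Op.B2, Op.R, Op.B2, Op.R, Op.B2, Op.L, Op.L, Op.L, Op.L, Op.L, Op.B2, Op.L, Op.L, Op.L, Op.L, Op.L, Op.L, Op.L, Op.L, Op.B2, Op.R, Op.B2, Op.L, Op.L, Op.L, Op.B3, Op.R, Op.R, Op.B2, Op.R, Op.B3, Op.R, Op.R, Op.B2, Op.R, Op.B2, Op.R, Op.B2, Op.R, Op.B3, Op.R, Op.R, Op.B3, Op.R, Op.R, Op.B2, Op.R, Op.B2, Op.R, Op.B2, Op.R, Op.B3, Op.R, Op.R, Op.B2, Op.R, Op.B2, Op.R, Op.B2, Op.R, Op.B2, Op.R, Op.B3, Op.R, Op.R, Op.B2, Op.R, Op.B3, Op.R, Op.R, Op.B3, Op.R, Op.R, Op.B2, Op.R, Op.B3, Op.R, Op.R, Op.B2, Op.R, Op.B2, Op.R, Op.B2, Op.R, Op.B3, Op.R, Op.R, Op.B2, Op.R, Op.B2, Op.R, Op.B2, Op.R, Op.B2, Op.R, Op.B2,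 Op.R, Op.B3, Op.R, Op.R, Op.B3, Op.R, Op.R, Op.B3, Op.R, Op.R, Op.B3, Op.R, Op.R, Op.B2, Op.R, Op.B3, Op.R, Op.R, Op.B2, Op.R, Op.B2, Op.R, Op.B2, Op.R, Op.C, Op.L, Op.L, Op.L, Op.L, Op.L, Op.L, Op.B2, Op.R, Op.B2, Op.L, Op.L, Op.B2, Op.L, Op.L, Op.L, Op.L, Op.L, Op.L, Op.L, Op.L, Op.L, Op.L, Op.L, Op.L, Op.L, Op.L, Op.L, Op.B2, Op.R, Op.B2, Op.R, Op.B2, Op.R, Op.B2, Op.R, Op.B2, Op.L, Op.L, Op.L, Op.L, Op.L, Op.B2, Op.R, Op.B2, Op.R, Op.B2, Op.L, Op.L, Op.L, Op.B2, Op.R, Op.B2, Op.L, Op.L, Op.B2, Op.L, Op.L, Op.L, Op.L, Op.L, Op.L, Op.L, Op.L, Op.L, Op.L, Op.L, Op.L, Op.L, Op.L, Op.L, Op.L, Op.B2, Op.R, Op.B2, Op.R, Op.B2, Op.R, Op.B2, Op.R, Op.B2, Op.R, Op.B2, Op.R, Op.B2, Op.R, Op.B2, Op.L, Op.L,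 Op.L, Op.L, Op.L, Op.L, Op.L, Op.L, Op.B2, Op.R, Op.B2, Op.R, Op.B2, Op.R, Op.B2, Op.L, Op.L, Op.L, Op.L, Op.B2, Op.R, Op.B2, Op.L, Op.L, Op.B2, Op.L, Op.L, Op.L, Op.L, Op.L, Op.L, Op.L, Op.L, Op.L, Op.B2, Op.R, Op.B2, Op.R, Op.B2, Op.R, Op.B2, Op.R, Op.B2, Op.R, Op.B2, Op.R, Op.B2, Op.R, Op.B3, Op.R, Op.R, Op.B3, Op.R, Op.R, Op.B3, Op.R, Op.R, Op.B2, Op.R, Op.B3, Op.R, Op.R, Op.B2, Op.R, Op.B2, Op.R, Op.B2, Op.R, Op.B3, Op.R, Op.R, Op.B2, Op.R, Op.B2, Op.R, Op.B2, Op.R, Op.B2, Op.R, Op.B2, Op.R, Op.B3, Op.R, Op.R, Op.B3, Op.R, Op.R, Op.B3, Op.R, Op.R, Op.B3, Op.R, Op.R, Op.B2, Op.R, Op.B3, Op.R, Op.R, Op.B2, Op.R, Op.B2, Op.R, Op.B2, Op.R, Op.B2, Op.R, Op.B2, Op.R, Op.B2, Op.R, Op.B2, Op.R, Op.B3, Op.R,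 Op.R, Op.B3, Op.R, Op.R, Op.B3, Op.R, Op.R, Op.B2, Op.R, Op.B2, Op.R, Op.C, Op.L, Op.L, Op.L, Op.L, Op.L, Op.B2, Op.L, Op.L, Op.L, Op.L, Op.L, Op.L, Op.L, Op.L, Op.L, Op.L, Op.L, Op.L, Op.L, Op.B2, Op.R, Op.B2, Op.L, Op.L, Op.B2, Op.L, Op.L, Op.L, Op.L, Op.L, Op.L, Op.L, Op.L, Op.L, Op.L, Op.L, Op.L, Op.L, Op.L, Op.L, Op.B2, Op.R, Op.B2, Op.R, Op.B2, Op.L, Op.L, Op.L, Op.B2, Op.R, Op.B2, Op.L, Op.L, Op.B2, Op.R, Op.B2, Op.R, Op.B3, Op.R, Op.R, Op.B3, Op.R, Op.R, Op.B2, Op.R, Op.B2, Op.R, Op.B2, Op.R, Op.B2, Op.R, Op.B2, Op.R, Op.B2, Op.R, Op.B2, Op.R, Op.B2, Op.R, Op.B2, Op.R, Op.B3, Op.R, Op.R, Op.B3, Op.R, Op.R, Op.B3, Op.R, Op.R, Op.B2, Op.R, Op.B2, Op.R, Op.B2, Op.R, Op.B2, Op.L, Op.L, Op.L]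
    [2, 6, 5, 1, 3, 4, 2, 3, 0, 2, 1, 3, 2]
    [4, 0, 3, 4, 5, 6, 2, 3, 4, 5, 1, 3, 2, 0, 4, 3, 2, 1, 3, 4, 5, 6, 4, 5, 1, 3, 2, 0, 4, 3, 1, 2, 3, 4, 5, 6, 3, 2, 0, 4, 3, 1, 2, 3, 4, 5, 6, 3, 4, 5, 6, 0, 1, 2, 3, 4, 5, 6, 0, 1, 2, 3, 4, 5, 6, 0, 1, 2, 3, 4, 5, 6, 0, 1, 2, 3, 4, 5, 6, 0, 1, 2, 3, 4, 5, 6, 0, 1, 2, 3, 4, 5, 6, 0, 1, 2, 3, 4, 5, 6, 0, 1, 2, 3, 4, 5, 6] =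
    ([3, 1, 2, 3, 0, 2, 4, 3, 5, 4, 6, 5, 1, 3, 4, 2, 0, 3, 2, 5, 6, 4, 5, 1, 3, 4, 2, 3, 0, 2, 1, 3, 6, 5, 4, 3, 1, 2, 3],
     [5, 6, 4, 5, 1, 3, 4, 2, 0, 3, 1, 2, 3, 4, 5, 2, 3, 4, 5, 6, 0, 1, 2, 3, 4, 5, 6, 0, 1, 2, 3, 4, 5, 6, 0, 1, 2, 3, 4, 5, 6, 0, 1, 2, 3, 4, 5, 6, 0, 1, 2, 3, 4, 5, 6, 0, 1, 2, 3, 4, 5, 6, 0, 1, 2, 3, 4, 5, 6]) := by decide +kernel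

set_option maxRecDepth 1000000 in
theorem chunk3 : exec (Mt CoxeterMatrix.E₇) [Op.L, Op.B2, Op.R, Op.B2, Op.L, Op.L, Op.L, Op.L, Op.L, Op.L, Op.L, Op.B2, Op.R, Op.B2, Op.L, Op.L, Op.L, Op.L, Op.L, Op.L, Op.L, Op.L, Op.L, Op.L, Op.B2, Op.L, Op.L, Op.B2, Op.L, Op.L, Op.L, Op.L, Op.B2, Op.L, Op.L, Op.L, Op.L, Op.L, Op.L, Op.L, Op.L, Op.L, Op.L, Op.L, Op.B2, Op.R, Op.B2, Op.R, Op.B2, Op.R, Op.B2, Op.R, Op.B2, Op.R, Op.B2, Op.R, Op.B2, Op.R, Op.B2, Op.R, Op.B2, Op.R, Op.B3, Op.R, Op.R, Op.B3, Op.R, Op.R, Op.B2, Op.R, Op.B2, Op.R, Op.B3, Op.R, Op.R, Op.B3, Op.R, Op.R, Op.B2, Op.R, Op.B2, Op.R, Op.B2, Op.R, Op.B2, Op.R, Op.B2, Op.R, Op.B3, Op.R, Op.R, Op.B2, Op.R, Op.B3, Op.R, Op.R, Op.B2, Op.R, Op.B2, Op.L,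 Op.L, Op.L, Op.L, Op.L, Op.L, Op.L, Op.B2, Op.R, Op.B2, Op.R, Op.B2, Op.L, Op.L, Op.L, Op.L, Op.L, Op.L, Op.L, Op.L, Op.L, Op.L, Op.L, Op.L, Op.L, Op.L, Op.L, Op.L, Op.L, Op.B2, Op.R, Op.B2, Op.R, Op.B2, Op.R, Op.B2, Op.R, Op.B2, Op.R, Op.B2, Op.L, Op.L, Op.L, Op.L, Op.L, Op.L, Op.B2, Op.R, Op.B2, Op.L, Op.L, Op.L, Op.L, Op.L, Op.L, Op.L, Op.L, Op.L, Op.B2, Op.R, Op.B2, Op.R, Op.B2, Op.R, Op.B2, Op.R, Op.B2, Op.R, Op.B2, Op.R, Op.B3, Op.R, Op.R, Op.B2, Op.R, Op.B3, Op.R, Op.R, Op.B2, Op.L, Op.L, Op.L, Op.L, Op.L, Op.L, Op.B2, Op.R, Op.B2, Op.R, Op.B2, Op.L, Op.L, Op.L, Op.L, Op.L, Op.L, Op.L, Op.L, Op.L, Op.B3, Op.R, Op.R, Op.B2, Op.R, Op.B2, Op.R, Op.B2, Op.R, Op.B3, Op.R, Op.R, Op.B2, Op.R, Op.B2,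 Op.R, Op.B3, Op.R, Op.R, Op.B2, Op.R, Op.B2, Op.R, Op.B3, Op.R, Op.R, Op.B2, Op.R, Op.B3, Op.R, Op.R, Op.B2, Op.R, Op.B2, Op.R, Op.B3, Op.R, Op.R, Op.B2, Op.R, Op.B2, Op.R, Op.B3, Op.R, Op.R, Op.B2, Op.R, Op.B2, Op.R, Op.B3, Op.R, Op.R, Op.B2, Op.R, Op.B2, Op.R, Op.B2, Op.R, Op.B3, Op.R, Op.R, Op.B2, Op.R, Op.B3, Op.R, Op.R, Op.B2, Op.R, Op.B3, Op.R, Op.R, Op.B2, Op.R, Op.B2, Op.R, Op.B2, Op.R, Op.B3, Op.R, Op.R, Op.B3, Op.R, Op.R, Op.B2, Op.R, Op.B2, Op.R, Op.C, Op.L, Op.L, Op.L, Op.L, Op.L, Op.L, Op.L, Op.L, Op.L, Op.B2, Op.R, Op.B2, Op.L, Op.L, Op.L, Op.L, Op.L, Op.L, Op.L, Op.L, Op.L, Op.L, Op.L, Op.B2, Op.R, Op.B2, Op.R, Op.B2, Op.R, Op.B2, Op.L, Op.L, Op.L, Op.L, Op.L, Op.L, Op.L, Op.L, Op.L, Op.L,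 Op.L, Op.L, Op.L, Op.B2, Op.R, Op.B2, Op.R, Op.B2, Op.L, Op.L, Op.L, Op.B2, Op.R, Op.B2, Op.L, Op.L, Op.L, Op.B2, Op.L, Op.L, Op.L, Op.L, Op.L, Op.L, Op.B2, Op.R, Op.B2, Op.R, Op.B2, Op.R, Op.B2, Op.R, Op.B2, Op.R, Op.B2, Op.R, Op.B3, Op.R, Op.R, Op.B2, Op.R, Op.B3, Op.R, Op.R, Op.B3, Op.R, Op.R, Op.B2, Op.R, Op.B2, Op.R, Op.B2, Op.R, Op.B2, Op.R, Op.B3, Op.L, Op.L, Op.L, Op.L, Op.L, Op.L, Op.L, Op.L, Op.L, Op.L, Op.L, Op.L, Op.B2, Op.R, Op.B2, Op.R, Op.B2, Op.L, Op.L, Op.L, Op.L, Op.L, Op.L, Op.L, Op.L, Op.L, Op.B3, Op.R, Op.R, Op.B2, Op.R, Op.B2, Op.R, Op.B2, Op.R, Op.B3, Op.R, Op.R, Op.B2, Op.R, Op.B2, Op.R, Op.B3, Op.R, Op.R, Op.B2, Op.R, Op.B2, Op.R, Op.B3, Op.R, Op.R, Op.B2, Op.R, Op.B2, Op.R,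 Op.B3, Op.R, Op.R, Op.B2, Op.R, Op.B3, Op.R, Op.R, Op.B2, Op.R, Op.B2, Op.R, Op.B3, Op.R, Op.R, Op.B2, Op.R, Op.B2, Op.R, Op.B2, Op.R, Op.B3, Op.R, Op.R, Op.B2, Op.R, Op.B3, Op.R, Op.R, Op.B2, Op.R, Op.B2, Op.R, Op.B3, Op.R, Op.R, Op.B2, Op.R, Op.C, Op.L, Op.L, Op.L, Op.L, Op.L, Op.L, Op.L, Op.L, Op.L, Op.L, Op.L, Op.L, Op.B2, Op.R, Op.B2, Op.R, Op.B2, Op.R, Op.B2, Op.L, Op.L, Op.L, Op.L, Op.B2, Op.L, Op.L, Op.L, Op.L, Op.L, Op.L, Op.L, Op.L, Op.B3, Op.R, Op.R, Op.B2, Op.R, Op.B2, Op.R, Op.B2, Op.R, Op.B2, Op.R, Op.B3, Op.R, Op.R, Op.B3, Op.R, Op.R, Op.B2, Op.R, Op.B2, Op.R, Op.B3, Op.R, Op.R, Op.B2, Op.R, Op.B2, Op.R, Op.B2, Op.R, Op.B2, Op.R, Op.B3, Op.R, Op.R, Op.C, Op.L, Op.C, Op.L, Op.L, Op.L, Op.L,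 Op.L, Op.L, Op.L, Op.L, Op.L, Op.L, Op.L, Op.L, Op.L, Op.L, Op.L, Op.B2, Op.R, Op.B2, Op.R, Op.B2, Op.R, Op.B2, Op.R, Op.B2, Op.R, Op.B2, Op.R, Op.B2, Op.L, Op.L, Op.L, Op.L, Op.L, Op.L, Op.L, Op.B2, Op.R, Op.B2, Op.R, Op.B2, Op.L, Op.L, Op.L, Op.B2, Op.L, Op.L, Op.L, Op.L, Op.L, Op.L, Op.L, Op.L, Op.L, Op.L, Op.L, Op.L, Op.L, Op.L, Op.L, Op.L, Op.L, Op.B2, Op.R, Op.B2, Op.R, Op.B2, Op.R, Op.B2, Op.R, Op.B2, Op.L, Op.L, Op.L, Op.L, Op.L, Op.B2, Op.L, Op.L, Op.L, Op.L, Op.L, Op.L, Op.L, Op.L, Op.L, Op.L, Op.B2, Op.R, Op.B2, Op.L, Op.L, Op.L, Op.L, Op.L, Op.B2, Op.R, Op.B2, Op.R, Op.B3, Op.R, Op.R, Op.B2, Op.R, Op.B3, Op.R, Op.R, Op.B2, Op.R, Op.B2, Op.R, Op.B2, Op.R, Op.B2, Op.R, Op.B2, Op.R, Op.B3, Op.R,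 Op.R, Op.B3, Op.R, Op.R, Op.B2, Op.R, Op.B2, Op.R, Op.B2, Op.R, Op.B3, Op.R, Op.R, Op.B2, Op.R, Op.B2, Op.R, Op.B2, Op.R, Op.B2, Op.R, Op.B3, Op.R, Op.R, Op.B2, Op.R, Op.B2, Op.R, Op.B2, Op.R, Op.B3, Op.R, Op.R, Op.B3, Op.R, Op.R, Op.B2, Op.R, Op.B3, Op.R, Op.R, Op.B2, Op.R, Op.B2, Op.R, Op.B2, Op.R, Op.B3, Op.R, Op.R, Op.B2, Op.R, Op.B2, Op.R, Op.B2, Op.R, Op.B2, Op.R, Op.B2, Op.R, Op.B2, Op.R, Op.C, Op.L, Op.L, Op.L, Op.L, Op.L, Op.L, Op.L, Op.L, Op.L, Op.B2, Op.R, Op.B2, Op.R, Op.B2, Op.R, Op.B2, Op.R, Op.B2, Op.L, Op.L, Op.L, Op.L, Op.L, Op.B2, Op.R, Op.B2, Op.R, Op.B2, Op.L, Op.L, Op.L, Op.B2, Op.R, Op.B2, Op.L, Op.L, Op.B2, Op.L, Op.L, Op.L, Op.L, Op.L, Op.L, Op.L, Op.L, Op.L, Op.L, Op.L, Op.L,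 Op.L, Op.L, Op.L, Op.L, Op.L, Op.L, Op.B2, Op.R, Op.B2, Op.R, Op.B2, Op.R, Op.B2, Op.R, Op.B2, Op.R, Op.B2, Op.R, Op.B2, Op.R, Op.B2, Op.L, Op.L, Op.L, Op.L, Op.L, Op.L, Op.L, Op.L, Op.B2, Op.R, Op.B2, Op.R, Op.B2, Op.L, Op.L, Op.L, Op.B2, Op.R, Op.B2, Op.L, Op.L, Op.B2, Op.L, Op.L, Op.L, Op.L, Op.L, Op.L, Op.L, Op.L, Op.L, Op.L, Op.L, Op.B2, Op.R, Op.B2, Op.R, Op.B2, Op.R, Op.B2, Op.R, Op.B2, Op.L, Op.L, Op.L, Op.L, Op.L, Op.B2, Op.L, Op.L, Op.L, Op.B2, Op.R, Op.B3, Op.R, Op.R, Op.B3, Op.R, Op.R, Op.B2, Op.R, Op.B2, Op.R, Op.B2, Op.R, Op.B3, Op.R, Op.R, Op.B2, Op.R, Op.B2, Op.R, Op.B2, Op.R, Op.B3, Op.R, Op.R, Op.B3, Op.R, Op.R, Op.B3, Op.R, Op.R, Op.B3, Op.R, Op.R, Op.B2, Op.R, Op.B2, Op.R, Op.B2,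 Op.R, Op.B2, Op.R, Op.B3, Op.R, Op.R, Op.B2, Op.R, Op.B2, Op.R, Op.B2, Op.R, Op.B2, Op.R, Op.B2, Op.R, Op.B2, Op.R, Op.B2, Op.R, Op.B3, Op.R, Op.R, Op.B3, Op.R, Op.R, Op.B3, Op.R, Op.R, Op.B3, Op.R, Op.R, Op.B2, Op.R, Op.B3, Op.R, Op.R, Op.B2, Op.R, Op.B2, Op.R, Op.C, Op.L, Op.L, Op.L, Op.L, Op.L, Op.B2, Op.R, Op.B2, Op.L, Op.L, Op.B2, Op.L, Op.L, Op.L, Op.L, Op.L, Op.L, Op.L, Op.L, Op.L, Op.L, Op.L, Op.L, Op.L, Op.L, Op.L, Op.L, Op.L, Op.B2, Op.R, Op.B2, Op.R, Op.B2, Op.R, Op.B2, Op.R, Op.B2, Op.L, Op.L, Op.L, Op.L, Op.L, Op.B2, Op.R, Op.B2, Op.R, Op.B2, Op.R, Op.B2, Op.L, Op.L, Op.L, Op.L, Op.B2, Op.R, Op.B2, Op.L, Op.L, Op.L, Op.B2, Op.R, Op.B2, Op.L, Op.L, Op.B2, Op.L, Op.L, Op.L, Op.L]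
    [3, 1, 2, 3, 0, 2, 4, 3, 5, 4, 6, 5, 1, 3, 4, 2, 0, 3, 2, 5, 6, 4, 5, 1, 3, 4, 2, 3, 0, 2, 1, 3, 6, 5, 4, 3, 1, 2, 3]
    [5, 6, 4, 5, 1, 3, 4, 2, 0, 3, 1, 2, 3, 4, 5, 2, 3, 4, 5, 6, 0, 1, 2, 3, 4, 5, 6, 0, 1, 2, 3, 4, 5, 6, 0, 1, 2, 3, 4, 5, 6, 0, 1, 2, 3, 4, 5, 6, 0, 1, 2, 3, 4, 5, 6, 0, 1, 2, 3, 4, 5, 6, 0, 1, 2, 3, 4, 5, 6] =
    ([0, 2, 1, 3, 4, 2, 0, 6, 5, 4, 3, 2, 1, 3, 4, 3],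
     [3, 2, 4, 3, 1, 5, 6, 4, 5, 3, 4, 1, 2, 3, 0, 2, 4, 3, 1, 5, 6, 4, 5, 3, 4, 2, 0, 3, 2, 1, 3, 4, 1, 2, 3, 4, 5, 6, 0, 1, 2, 3, 4, 5, 6, 0, 1, 2, 3, 4, 5, 6, 0, 1, 2, 3, 4, 5, 6, 0, 1, 2, 3, 4, 5, 6, 0, 1, 2, 3, 4, 5, 6, 0, 1, 2, 3, 4, 5, 6]) := by decide +kernel

set_option maxRecDepth 1000000 in
theorem chunk4 : exec (Mt CoxeterMatrix.E₇) [Op.L, Op.L, Op.L, Op.L, Op.L, Op.L, Op.L, Op.L, Op.B2, Op.R, Op.B2, Op.R, Op.B2, Op.R, Op.B2, Op.R, Op.B2, Op.R, Op.B2, Op.R, Op.B2, Op.R, Op.B2, Op.R, Op.B2, Op.R, Op.B2, Op.R, Op.B2, Op.R, Op.B2, Op.R, Op.B3, Op.R, Op.R, Op.B3, Op.R, Op.R, Op.B3, Op.L, Op.L, Op.L, Op.L, Op.L, Op.B2, Op.R, Op.B2, Op.R, Op.B2, Op.R, Op.B2, Op.L, Op.L, Op.L, Op.L, Op.B2, Op.R,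 Op.B2, Op.L, Op.L, Op.L, Op.L, Op.L, Op.L, Op.L, Op.L, Op.L, Op.L, Op.L, Op.L, Op.B2, Op.R, Op.B2, Op.L, Op.L, Op.B2, Op.R, Op.B2, Op.R, Op.B3, Op.R, Op.R, Op.B2, Op.R, Op.B2, Op.R, Op.B2, Op.R, Op.B2, Op.R, Op.B2, Op.R, Op.B2, Op.R, Op.B3, Op.R, Op.R, Op.B2, Op.R, Op.B3, Op.R, Op.R, Op.B2, Op.R, Op.B3, Op.R, Op.R, Op.B2, Op.R, Op.B3, Op.R, Op.R, Op.B3, Op.R, Op.R, Op.B3, Op.R, Op.R, Op.B2, Op.R, Op.B2, Op.R, Op.B2, Op.R, Op.B2, Op.R, Op.B2, Op.R, Op.B2, Op.R, Op.B2, Op.R, Op.B2, Op.R, Op.B2, Op.R, Op.B3, Op.R, Op.R, Op.B3, Op.R, Op.R, Op.B3, Op.R, Op.R, Op.B2, Op.R, Op.C, Op.L, Op.L, Op.L, Op.L, Op.B2, Op.L, Op.L, Op.L, Op.L, Op.L, Op.L, Op.L, Op.L, Op.L, Op.L, Op.B2, Op.R, Op.B2, Op.R, Op.B2, Op.R,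 Op.B2, Op.L, Op.L, Op.L, Op.L, Op.B2, Op.R, Op.B2, Op.L, Op.L, Op.L, Op.L, Op.L, Op.L, Op.L, Op.L, Op.L, Op.L, Op.L, Op.L, Op.B2, Op.R, Op.B2, Op.L, Op.L, Op.B2, Op.L, Op.L, Op.L, Op.L, Op.L, Op.L, Op.L, Op.L, Op.L, Op.B2, Op.R, Op.B2, Op.L, Op.L, Op.L, Op.L, Op.L, Op.B2, Op.R, Op.B2, Op.R, Op.B3, Op.R, Op.R, Op.B2, Op.R, Op.B3, Op.R, Op.R, Op.B2, Op.R, Op.B2, Op.R, Op.B2, Op.R, Op.B2, Op.R, Op.B3, Op.R, Op.R, Op.B3, Op.R, Op.R, Op.B3, Op.R, Op.R, Op.B2, Op.R, Op.B2, Op.R, Op.B2, Op.R, Op.B2, Op.R, Op.B2, Op.R, Op.B2, Op.R, Op.B3, Op.R, Op.R, Op.B2, Op.R, Op.B3, Op.R, Op.R, Op.B2, Op.R, Op.B3, Op.R, Op.R, Op.B2, Op.R, Op.B2, Op.R, Op.B2, Op.R, Op.B3, Op.R, Op.R, Op.B3, Op.R, Op.R, Op.B2, Op.R, Op.C,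 Op.L, Op.L, Op.L, Op.L, Op.L, Op.L, Op.L, Op.L, Op.B2, Op.R, Op.B2, Op.L, Op.L, Op.L, Op.L, Op.L, Op.L, Op.L, Op.L, Op.L, Op.L, Op.B2, Op.R, Op.B2, Op.R, Op.B2, Op.L, Op.L, Op.L, Op.L, Op.B2, Op.L, Op.L, Op.L, Op.L, Op.L, Op.L, Op.B2, Op.R, Op.B3, Op.R, Op.R, Op.B2, Op.R, Op.B2, Op.R, Op.B2, Op.R, Op.B3, Op.R, Op.R, Op.B2, Op.R, Op.B2, Op.R, Op.B3, Op.R, Op.R, Op.B2, Op.R, Op.B2, Op.R, Op.B2, Op.R, Op.B3, Op.R, Op.R, Op.B2, Op.R, Op.B3, Op.R, Op.R, Op.B2, Op.R, Op.B2, Op.R, Op.B3, Op.R, Op.R, Op.C, Op.L, Op.C, Op.L, Op.L, Op.L, Op.L, Op.L, Op.L, Op.L, Op.L, Op.L, Op.L, Op.B2, Op.R, Op.B2, Op.R, Op.B2, Op.R, Op.B2, Op.L, Op.L, Op.L, Op.L, Op.B2, Op.L, Op.L, Op.L, Op.L, Op.L, Op.L, Op.L, Op.L, Op.L, Op.B2,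 Op.R, Op.B2, Op.L, Op.L, Op.L, Op.L, Op.L, Op.L, Op.L, Op.L, Op.L, Op.L, Op.L, Op.B2, Op.R, Op.B2, Op.R, Op.B2, Op.L, Op.L, Op.L, Op.L, Op.L, Op.L, Op.L, Op.L, Op.L, Op.L, Op.L, Op.B2, Op.R, Op.B2, Op.R, Op.B3, Op.R, Op.R, Op.B2, Op.R, Op.B2, Op.R, Op.B2, Op.R, Op.B3, Op.R, Op.R, Op.B2, Op.R, Op.B2, Op.R, Op.B3, Op.R, Op.R, Op.B2, Op.R, Op.B2, Op.R, Op.B2, Op.R, Op.B2, Op.R, Op.B3, Op.R, Op.R, Op.B2, Op.R, Op.B3, Op.R, Op.R, Op.B2, Op.R, Op.B2, Op.R, Op.B2, Op.R, Op.B2, Op.R, Op.B3, Op.R, Op.R, Op.B3, Op.R, Op.R, Op.B2, Op.R, Op.B2, Op.R, Op.B3, Op.R, Op.R, Op.B2, Op.R, Op.B2, Op.R, Op.B2, Op.R, Op.B2, Op.R, Op.C, Op.L, Op.L, Op.L, Op.L, Op.L, Op.L, Op.L, Op.L, Op.L, Op.L, Op.L, Op.L, Op.L, Op.L, Op.B2,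 Op.R, Op.B2, Op.R, Op.B2, Op.R, Op.B2, Op.R, Op.B2, Op.R, Op.B2, Op.R, Op.B2, Op.L, Op.L, Op.L, Op.L, Op.L, Op.L, Op.L, Op.B2, Op.R, Op.B2, Op.R, Op.B2, Op.L, Op.L, Op.L, Op.B2, Op.L, Op.L, Op.L, Op.L, Op.L, Op.L, Op.L, Op.L, Op.L, Op.L, Op.L, Op.L, Op.L, Op.L, Op.L, Op.L, Op.L, Op.B2, Op.R, Op.B2, Op.R, Op.B2, Op.R, Op.B2, Op.R, Op.B2, Op.L, Op.L, Op.L, Op.L, Op.L, Op.B2, Op.L, Op.L, Op.L, Op.L, Op.L, Op.L, Op.B2, Op.R, Op.B2, Op.R, Op.B2, Op.R, Op.B2, Op.R, Op.B3, Op.R, Op.R, Op.B3, Op.R, Op.R, Op.B2, Op.R, Op.B2, Op.R, Op.B2, Op.R, Op.B3, Op.R, Op.R, Op.B2, Op.R, Op.B2, Op.R, Op.B2, Op.R, Op.B2, Op.R, Op.B2, Op.R, Op.B2, Op.R, Op.B3, Op.R, Op.R, Op.B2, Op.R, Op.B3, Op.R, Op.R, Op.B3, Op.R, Op.R, Op.B2,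 Op.R, Op.B3, Op.R, Op.R, Op.B2, Op.R, Op.B2, Op.R, Op.B2, Op.R, Op.B3, Op.R, Op.R, Op.B2, Op.R, Op.B2, Op.R, Op.B2, Op.R, Op.B2, Op.R, Op.B2, Op.R, Op.C, Op.L, Op.L, Op.L, Op.L, Op.L, Op.L, Op.L, Op.L, Op.B2, Op.R, Op.B2, Op.R, Op.B2, Op.R, Op.B2, Op.R, Op.B2, Op.L, Op.L, Op.L, Op.L, Op.L, Op.B2, Op.R, Op.B2, Op.R, Op.B2, Op.L, Op.L, Op.L, Op.B2, Op.R, Op.B2, Op.L, Op.L, Op.B2, Op.L, Op.L, Op.L, Op.L, Op.L, Op.L, Op.L, Op.L, Op.L, Op.L, Op.L, Op.L, Op.L, Op.L, Op.L, Op.L, Op.L, Op.L, Op.B2, Op.R, Op.B2, Op.R, Op.B2, Op.R, Op.B2, Op.R, Op.B2, Op.L, Op.L, Op.L, Op.L, Op.L, Op.B2, Op.R, Op.B2, Op.R, Op.B2, Op.R, Op.B2, Op.L, Op.L, Op.L, Op.L, Op.B2, Op.R, Op.B2, Op.L, Op.L, Op.B2, Op.L, Op.L, Op.L, Op.L,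 Op.L, Op.L, Op.B2, Op.R, Op.B2, Op.R, Op.B2, Op.R, Op.B2, Op.R, Op.B3, Op.R, Op.R, Op.B3, Op.R, Op.R, Op.B3, Op.R, Op.R, Op.B2, Op.R, Op.B3, Op.R, Op.R, Op.B3, Op.R, Op.R, Op.B2, Op.R, Op.B2, Op.R, Op.B2, Op.R, Op.B2, Op.R, Op.B2, Op.R, Op.B2, Op.R, Op.B2, Op.R, Op.B2, Op.R, Op.B2, Op.R, Op.B2, Op.R, Op.B3, Op.R, Op.R, Op.B3, Op.R, Op.R, Op.B3, Op.R, Op.R, Op.B3, Op.R, Op.R, Op.B2, Op.R, Op.B3, Op.R, Op.R, Op.B2, Op.R, Op.C, Op.L, Op.L, Op.L, Op.L, Op.B2, Op.R, Op.B2, Op.L, Op.L, Op.B2, Op.L, Op.L, Op.L, Op.L, Op.L, Op.L, Op.L, Op.L, Op.L, Op.L, Op.L, Op.L, Op.L, Op.L, Op.B2, Op.R, Op.B2, Op.L, Op.L, Op.B2, Op.L, Op.L, Op.L, Op.L, Op.L, Op.L, Op.L, Op.B2, Op.R, Op.B2, Op.R, Op.B2, Op.R, Op.B2, Op.R,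 Op.B2, Op.R, Op.B3, Op.R, Op.R, Op.B3, Op.R, Op.R, Op.B3, Op.R, Op.R, Op.B2, Op.R, Op.B2, Op.R, Op.B2, Op.R, Op.B2, Op.R, Op.B2, Op.R, Op.B2, Op.R, Op.B2, Op.R, Op.B2, Op.R, Op.B2, Op.R, Op.B3, Op.R, Op.R, Op.B3, Op.R, Op.R, Op.B3, Op.R, Op.R, Op.C, Op.L, Op.L, Op.L, Op.B2, Op.L, Op.L, Op.L, Op.L, Op.L, Op.L, Op.L, Op.L, Op.L, Op.L, Op.B2, Op.R, Op.B2, Op.R, Op.B2, Op.R, Op.B2, Op.L, Op.L, Op.L, Op.L, Op.B2, Op.R, Op.B2, Op.L, Op.L, Op.L, Op.L, Op.L, Op.L, Op.L, Op.L, Op.L, Op.L, Op.L, Op.L, Op.B2, Op.R, Op.B3, Op.R, Op.R, Op.B2, Op.R, Op.B2, Op.R, Op.B2, Op.R, Op.B2, Op.R, Op.B2, Op.R, Op.B2, Op.R, Op.B3, Op.R, Op.R, Op.B2, Op.R, Op.B3, Op.R, Op.R, Op.B2, Op.R, Op.B3, Op.R, Op.R, Op.B2, Op.R, Op.B2,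 Op.R, Op.B2, Op.R, Op.B3, Op.R, Op.R, Op.B3, Op.R, Op.R, Op.C, Op.L, Op.C, Op.L, Op.L, Op.L, Op.L, Op.L, Op.L, Op.B2, Op.R, Op.B2, Op.L, Op.L, Op.L, Op.L, Op.L, Op.L, Op.L, Op.L, Op.L, Op.L, Op.B2, Op.R, Op.B2, Op.R, Op.B2, Op.L, Op.L, Op.L, Op.L, Op.B2, Op.L]
    [0, 2, 1, 3, 4, 2, 0, 6, 5, 4, 3, 2, 1, 3, 4, 3]
    [3, 2, 4, 3, 1, 5, 6, 4, 5, 3, 4, 1, 2, 3, 0, 2, 4, 3, 1, 5, 6, 4, 5, 3, 4, 2, 0, 3, 2, 1, 3, 4, 1, 2, 3, 4, 5, 6, 0, 1, 2, 3, 4, 5, 6, 0, 1, 2, 3, 4, 5, 6, 0, 1, 2, 3, 4, 5, 6, 0, 1, 2, 3, 4, 5, 6, 0, 1, 2, 3, 4, 5, 6, 0, 1, 2, 3, 4, 5, 6] =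
    ([1, 3, 4, 5, 6, 5, 3, 4, 2, 3, 0, 2, 1, 3, 4, 5, 2, 3, 4, 3],
     [2, 0, 3, 4, 5, 6, 2, 3, 4, 5, 1, 3, 2, 0, 4, 3, 1, 2, 4, 5, 6, 0, 1, 2, 3, 4, 5, 6, 0, 1, 2, 3, 4, 5, 6, 0, 1, 2, 3, 4, 5, 6, 0, 1, 2, 3, 4, 5, 6, 0, 1, 2, 3, 4, 5, 6]) := by decide +kernel

set_option maxRecDepth 1000000 in
theorem chunk5 : exec (Mt CoxeterMatrix.E₇) [Op.L, Op.L, Op.L, Op.L, Op.L, Op.L, Op.L, Op.B2, Op.R, Op.B2, Op.R, Op.B2, Op.R, Op.B3, Op.R, Op.R, Op.B2, Op.R, Op.B2, Op.R, Op.B2, Op.R, Op.B3, Op.R, Op.R, Op.B2, Op.R, Op.B2, Op.R, Op.B3, Op.R, Op.R, Op.B2, Op.R, Op.B2, Op.R, Op.B2, Op.R, Op.B3, Op.R, Op.R, Op.B2, Op.R, Op.B3, Op.R, Op.R, Op.B2, Op.R, Op.B2, Op.R, Op.C, Op.L, Op.L, Op.L, Op.L, Op.L, Op.L, Op.L,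 Op.L, Op.L, Op.B2, Op.R, Op.B2, Op.R, Op.B2, Op.R, Op.B2, Op.L, Op.L, Op.L, Op.L, Op.B2, Op.L, Op.L, Op.L, Op.L, Op.L, Op.L, Op.L, Op.L, Op.L, Op.B2, Op.R, Op.B2, Op.L, Op.L, Op.L, Op.L, Op.L, Op.L, Op.L, Op.L, Op.B2, Op.R, Op.B2, Op.R, Op.B2, Op.R, Op.B2, Op.R, Op.B2, Op.R, Op.B3, Op.R, Op.R, Op.B2, Op.R, Op.B3, Op.R, Op.R, Op.B2, Op.R, Op.B2, Op.R, Op.B2, Op.R, Op.B2, Op.R, Op.B3, Op.R, Op.R, Op.B3, Op.R, Op.R, Op.B2, Op.R, Op.B2, Op.R, Op.B3, Op.R, Op.R, Op.B2, Op.R, Op.B2, Op.R, Op.B2, Op.R, Op.C, Op.L, Op.L, Op.L, Op.L, Op.L, Op.L, Op.L, Op.L, Op.L, Op.L, Op.L, Op.L, Op.L, Op.B2, Op.R, Op.B2, Op.R, Op.B2, Op.R, Op.B2, Op.R, Op.B2, Op.R, Op.B2, Op.R, Op.B2, Op.L, Op.L, Op.L, Op.L, Op.L, Op.L, Op.L,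 Op.B2, Op.R, Op.B2, Op.R, Op.B2, Op.L, Op.L, Op.L, Op.B2, Op.L, Op.L, Op.L, Op.L, Op.L, Op.L, Op.L, Op.L, Op.L, Op.L, Op.L, Op.L, Op.B2, Op.R, Op.B2, Op.R, Op.B2, Op.R, Op.B2, Op.R, Op.B2, Op.R, Op.B2, Op.R, Op.B2, Op.R, Op.B3, Op.R, Op.R, Op.B2, Op.R, Op.B3, Op.R, Op.R, Op.B3, Op.R, Op.R, Op.B2, Op.R, Op.B3, Op.R, Op.R, Op.B2, Op.R, Op.B2, Op.R, Op.B2, Op.R, Op.B3, Op.R, Op.R, Op.B2, Op.R, Op.B2, Op.R, Op.B2, Op.R, Op.B2, Op.R, Op.C, Op.L, Op.L, Op.L, Op.L, Op.L, Op.L, Op.L, Op.B2, Op.R, Op.B2, Op.R, Op.B2, Op.R, Op.B2, Op.R, Op.B2, Op.L, Op.L, Op.L, Op.L, Op.L, Op.B2, Op.R, Op.B2, Op.R, Op.B2, Op.L, Op.L, Op.L, Op.B2, Op.R, Op.B2, Op.L, Op.L, Op.B2, Op.L, Op.L, Op.L, Op.L, Op.L, Op.L, Op.L, Op.L, Op.L,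 Op.L, Op.L, Op.L, Op.L, Op.L, Op.B3, Op.R, Op.R, Op.B2, Op.R, Op.B2, Op.R, Op.B2, Op.R, Op.B2, Op.R, Op.B2, Op.R, Op.B2, Op.R, Op.B2, Op.R, Op.B2, Op.R, Op.B2, Op.R, Op.B2, Op.R, Op.B3, Op.R, Op.R, Op.B3, Op.R, Op.R, Op.B3, Op.R, Op.R, Op.B3, Op.R, Op.R, Op.B2, Op.R, Op.B3, Op.R, Op.R, Op.C, Op.L, Op.L, Op.L, Op.B2, Op.R, Op.B2, Op.R, Op.C, Op.L, Op.C, Op.L, Op.L, Op.B2, Op.R, Op.C, Op.L, Op.L, Op.L, Op.B2, Op.R, Op.B2, Op.R, Op.C, Op.L, Op.L, Op.L, Op.L, Op.B2, Op.R, Op.B2, Op.R, Op.B2, Op.R, Op.C, Op.L, Op.L, Op.L, Op.L, Op.L, Op.B2, Op.R, Op.B2, Op.R, Op.B2, Op.R, Op.B2, Op.R, Op.C, Op.L, Op.C, Op.L, Op.L, Op.L, Op.L, Op.L, Op.B2, Op.R, Op.B2, Op.L, Op.L, Op.B2, Op.L, Op.L, Op.L, Op.L, Op.L, Op.L,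 Op.L, Op.L, Op.L, Op.L, Op.L, Op.B2, Op.R, Op.B3, Op.R, Op.R, Op.B2, Op.R, Op.B2, Op.R, Op.B2, Op.R, Op.B2, Op.R, Op.B2, Op.R, Op.B2, Op.R, Op.B3, Op.R, Op.R, Op.B3, Op.R, Op.R, Op.B3, Op.R, Op.R, Op.B2, Op.R, Op.C, Op.L, Op.C, Op.L, Op.C, Op.L, Op.L, Op.B2, Op.R, Op.C, Op.L, Op.L, Op.L, Op.B2, Op.R, Op.B2, Op.R, Op.C, Op.L, Op.L, Op.L, Op.L, Op.L, Op.L, Op.L, Op.L, Op.L, Op.L, Op.L, Op.L, Op.L, Op.L, Op.L, Op.L, Op.L, Op.L, Op.L, Op.L, Op.L, Op.L, Op.B3, Op.R, Op.R, Op.B2, Op.R, Op.B3, Op.R, Op.R, Op.B2, Op.R, Op.B2, Op.R, Op.B2, Op.R, Op.B2, Op.R, Op.B3, Op.R, Op.R, Op.B2, Op.R, Op.B2, Op.R, Op.B2, Op.R, Op.B2, Op.R, Op.B2, Op.R, Op.B2, Op.R, Op.B2, Op.R, Op.B2, Op.R, Op.B2, Op.R, Op.B2, Op.R, Op.C,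 Op.L, Op.L, Op.L, Op.L, Op.L, Op.L, Op.L, Op.B2, Op.R, Op.B2, Op.L, Op.L, Op.B2, Op.L, Op.L, Op.L, Op.L, Op.L, Op.L, Op.L, Op.B2, Op.L, Op.L, Op.L, Op.L, Op.B2, Op.R, Op.B2, Op.R, Op.B3, Op.R, Op.R, Op.B3, Op.R, Op.R, Op.B2, Op.R, Op.B2, Op.R, Op.B2, Op.R, Op.B3, Op.R, Op.R, Op.B3, Op.R, Op.R, Op.B3, Op.R, Op.R, Op.B2, Op.R, Op.B2, Op.R, Op.B2, Op.R, Op.C, Op.L, Op.C, Op.L, Op.L, Op.L, Op.B2, Op.L, Op.L, Op.B2, Op.L, Op.L, Op.L, Op.L, Op.L, Op.L, Op.L, Op.B2, Op.R, Op.B2, Op.R, Op.B3, Op.R, Op.R, Op.B2, Op.R, Op.B2, Op.R, Op.B2, Op.R, Op.B3, Op.R, Op.R, Op.B3, Op.R, Op.R, Op.C, Op.L, Op.C, Op.L, Op.L, Op.B2, Op.R, Op.C, Op.L, Op.L, Op.L, Op.L, Op.L, Op.L, Op.L, Op.L, Op.L, Op.L, Op.L, Op.L, Op.L, Op.L,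 Op.L, Op.B2, Op.R, Op.B3, Op.R, Op.R, Op.B2, Op.R, Op.B2, Op.R, Op.B2, Op.R, Op.B3, Op.R, Op.R, Op.B2, Op.R, Op.B2, Op.R, Op.B2, Op.R, Op.B2, Op.R, Op.B2, Op.R, Op.B2, Op.R, Op.C, Op.L, Op.L, Op.L, Op.L, Op.L, Op.L, Op.L, Op.L, Op.L, Op.L, Op.L, Op.L, Op.L, Op.L, Op.L, Op.B3, Op.R, Op.R, Op.B2, Op.R, Op.B2, Op.R, Op.B2, Op.R, Op.B3, Op.R, Op.R, Op.B2, Op.R, Op.B2, Op.R, Op.B2, Op.R, Op.B2, Op.R, Op.B2, Op.R, Op.B2, Op.R, Op.B2, Op.R, Op.C, Op.L, Op.L, Op.L, Op.B2, Op.L, Op.L, Op.L, Op.L, Op.L, Op.L, Op.L, Op.B2, Op.R, Op.B2, Op.R, Op.B2, Op.R, Op.B3, Op.R, Op.R, Op.B3, Op.R, Op.R, Op.B3, Op.R, Op.R, Op.C, Op.L, Op.L, Op.L, Op.L, Op.L, Op.B2, Op.L, Op.L, Op.L, Op.L, Op.L, Op.B2, Op.R, Op.B2, Op.R, Op.B2,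 Op.R, Op.B3, Op.R, Op.R, Op.B3, Op.R, Op.R, Op.B2, Op.R, Op.B2, Op.R, Op.C, Op.L, Op.C, Op.L, Op.L, Op.B2, Op.R, Op.C, Op.L, Op.L, Op.L, Op.L, Op.L, Op.L, Op.L, Op.L, Op.B2, Op.R, Op.B2, Op.R, Op.B3, Op.R, Op.R, Op.B2, Op.R, Op.B2, Op.R, Op.B2, Op.R, Op.C, Op.L, Op.L, Op.L, Op.L, Op.L, Op.L, Op.L, Op.L, Op.B2, Op.R, Op.B3, Op.R, Op.R, Op.B2, Op.R, Op.B2, Op.R, Op.B2, Op.R, Op.B2, Op.R, Op.C, Op.L, Op.L, Op.L, Op.L, Op.L, Op.L, Op.L, Op.L, Op.B3, Op.R, Op.R, Op.B2, Op.R, Op.B2, Op.R, Op.B2, Op.R, Op.B2, Op.R, Op.B2, Op.R, Op.C, Op.L, Op.C, Op.L, Op.C, Op.L, Op.C, Op.L, Op.C, Op.L, Op.C, Op.L, Op.C, Op.L, Op.C]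
    [1, 3, 4, 5, 6, 5, 3, 4, 2, 3, 0, 2, 1, 3, 4, 5, 2, 3, 4, 3]
    [2, 0, 3, 4, 5, 6, 2, 3, 4, 5, 1, 3, 2, 0, 4, 3, 1, 2, 4, 5, 6, 0, 1, 2, 3, 4, 5, 6, 0, 1, 2, 3, 4, 5, 6, 0, 1, 2, 3, 4, 5, 6, 0, 1, 2, 3, 4, 5, 6, 0, 1, 2, 3, 4, 5, 6] =
    ([],
     []) := by decide +kernel

set_option maxRecDepth 100000 in
theorem upper : ((List.finRange 7).map CoxeterMatrix.E₇.simple).prod ^ 18 = 1 :=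
  pow_eq_one_of_exec CoxeterMatrix.E₇ 18 [0, 1, 2, 3, 4, 5, 6, 0, 1, 2, 3, 4, 5, 6, 0, 1, 2, 3, 4, 5, 6, 0, 1, 2, 3, 4, 5, 6, 0, 1, 2, 3, 4, 5, 6, 0, 1, 2, 3, 4, 5, 6, 0, 1, 2, 3, 4, 5, 6, 0, 1, 2, 3, 4, 5, 6, 0, 1, 2, 3, 4, 5, 6, 0, 1, 2, 3, 4, 5, 6, 0, 1, 2, 3, 4, 5, 6, 0, 1, 2, 3, 4, 5, 6, 0, 1, 2, 3, 4, 5, 6, 0, 1, 2, 3, 4, 5, 6, 0, 1, 2, 3, 4, 5, 6, 0, 1, 2, 3, 4, 5, 6, 0, 1, 2, 3, 4, 5, 6, 0, 1, 2, 3, 4, 5, 6] (by decide +kernel)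
    ((val_eq_of_exec _ _ _ _ _ _ chunk0).trans
    ((val_eq_of_exec _ _ _ _ _ _ chunk1).trans
    ((val_eq_of_exec _ _ _ _ _ _ chunk2).trans
    ((val_eq_of_exec _ _ _ _ _ _ chunk3).trans
    ((val_eq_of_exec _ _ _ _ _ _ chunk4).trans
    (val_eq_of_exec _ _ _ _ _ _ chunk5))))))

set_option maxRecDepth 100000 in
theorem order : orderOf ((List.finRange 7).map CoxeterMatrix.E₇.simple).prod = 18 :=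
  order_coxeter CoxeterMatrix.E₇ S liftable 18 [9, 6] (by norm_num) upper (by decide +kernel) (by decide +kernel)

end Cfsg.Agent.H24.Cox.E7
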