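import Mathlib
import Cfsg.Agent.H24.CoxOrder

/-! Order of the Coxeter element of type E8: generated certificate. -/

namespace Cfsg.Agent.H24.Cox.E8

open Cfsg.Agent.H24.Cox

/-- Integer reflection matrices of the simple reflections. -/
def S : Fin 8 → Matrix (Fin 8) (Fin 8) ℤ := ![
  !![-1, 0, 1, 0, 0, 0, 0, 0; 0, 1, 0, 0, 0, 0, 0, 0; 0, 0, 1, 0, 0, 0, 0, 0; 0, 0, 0, 1, 0, 0, 0, 0; 0, 0, 0, 0, 1, 0, 0, 0; 0, 0, 0, 0, 0, 1, 0, 0; 0, 0, 0, 0, 0, 0, 1, 0; 0, 0, 0, 0, 0, 0, 0, 1],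
  !![1, 0, 0, 0, 0, 0, 0, 0; 0, -1, 0, 1, 0, 0, 0, 0; 0, 0, 1, 0, 0, 0, 0, 0; 0, 0, 0, 1, 0, 0, 0, 0; 0, 0, 0, 0, 1, 0, 0, 0; 0, 0, 0, 0, 0, 1, 0, 0; 0, 0, 0, 0, 0, 0, 1, 0; 0, 0, 0, 0, 0, 0, 0, 1],
  !![1, 0, 0, 0, 0, 0, 0, 0; 0, 1, 0, 0, 0, 0, 0, 0; 1, 0, -1, 1, 0, 0, 0, 0; 0, 0, 0, 1, 0, 0, 0, 0; 0, 0, 0, 0, 1, 0, 0, 0; 0, 0, 0, 0, 0, 1, 0, 0; 0, 0, 0, 0, 0, 0, 1, 0; 0, 0, 0, 0, 0, 0, 0, 1],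
  !![1, 0, 0, 0, 0, 0, 0, 0; 0, 1, 0, 0, 0, 0, 0, 0; 0, 0, 1, 0, 0, 0, 0, 0; 0, 1, 1, -1, 1, 0, 0, 0; 0, 0, 0, 0, 1, 0, 0, 0; 0, 0, 0, 0, 0, 1, 0, 0; 0, 0, 0, 0, 0, 0, 1, 0; 0, 0, 0, 0, 0, 0, 0, 1],
  !![1, 0, 0, 0, 0, 0, 0, 0; 0, 1, 0, 0, 0, 0, 0, 0; 0, 0, 1, 0, 0, 0, 0, 0; 0, 0, 0, 1, 0, 0, 0, 0; 0, 0, 0, 1, -1, 1, 0, 0; 0, 0, 0, 0, 0, 1, 0, 0; 0, 0, 0, 0, 0, 0, 1, 0; 0, 0, 0, 0, 0, 0, 0, 1],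
  !![1, 0, 0, 0, 0, 0, 0, 0; 0, 1, 0, 0, 0, 0, 0, 0; 0, 0, 1, 0, 0, 0, 0, 0; 0, 0, 0, 1, 0, 0, 0, 0; 0, 0, 0, 0, 1, 0, 0, 0; 0, 0, 0, 0, 1, -1, 1, 0; 0, 0, 0, 0, 0, 0, 1, 0; 0, 0, 0, 0, 0, 0, 0, 1],
  !![1, 0, 0, 0, 0, 0, 0, 0; 0, 1, 0, 0, 0, 0, 0, 0; 0, 0, 1, 0, 0, 0, 0, 0; 0, 0, 0, 1, 0, 0, 0, 0; 0, 0, 0, 0, 1, 0, 0, 0; 0, 0, 0, 0, 0, 1, 0, 0; 0, 0, 0, 0, 0, 1, -1, 1; 0, 0, 0, 0, 0, 0, 0, 1],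
  !![1, 0, 0, 0, 0, 0, 0, 0; 0, 1, 0, 0, 0, 0, 0, 0; 0, 0, 1, 0, 0, 0, 0, 0; 0, 0, 0, 1, 0, 0, 0, 0; 0, 0, 0, 0, 1, 0, 0, 0; 0, 0, 0, 0, 0, 1, 0, 0; 0, 0, 0, 0, 0, 0, 1, 0; 0, 0, 0, 0, 0, 0, 1, -1]]

set_option maxRecDepth 100000 in
theorem liftable : CoxeterMatrix.E₈.IsLiftable S := by
  unfold CoxeterMatrix.IsLiftable; decide +kernel

set_option maxRecDepth 1000000 in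
theorem chunk0 : exec (Mt CoxeterMatrix.E₈) [Op.R, Op.R, Op.R, Op.R, Op.R, Op.R, Op.R, Op.R, Op.R, Op.R, Op.R, Op.R, Op.R, Op.R, Op.R, Op.R, Op.R, Op.R, Op.R, Op.R, Op.R, Op.R, Op.R, Op.R, Op.R, Op.R, Op.R, Op.R, Op.R, Op.R, Op.R, Op.R, Op.R, Op.R, Op.R, Op.R, Op.R, Op.R, Op.R, Op.R, Op.R, Op.R, Op.R, Op.R, Op.R, Op.R, Op.R, Op.R, Op.R, Op.R, Op.R, Op.R, Op.R, Op.R, Op.R, Op.R, Op.R, Op.R, Op.R, Op.R, Op.R, Op.R, Op.R, Op.R, Op.R, Op.R, Op.R, Op.R, Op.R, Op.R, Op.R, Op.R, Op.R, Op.R, Op.R, Op.R, Op.R, Op.R, Op.R, Op.R, Op.R, Op.R, Op.R, Op.R, Op.R, Op.R, Op.R, Op.R, Op.R, Op.R, Op.R, Op.R, Op.R, Op.R, Op.R, Op.R, Op.R, Op.R, Op.R, Op.R, Op.R, Op.R, Op.R, Op.R, Op.R, Op.R, Op.R, Op.R, Op.R,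 Op.R, Op.R, Op.R, Op.B2, Op.L, Op.L, Op.L, Op.L, Op.L, Op.L, Op.L, Op.L, Op.L, Op.L, Op.L, Op.L, Op.L, Op.L, Op.L, Op.L, Op.L, Op.L, Op.L, Op.L, Op.L, Op.L, Op.L, Op.L, Op.L, Op.L, Op.L, Op.L, Op.L, Op.L, Op.L, Op.L, Op.L, Op.L, Op.L, Op.L, Op.L, Op.L, Op.L, Op.L, Op.L, Op.B2, Op.R, Op.B2, Op.R, Op.B2, Op.R, Op.B2, Op.R, Op.B2, Op.R, Op.B2, Op.R, Op.B3, Op.R, Op.R, Op.B2, Op.R, Op.B2, Op.R, Op.B2, Op.R, Op.B2, Op.R, Op.B2, Op.R, Op.B3, Op.R, Op.R, Op.B2, Op.R, Op.B2, Op.R, Op.B2, Op.R, Op.B2, Op.R, Op.B2, Op.R, Op.B3, Op.R, Op.R, Op.B2, Op.R, Op.B2, Op.R, Op.B2, Op.R, Op.B2, Op.R, Op.B2, Op.R, Op.B3, Op.R, Op.R, Op.B2, Op.R, Op.B2, Op.R, Op.B2, Op.R, Op.B2, Op.L, Op.L, Op.L, Op.L, Op.L, Op.L,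 Op.L, Op.B2, Op.L, Op.L, Op.L, Op.L, Op.L, Op.L, Op.L, Op.L, Op.L, Op.L, Op.L, Op.L, Op.L, Op.L, Op.L, Op.L, Op.L, Op.L, Op.L, Op.L, Op.L, Op.L, Op.L, Op.L, Op.L, Op.L, Op.B2, Op.R, Op.B2, Op.R, Op.B2, Op.R, Op.B2, Op.R, Op.B2, Op.R, Op.B3, Op.R, Op.R, Op.B2, Op.R, Op.B2, Op.R, Op.B2, Op.R, Op.B2, Op.R, Op.B2, Op.R, Op.B3, Op.R, Op.R, Op.B2, Op.R, Op.B2, Op.R, Op.B2, Op.R, Op.B2, Op.R, Op.B2, Op.R, Op.B3, Op.R, Op.R, Op.B2, Op.R, Op.B2, Op.R, Op.B2, Op.R, Op.B2, Op.L, Op.L, Op.L, Op.L, Op.L, Op.L, Op.L, Op.L, Op.L, Op.L, Op.L, Op.L, Op.L, Op.L, Op.L, Op.L, Op.L, Op.L, Op.L, Op.L, Op.L, Op.L, Op.L, Op.L, Op.L, Op.B2, Op.R, Op.B2, Op.R, Op.B2, Op.R, Op.B2, Op.R, Op.B3, Op.R, Op.R, Op.B2, Op.R,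 Op.B2, Op.R, Op.B2, Op.R, Op.B2, Op.R, Op.B2, Op.R, Op.B3, Op.R, Op.R, Op.B2, Op.R, Op.B2, Op.R, Op.B2, Op.R, Op.B2, Op.L, Op.L, Op.L, Op.L, Op.L, Op.L, Op.L, Op.B2, Op.L, Op.L, Op.L, Op.L, Op.L, Op.L, Op.L, Op.L, Op.L, Op.L, Op.B2, Op.R, Op.B2, Op.R, Op.B2, Op.R, Op.B3, Op.R, Op.R, Op.B2, Op.R, Op.B2, Op.R, Op.B2, Op.R, Op.B2, Op.L, Op.L, Op.L, Op.L, Op.L, Op.L, Op.L, Op.L, Op.L, Op.B2, Op.L, Op.L, Op.B2, Op.R, Op.B2, Op.R, Op.B3, Op.R, Op.R, Op.B3, Op.R, Op.R, Op.B2, Op.R, Op.B2, Op.R, Op.B2, Op.R, Op.B2, Op.L, Op.L, Op.L, Op.L, Op.L, Op.L, Op.L, Op.L, Op.B2, Op.R, Op.B2, Op.L, Op.L, Op.L, Op.L, Op.L, Op.L, Op.L, Op.L, Op.L, Op.L, Op.L, Op.L, Op.L, Op.L, Op.L, Op.L, Op.L, Op.L, Op.L, Op.L,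 Op.L, Op.L, Op.L, Op.L, Op.L, Op.L, Op.L, Op.L, Op.L, Op.L, Op.L, Op.L, Op.L, Op.L, Op.L, Op.L, Op.B2, Op.R, Op.B2, Op.R, Op.B2, Op.R, Op.B2, Op.R, Op.B2, Op.R, Op.B2, Op.R, Op.B3, Op.R, Op.R, Op.B2, Op.R, Op.B2, Op.R, Op.B2, Op.R, Op.B2, Op.R, Op.B2, Op.R, Op.B3, Op.R, Op.R, Op.B2, Op.R, Op.B2, Op.R, Op.B2, Op.R, Op.B2, Op.R, Op.B2, Op.R, Op.B3, Op.R, Op.R, Op.B2, Op.R, Op.B2, Op.R, Op.B2, Op.R, Op.B2, Op.R, Op.B2, Op.R, Op.B3, Op.R, Op.R, Op.B2, Op.R, Op.B2, Op.R, Op.B2, Op.R, Op.B2, Op.R, Op.B3, Op.R, Op.R, Op.B2, Op.R, Op.B3, Op.R, Op.R, Op.B2, Op.R, Op.B2, Op.R, Op.B2, Op.R, Op.B2, Op.R, Op.B2, Op.R, Op.B3, Op.R, Op.R, Op.B3, Op.R, Op.R, Op.B3, Op.R, Op.R, Op.B2, Op.R, Op.B2, Op.R, Op.B2,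 Op.R, Op.B2, Op.R, Op.B2, Op.R, Op.B3, Op.R, Op.R, Op.B3, Op.R, Op.R, Op.B2, Op.R, Op.B2, Op.R, Op.B2, Op.R, Op.B2, Op.L, Op.L, Op.L, Op.L, Op.L, Op.L, Op.L, Op.L, Op.B2, Op.R, Op.B2, Op.L, Op.L, Op.L, Op.L, Op.L, Op.L, Op.L, Op.L, Op.B2, Op.L, Op.L, Op.L, Op.L, Op.L, Op.L, Op.L, Op.L, Op.L, Op.L, Op.L, Op.B2, Op.R, Op.B2, Op.L, Op.L, Op.B2, Op.L, Op.L, Op.B3, Op.R, Op.R, Op.B3, Op.R, Op.R, Op.B3, Op.R, Op.R, Op.B2, Op.R, Op.B2, Op.R, Op.B2, Op.R, Op.B2, Op.R, Op.B2, Op.R, Op.B2, Op.R, Op.B3, Op.R, Op.R, Op.B3, Op.R, Op.R, Op.B2, Op.R, Op.B2, Op.R, Op.B2, Op.R, Op.B2, Op.L, Op.L, Op.L, Op.L, Op.L, Op.L, Op.L, Op.L, Op.L, Op.L, Op.L, Op.L, Op.L, Op.L, Op.L, Op.L, Op.L, Op.L, Op.L, Op.L, Op.L,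 Op.L, Op.L, Op.L, Op.L, Op.L, Op.L, Op.L, Op.L, Op.L, Op.L, Op.L, Op.L, Op.L, Op.L, Op.L, Op.B2, Op.R, Op.B2, Op.R, Op.B2, Op.R, Op.B2, Op.R, Op.B2, Op.R, Op.B2, Op.R, Op.B3, Op.R, Op.R, Op.B2, Op.R, Op.B2, Op.R, Op.B2, Op.R, Op.B2, Op.R, Op.B2, Op.R, Op.B3, Op.R, Op.R, Op.B2, Op.R, Op.B2, Op.R, Op.B2, Op.R, Op.B2, Op.R, Op.B2, Op.R, Op.B2, Op.R, Op.B2, Op.R, Op.B3, Op.R, Op.R, Op.B2, Op.R, Op.B2, Op.R, Op.B2, Op.R, Op.B2, Op.L, Op.L, Op.L, Op.L, Op.L, Op.L, Op.L, Op.L, Op.L, Op.L, Op.L, Op.L, Op.L, Op.L, Op.L, Op.L, Op.L, Op.L, Op.L, Op.L, Op.L, Op.L, Op.L, Op.L, Op.L, Op.L, Op.L, Op.L, Op.B2, Op.R, Op.B2, Op.R, Op.B2, Op.R, Op.B2, Op.R, Op.B2, Op.R, Op.B3, Op.R, Op.R, Op.B2, Op.R, Op.B2,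 Op.R, Op.B2, Op.R, Op.B2, Op.R, Op.B2, Op.R, Op.B3, Op.R, Op.R, Op.B2, Op.R, Op.B2, Op.R, Op.B2, Op.R, Op.B2, Op.L, Op.L, Op.L, Op.L, Op.L, Op.L, Op.L, Op.L, Op.L, Op.L, Op.L, Op.L, Op.L, Op.L, Op.L, Op.L, Op.L, Op.L, Op.B2, Op.R, Op.B2, Op.R, Op.B2, Op.R, Op.B2, Op.R, Op.B3, Op.R, Op.R, Op.B2, Op.R, Op.B2, Op.R, Op.B2, Op.R, Op.B2, Op.R, Op.B2, Op.R, Op.B3, Op.R, Op.R, Op.B2, Op.R, Op.B2, Op.R, Op.B2, Op.L, Op.L, Op.L, Op.L, Op.L, Op.L, Op.L, Op.L, Op.L, Op.L, Op.L, Op.L, Op.L, Op.L, Op.L, Op.L, Op.B2, Op.R, Op.B2, Op.R, Op.B2, Op.R, Op.B3, Op.R, Op.R, Op.B2, Op.R, Op.B2, Op.R, Op.B2, Op.R, Op.B2, Op.L, Op.L, Op.L, Op.L, Op.L, Op.L, Op.L, Op.B2, Op.L, Op.L, Op.B2, Op.L, Op.L, Op.L, Op.B2,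 Op.R, Op.B3, Op.R, Op.R, Op.B3, Op.R, Op.R, Op.B3, Op.R, Op.R, Op.B2, Op.R, Op.B2, Op.R, Op.B2, Op.R, Op.B2, Op.R, Op.B2, Op.R, Op.B3, Op.R, Op.R, Op.B3, Op.R, Op.R, Op.B2, Op.R, Op.B2, Op.R, Op.B2, Op.R, Op.B2, Op.R, Op.B3, Op.R, Op.R, Op.B2, Op.R, Op.B3, Op.R, Op.R, Op.B2, Op.R, Op.B2, Op.R, Op.B3, Op.R, Op.R, Op.B2, Op.R, Op.B2, Op.R, Op.B2, Op.L, Op.L, Op.L, Op.L, Op.L, Op.L, Op.B2, Op.L, Op.L, Op.L, Op.L, Op.L, Op.L, Op.L, Op.L, Op.L, Op.L, Op.L, Op.L, Op.B2, Op.L, Op.L, Op.L, Op.L, Op.L, Op.L, Op.L, Op.L, Op.L, Op.B2, Op.L, Op.L, Op.L, Op.L, Op.B2, Op.R, Op.B2, Op.R, Op.B3, Op.R, Op.R, Op.B3, Op.R, Op.R, Op.B2, Op.R, Op.B2, Op.R, Op.B2, Op.R, Op.B2, Op.L, Op.L, Op.L, Op.L, Op.L, Op.L]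
    []
    [0, 1, 2, 3, 4, 5, 6, 7, 0, 1, 2, 3, 4, 5, 6, 7, 0, 1, 2, 3, 4, 5, 6, 7, 0, 1, 2, 3, 4, 5, 6, 7, 0, 1, 2, 3, 4, 5, 6, 7, 0, 1, 2, 3, 4, 5, 6, 7, 0, 1, 2, 3, 4, 5, 6, 7, 0, 1, 2, 3, 4, 5, 6, 7, 0, 1, 2, 3, 4, 5, 6, 7, 0, 1, 2, 3, 4, 5, 6, 7, 0, 1, 2, 3, 4, 5, 6, 7, 0, 1, 2, 3, 4, 5, 6, 7, 0, 1, 2, 3, 4, 5, 6, 7, 0, 1, 2, 3, 4, 5, 6, 7, 0, 1, 2, 3, 4, 5, 6, 7, 0, 1, 2, 3, 4, 5, 6, 7, 0, 1, 2, 3, 4, 5, 6, 7, 0, 1, 2, 3, 4, 5, 6, 7, 0, 1, 2, 3, 4, 5, 6, 7, 0, 1, 2, 3, 4, 5, 6, 7, 0, 1, 2, 3, 4, 5, 6, 7, 0, 1, 2, 3, 4, 5, 6, 7, 0, 1, 2, 3, 4, 5, 6, 7, 0, 1, 2, 3, 4, 5, 6, 7, 0, 1, 2, 3, 4, 5, 6, 7, 0, 1, 2, 3, 4, 5, 6, 7, 0, 1, 2, 3, 4, 5, 6, 7, 0, 1, 2, 3, 4, 5, 6, 7, 0, 1, 2, 3, 4,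 5, 6, 7, 0, 1, 2, 3, 4, 5, 6, 7] =
    ([3, 0, 2, 7, 6, 5, 4, 3, 2, 1, 0, 6, 5, 4, 3, 2, 1, 0, 7, 6, 5, 4, 3, 2, 1, 0, 7, 6, 5, 4, 3, 2, 1, 0, 7, 6, 5, 4, 3, 2, 1, 0],
     [1, 2, 3, 4, 5, 6, 7, 2, 0, 3, 2, 1, 3, 4, 5, 6, 7, 3, 2, 0, 4, 3, 1, 2, 3, 4, 5, 6, 7, 3, 2, 0, 4, 3, 1, 2, 3, 4, 5, 6, 7, 2, 3, 1, 0, 2, 3, 4, 5, 6, 7, 2, 0, 3, 2, 1, 3, 4, 5, 6, 7, 0, 3, 1, 2, 3, 4, 5, 6, 7, 1, 0, 2, 3, 4, 5, 6, 7, 0, 1, 2, 3, 4, 5, 6, 7, 0, 1, 2, 3, 4, 5, 6, 7, 0, 1, 2, 3, 4, 5, 6, 7, 0, 1, 2, 3, 4, 5, 6, 7, 0, 1, 2, 3, 4, 5, 6, 7, 0, 1, 2, 3, 4, 5, 6, 7, 0, 1, 2, 3, 4, 5, 6, 7, 0, 1, 2, 3, 4, 5, 6, 7, 0, 1, 2, 3, 4, 5, 6, 7, 0, 1, 2, 3, 4, 5, 6, 7, 0, 1, 2, 3, 4, 5, 6, 7, 0, 1, 2, 3, 4, 5, 6, 7, 0,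 1, 2, 3, 4, 5, 6, 7, 0, 1, 2, 3, 4, 5, 6, 7, 0, 1, 2, 3, 4, 5, 6, 7]) := by decide +kernel

set_option maxRecDepth 1000000 in
theorem chunk1 : exec (Mt CoxeterMatrix.E₈) [Op.L, Op.L, Op.B2, Op.R, Op.B2, Op.L, Op.L, Op.L, Op.L, Op.L, Op.L, Op.L, Op.L, Op.L, Op.L, Op.L, Op.L, Op.L, Op.L, Op.L, Op.L, Op.L, Op.L, Op.L, Op.L, Op.L, Op.L, Op.L, Op.L, Op.L, Op.L, Op.L, Op.L, Op.L, Op.L, Op.L, Op.L, Op.L, Op.L, Op.B2, Op.R, Op.B2, Op.R, Op.B2, Op.R, Op.B2, Op.R, Op.B2, Op.R, Op.B2, Op.R, Op.B3, Op.R, Op.R, Op.B2, Op.R, Op.B2, Op.R, Op.B2, Op.R, Op.B2, Op.R, Op.B2, Op.R, Op.B3, Op.R, Op.R, Op.B2, Op.R, Op.B2, Op.R, Op.B2, Op.R, Op.B2, Op.R, Op.B2, Op.R, Op.B3, Op.R, Op.R, Op.B2, Op.R, Op.B2, Op.R,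 Op.B2, Op.R, Op.B2, Op.R, Op.B3, Op.R, Op.R, Op.B2, Op.R, Op.B2, Op.R, Op.B2, Op.R, Op.B3, Op.R, Op.R, Op.B2, Op.R, Op.B3, Op.R, Op.R, Op.B2, Op.R, Op.B2, Op.R, Op.B2, Op.R, Op.B2, Op.R, Op.B2, Op.R, Op.B3, Op.R, Op.R, Op.B3, Op.R, Op.R, Op.B3, Op.R, Op.R, Op.B2, Op.R, Op.B2, Op.R, Op.B2, Op.R, Op.B2, Op.L, Op.L, Op.L, Op.L, Op.L, Op.L, Op.L, Op.L, Op.L, Op.L, Op.L, Op.L, Op.L, Op.L, Op.L, Op.L, Op.L, Op.L, Op.L, Op.L, Op.L, Op.L, Op.L, Op.L, Op.L, Op.L, Op.L, Op.L, Op.B2, Op.R, Op.B2, Op.R, Op.B2, Op.R, Op.B2, Op.R, Op.B2, Op.R, Op.B3, Op.R, Op.R, Op.B2, Op.R, Op.B2, Op.R, Op.B2, Op.R, Op.B2, Op.R, Op.B2, Op.R, Op.B2, Op.R, Op.B2, Op.R, Op.B3, Op.R, Op.R, Op.B2, Op.R, Op.B2, Op.R, Op.B2,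 Op.R, Op.B2, Op.L, Op.L, Op.L, Op.L, Op.L, Op.L, Op.L, Op.L, Op.L, Op.L, Op.L, Op.L, Op.L, Op.L, Op.L, Op.L, Op.L, Op.L, Op.L, Op.L, Op.B2, Op.R, Op.B2, Op.R, Op.B2, Op.R, Op.B2, Op.R, Op.B3, Op.R, Op.R, Op.B2, Op.R, Op.B2, Op.R, Op.B2, Op.L, Op.L, Op.L, Op.L, Op.L, Op.L, Op.L, Op.L, Op.L, Op.B2, Op.R, Op.B2, Op.R, Op.B2, Op.R, Op.B3, Op.R, Op.R, Op.B2, Op.R, Op.B2, Op.R, Op.B2, Op.L, Op.L, Op.L, Op.L, Op.L, Op.L, Op.L, Op.L, Op.B2, Op.L, Op.L, Op.B2, Op.R, Op.B2, Op.R, Op.B3, Op.R, Op.R, Op.B3, Op.R, Op.R, Op.B2, Op.R, Op.B2, Op.R, Op.B2, Op.R, Op.B2, Op.R, Op.B3, Op.R, Op.R, Op.B3, Op.R, Op.R, Op.B2, Op.R, Op.B2, Op.R, Op.B2, Op.R, Op.B3, Op.R, Op.R, Op.B2, Op.R, Op.B2, Op.R, Op.B2, Op.L,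 Op.L, Op.L, Op.L, Op.L, Op.L, Op.L, Op.L, Op.L, Op.L, Op.L, Op.L, Op.L, Op.L, Op.L, Op.L, Op.L, Op.L, Op.B2, Op.L, Op.L, Op.L, Op.L, Op.B3, Op.R, Op.R, Op.B3, Op.R, Op.R, Op.B3, Op.R, Op.R, Op.B2, Op.R, Op.B2, Op.R, Op.B2, Op.R, Op.B2, Op.L, Op.L, Op.L, Op.L, Op.L, Op.L, Op.L, Op.L, Op.L, Op.L, Op.L, Op.L, Op.L, Op.L, Op.L, Op.L, Op.L, Op.L, Op.L, Op.L, Op.L, Op.L, Op.L, Op.L, Op.L, Op.L, Op.B2, Op.R, Op.B2, Op.R, Op.B2, Op.R, Op.B2, Op.R, Op.B2, Op.R, Op.B3, Op.R, Op.R, Op.B2, Op.R, Op.B2, Op.R, Op.B2, Op.R, Op.B2, Op.R, Op.B2, Op.R, Op.B3, Op.R, Op.R, Op.B2, Op.R, Op.B2, Op.R, Op.B2, Op.R, Op.B2, Op.L, Op.L, Op.L, Op.L, Op.L, Op.L, Op.L, Op.L, Op.L, Op.L, Op.L, Op.L, Op.L, Op.L, Op.L, Op.L,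 Op.L, Op.L, Op.B2, Op.R, Op.B2, Op.R, Op.B2, Op.R, Op.B2, Op.R, Op.B3, Op.R, Op.R, Op.B2, Op.R, Op.B2, Op.R, Op.B2, Op.R, Op.B2, Op.R, Op.B2, Op.R, Op.B3, Op.R, Op.R, Op.B2, Op.R, Op.B2, Op.R, Op.B2, Op.L, Op.L, Op.L, Op.L, Op.L, Op.L, Op.L, Op.L, Op.L, Op.L, Op.L, Op.L, Op.L, Op.L, Op.L, Op.L, Op.B2, Op.R, Op.B2, Op.R, Op.B2, Op.R, Op.B3, Op.R, Op.R, Op.B2, Op.R, Op.B2, Op.R, Op.B2, Op.R, Op.B2, Op.L, Op.L, Op.L, Op.L, Op.L, Op.L, Op.L, Op.B2, Op.L, Op.L, Op.B2, Op.L, Op.L, Op.L, Op.B2, Op.R, Op.B3, Op.R, Op.R, Op.B3, Op.R, Op.R, Op.B3, Op.R, Op.R, Op.B2, Op.R, Op.B2, Op.R, Op.B2, Op.R, Op.B2, Op.R, Op.B2, Op.R, Op.B3, Op.R, Op.R, Op.B3, Op.R, Op.R, Op.B2, Op.R, Op.B2, Op.R, Op.B2, Op.R,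 Op.B2, Op.R, Op.B3, Op.R, Op.R, Op.B2, Op.R, Op.B3, Op.R, Op.R, Op.B2, Op.R, Op.B2, Op.R, Op.B3, Op.R, Op.R, Op.B2, Op.R, Op.B2, Op.R, Op.B2, Op.R, Op.B3, Op.R, Op.R, Op.B2, Op.R, Op.B2, Op.R, Op.B3, Op.R, Op.R, Op.B2, Op.R, Op.B3, Op.R, Op.R, Op.B2, Op.R, Op.B2, Op.R, Op.B2, Op.R, Op.B2, Op.R, Op.B3, Op.R, Op.R, Op.B2, Op.R, Op.B3, Op.R, Op.R, Op.B2, Op.R, Op.B2, Op.R, Op.B3, Op.R, Op.R, Op.B2, Op.R, Op.B2, Op.R, Op.B2, Op.R, Op.B3, Op.R, Op.R, Op.B2, Op.R, Op.B2, Op.R, Op.B2, Op.R, Op.B3, Op.R, Op.R, Op.B3, Op.R, Op.R, Op.B2, Op.R, Op.B2, Op.R, Op.B2, Op.R, Op.B2, Op.R, Op.B3, Op.R, Op.R, Op.B2, Op.R, Op.B3, Op.R, Op.R, Op.B2, Op.R, Op.B2, Op.R, Op.B3, Op.R, Op.R, Op.B2, Op.R, Op.B2, Op.R,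 Op.B2, Op.R, Op.B3, Op.R, Op.R, Op.B2, Op.R, Op.B3, Op.R, Op.R, Op.B2, Op.R, Op.B2, Op.R, Op.B2, Op.R, Op.B2, Op.R, Op.B2, Op.R, Op.B3, Op.R, Op.R, Op.B3, Op.R, Op.R, Op.B3, Op.R, Op.R, Op.B2, Op.R, Op.B2, Op.R, Op.B2, Op.R, Op.B2, Op.R, Op.B2, Op.R, Op.B3, Op.R, Op.R, Op.B3, Op.R, Op.R, Op.B2, Op.R, Op.B2, Op.R, Op.B2, Op.R, Op.B2, Op.R, Op.B2, Op.R, Op.B3, Op.R, Op.R, Op.B2, Op.R, Op.B2, Op.R, Op.B2, Op.R, Op.B2, Op.R, Op.B2, Op.R, Op.C, Op.L, Op.L, Op.L, Op.L, Op.L, Op.L, Op.L, Op.L, Op.B2, Op.R, Op.B2, Op.L, Op.L, Op.L, Op.L, Op.L, Op.L, Op.L, Op.L, Op.L, Op.L, Op.L, Op.L, Op.L, Op.L, Op.L, Op.L, Op.L, Op.L, Op.L, Op.L, Op.L, Op.L, Op.L, Op.L, Op.L, Op.L, Op.L, Op.L, Op.L, Op.L, Op.L,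 Op.L, Op.L, Op.L, Op.L, Op.L, Op.L, Op.L, Op.L, Op.L, Op.L, Op.L, Op.L, Op.B2, Op.R, Op.B2, Op.R, Op.B2, Op.R, Op.B2, Op.R, Op.B2, Op.R, Op.B2, Op.R, Op.B2, Op.R, Op.B2, Op.R, Op.B2, Op.R, Op.B2, Op.R, Op.B3, Op.R, Op.R, Op.B2, Op.R, Op.B2, Op.R, Op.B2, Op.R, Op.B2, Op.R, Op.B2, Op.R, Op.B2, Op.R, Op.B2, Op.R, Op.B3, Op.R, Op.R, Op.B2, Op.R, Op.B2, Op.R, Op.B2, Op.R, Op.B2, Op.R, Op.B2, Op.R, Op.B2, Op.R, Op.B2, Op.R, Op.B3, Op.R, Op.R, Op.B2, Op.R, Op.B2, Op.R, Op.B2, Op.L, Op.L, Op.L, Op.L, Op.L, Op.L, Op.L, Op.L, Op.L, Op.L, Op.L, Op.L, Op.L, Op.L, Op.L, Op.L, Op.L, Op.L, Op.L, Op.L, Op.L, Op.L, Op.L, Op.L, Op.L, Op.L, Op.L, Op.L, Op.L, Op.L, Op.L, Op.L, Op.L, Op.B2, Op.R, Op.B2, Op.R,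 Op.B2, Op.R, Op.B2, Op.R, Op.B2, Op.R, Op.B2, Op.R, Op.B2, Op.R, Op.B2, Op.R, Op.B2, Op.R, Op.B3, Op.R, Op.R, Op.B2, Op.R, Op.B2, Op.R, Op.B2, Op.R, Op.B2, Op.R, Op.B2, Op.R, Op.B2, Op.R, Op.B2, Op.R, Op.B3, Op.R, Op.R, Op.B2, Op.R, Op.B2, Op.R, Op.B2, Op.R, Op.B2, Op.L, Op.L, Op.L, Op.L, Op.L, Op.L, Op.L, Op.L, Op.L, Op.L, Op.L, Op.L, Op.L, Op.L, Op.L, Op.L, Op.L, Op.L, Op.L, Op.L, Op.L, Op.L, Op.L, Op.L, Op.B2, Op.R, Op.B2, Op.R, Op.B2, Op.L, Op.L, Op.L, Op.L, Op.B3, Op.R, Op.R, Op.B2, Op.R, Op.B2, Op.R, Op.B3, Op.R, Op.R, Op.B2, Op.R, Op.B2, Op.R, Op.B2, Op.R, Op.B2, Op.R, Op.B3, Op.R, Op.R, Op.B2, Op.R, Op.B2, Op.R, Op.B2, Op.L, Op.L, Op.L, Op.L, Op.L, Op.L, Op.L, Op.L, Op.L, Op.L, Op.L,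 Op.L, Op.L, Op.L, Op.L, Op.B2, Op.R, Op.B3, Op.R, Op.R, Op.B2, Op.R, Op.B2, Op.R, Op.B3, Op.R, Op.R, Op.B2, Op.R, Op.B2, Op.R, Op.B3, Op.R, Op.R, Op.B2, Op.R, Op.B2, Op.R, Op.B2, Op.L, Op.L]
    [3, 0, 2, 7, 6, 5, 4, 3, 2, 1, 0, 6, 5, 4, 3, 2, 1, 0, 7, 6, 5, 4, 3, 2, 1, 0, 7, 6, 5, 4, 3, 2, 1, 0, 7, 6, 5, 4, 3, 2, 1, 0]
    [1, 2, 3, 4, 5, 6, 7, 2, 0, 3, 2, 1, 3, 4, 5, 6, 7, 3, 2, 0, 4, 3, 1, 2, 3, 4, 5, 6, 7, 3, 2, 0, 4, 3, 1, 2, 3, 4, 5, 6, 7, 2, 3, 1, 0, 2, 3, 4, 5, 6, 7, 2, 0, 3, 2, 1, 3, 4, 5, 6, 7, 0, 3, 1, 2, 3, 4, 5, 6, 7, 1, 0, 2, 3, 4, 5, 6, 7, 0, 1, 2, 3, 4, 5, 6, 7, 0, 1, 2, 3, 4, 5, 6, 7, 0, 1, 2, 3, 4, 5, 6, 7, 0, 1, 2, 3, 4, 5, 6, 7, 0, 1, 2, 3, 4, 5, 6, 7, 0, 1, 2, 3, 4, 5,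 6, 7, 0, 1, 2, 3, 4, 5, 6, 7, 0, 1, 2, 3, 4, 5, 6, 7, 0, 1, 2, 3, 4, 5, 6, 7, 0, 1, 2, 3, 4, 5, 6, 7, 0, 1, 2, 3, 4, 5, 6, 7, 0, 1, 2, 3, 4, 5, 6, 7, 0, 1, 2, 3, 4, 5, 6, 7, 0, 1, 2, 3, 4, 5, 6, 7, 0, 1, 2, 3, 4, 5, 6, 7] =
    ([4, 3, 2, 1, 3, 4, 5, 0, 2, 3, 4, 1, 3, 4, 0, 2, 3, 1, 7, 6, 5, 4, 3, 1, 2, 3, 4, 0, 2, 3, 7, 6, 5, 4, 3, 2, 0, 1, 3, 4, 2, 3, 1, 7, 6, 5, 4, 3, 1, 2, 3, 4, 0, 2, 3, 7, 6, 5, 4, 3, 2, 1, 3, 0, 7, 6, 5, 4, 3, 1, 2, 3, 0, 2, 1],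
     [5, 6, 7, 3, 2, 4, 3, 1, 0, 2, 3, 4, 5, 6, 7, 2, 0, 4, 3, 2, 1, 3, 4, 5, 6, 7, 0, 4, 3, 1, 2, 3, 4, 5, 6, 7, 0, 2, 1, 3, 4, 5, 6, 7, 1, 2, 3, 4, 5, 6, 7, 0, 1, 2, 3, 4, 5, 6, 7, 0, 1, 2, 3, 4, 5, 6, 7, 0, 1, 2, 3, 4, 5, 6, 7, 0, 1, 2, 3, 4, 5, 6, 7, 0, 1, 2, 3, 4, 5, 6, 7, 0, 1, 2, 3, 4, 5, 6, 7, 0, 1, 2, 3, 4, 5, 6, 7, 0, 1, 2, 3, 4, 5, 6, 7, 0, 1, 2, 3, 4, 5, 6, 7, 0, 1, 2, 3, 4, 5, 6, 7, 0, 1, 2, 3, 4, 5, 6, 7, 0, 1, 2, 3, 4, 5, 6, 7, 0, 1, 2, 3, 4, 5, 6, 7, 0, 1, 2, 3, 4, 5, 6, 7]) := by decide +kernel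

set_option maxRecDepth 1000000 in
theorem chunk2 : exec (Mt CoxeterMatrix.E₈) [Op.L, Op.L, Op.L, Op.L, Op.L, Op.L, Op.L, Op.L, Op.L, Op.L, Op.L, Op.L, Op.B2, Op.L, Op.L, Op.B3, Op.R, Op.R, Op.B3, Op.R, Op.R, Op.B2, Op.R, Op.B2, Op.R, Op.B2, Op.R, Op.B2, Op.R, Op.B3, Op.R, Op.R, Op.B3, Op.R, Op.R, Op.B2, Op.R, Op.B2, Op.R, Op.B2, Op.R, Op.B2, Op.R, Op.B3, Op.R, Op.R, Op.B3, Op.R, Op.R, Op.B2, Op.R, Op.B2, Op.R, Op.B2, Op.R, Op.B3, Op.R, Op.R, Op.B2, Op.R, Op.B2, Op.R, Op.B2, Op.L, Op.L, Op.L, Op.L, Op.L, Op.L, Op.L, Op.L, Op.L, Op.L, Op.L, Op.L, Op.L, Op.L, Op.L, Op.L, Op.L, Op.L, Op.B2, Op.L, Op.L, Op.L, Op.L, Op.L, Op.L, Op.L, Op.L, Op.L, Op.L, Op.B2, Op.R, Op.B2, Op.R, Op.B2, Op.R, Op.B2,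 Op.R, Op.B3, Op.R, Op.R, Op.B2, Op.R, Op.B2, Op.R, Op.B3, Op.R, Op.R, Op.B3, Op.R, Op.R, Op.B2, Op.R, Op.B2, Op.R, Op.B2, Op.R, Op.B2, Op.L, Op.L, Op.L, Op.L, Op.L, Op.L, Op.L, Op.L, Op.L, Op.L, Op.L, Op.L, Op.L, Op.L, Op.L, Op.L, Op.L, Op.B3, Op.R, Op.R, Op.B2, Op.R, Op.B2, Op.R, Op.B3, Op.R, Op.R, Op.B2, Op.R, Op.B2, Op.R, Op.B3, Op.R, Op.R, Op.B2, Op.R, Op.B2, Op.R, Op.B3, Op.R, Op.R, Op.B2, Op.R, Op.B2, Op.R, Op.B2, Op.R, Op.B3, Op.R, Op.R, Op.B2, Op.R, Op.B2, Op.R, Op.B3, Op.R, Op.R, Op.B2, Op.R, Op.B3, Op.R, Op.R, Op.B2, Op.R, Op.B2, Op.R, Op.B2, Op.R, Op.B2, Op.R, Op.B3, Op.R, Op.R, Op.B2, Op.R, Op.B3, Op.R, Op.R, Op.B2, Op.R, Op.B2, Op.R, Op.B3, Op.R, Op.R, Op.B2, Op.R, Op.B2, Op.R,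 Op.B2, Op.R, Op.B2, Op.R, Op.B3, Op.R, Op.R, Op.B2, Op.R, Op.B2, Op.R, Op.B3, Op.R, Op.R, Op.B2, Op.R, Op.B2, Op.R, Op.B2, Op.R, Op.B2, Op.L, Op.L, Op.L, Op.L, Op.L, Op.L, Op.L, Op.L, Op.L, Op.L, Op.L, Op.L, Op.L, Op.L, Op.L, Op.L, Op.L, Op.L, Op.L, Op.L, Op.L, Op.L, Op.L, Op.L, Op.L, Op.L, Op.L, Op.L, Op.L, Op.L, Op.L, Op.L, Op.L, Op.B2, Op.L, Op.L, Op.L, Op.L, Op.L, Op.L, Op.L, Op.L, Op.L, Op.L, Op.L, Op.L, Op.L, Op.L, Op.L, Op.L, Op.L, Op.B2, Op.L, Op.L, Op.L, Op.B2, Op.R, Op.B3, Op.R, Op.R, Op.B3, Op.R, Op.R, Op.B2, Op.R, Op.B2, Op.R, Op.B3, Op.R, Op.R, Op.B2, Op.R, Op.B2, Op.R, Op.B2, Op.R, Op.B2, Op.R, Op.B3, Op.R, Op.R, Op.B2, Op.R, Op.B2, Op.R, Op.B2, Op.R, Op.B3, Op.R, Op.R, Op.B3,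 Op.R, Op.R, Op.B2, Op.R, Op.B3, Op.R, Op.R, Op.B2, Op.R, Op.B2, Op.R, Op.B2, Op.R, Op.B2, Op.R, Op.B2, Op.R, Op.B2, Op.R, Op.B3, Op.R, Op.R, Op.B2, Op.R, Op.B3, Op.R, Op.R, Op.B3, Op.R, Op.R, Op.B2, Op.R, Op.B2, Op.R, Op.B2, Op.R, Op.B2, Op.R, Op.B2, Op.R, Op.B2, Op.R, Op.B3, Op.R, Op.R, Op.B3, Op.R, Op.R, Op.B2, Op.R, Op.B2, Op.R, Op.B2, Op.R, Op.B2, Op.L, Op.L, Op.L, Op.L, Op.L, Op.L, Op.L, Op.L, Op.L, Op.B2, Op.R, Op.B2, Op.R, Op.B2, Op.L, Op.L, Op.L, Op.L, Op.L, Op.L, Op.L, Op.L, Op.L, Op.B2, Op.L, Op.L, Op.L, Op.L, Op.L, Op.L, Op.L, Op.L, Op.L, Op.L, Op.L, Op.L, Op.L, Op.B2, Op.R, Op.B2, Op.L, Op.L, Op.B2, Op.L, Op.L, Op.L, Op.L, Op.L, Op.L, Op.L, Op.L, Op.L, Op.L, Op.L, Op.L, Op.L, Op.L,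 Op.L, Op.B2, Op.R, Op.B2, Op.R, Op.B2, Op.L, Op.L, Op.L, Op.B2, Op.R, Op.B2, Op.L, Op.L, Op.B2, Op.L, Op.L, Op.L, Op.L, Op.L, Op.L, Op.L, Op.L, Op.L, Op.L, Op.L, Op.L, Op.L, Op.L, Op.L, Op.L, Op.L, Op.L, Op.L, Op.L, Op.L, Op.L, Op.L, Op.L, Op.L, Op.L, Op.L, Op.L, Op.L, Op.L, Op.B2, Op.R, Op.B2, Op.R, Op.B2, Op.R, Op.B2, Op.R, Op.B2, Op.R, Op.B2, Op.R, Op.B2, Op.R, Op.B2, Op.R, Op.B2, Op.R, Op.B2, Op.R, Op.B2, Op.R, Op.B3, Op.R, Op.R, Op.B2, Op.R, Op.B2, Op.R, Op.B2, Op.R, Op.B2, Op.R, Op.B2, Op.R, Op.B2, Op.R, Op.B2, Op.R, Op.B2, Op.R, Op.B2, Op.R, Op.B3, Op.R, Op.R, Op.B2, Op.R, Op.B2, Op.R, Op.B2, Op.R, Op.B2, Op.R, Op.B3, Op.R, Op.R, Op.B3, Op.R, Op.R, Op.B3, Op.R, Op.R, Op.B3, Op.R, Op.R,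 Op.B2, Op.R, Op.B2, Op.R, Op.B2, Op.R, Op.B2, Op.R, Op.B2, Op.R, Op.B2, Op.R, Op.B2, Op.R, Op.B2, Op.R, Op.B2, Op.R, Op.B3, Op.R, Op.R, Op.B3, Op.R, Op.R, Op.B3, Op.R, Op.R, Op.B2, Op.R, Op.B2, Op.R, Op.B2, Op.R, Op.B2, Op.L, Op.L, Op.L, Op.L, Op.L, Op.L, Op.L, Op.L, Op.L, Op.L, Op.B2, Op.R, Op.B2, Op.L, Op.L, Op.L, Op.L, Op.L, Op.L, Op.L, Op.L, Op.L, Op.L, Op.B2, Op.L, Op.L, Op.B2, Op.L, Op.L, Op.L, Op.L, Op.L, Op.L, Op.B2, Op.R, Op.B2, Op.L, Op.L, Op.L, Op.L, Op.L, Op.L, Op.L, Op.L, Op.L, Op.L, Op.L, Op.L, Op.L, Op.L, Op.L, Op.L, Op.L, Op.L, Op.L, Op.L, Op.L, Op.L, Op.L, Op.L, Op.L, Op.L, Op.L, Op.L, Op.L, Op.B2, Op.R, Op.B2, Op.R, Op.B2, Op.R, Op.B2, Op.R, Op.B2, Op.R, Op.B2, Op.R, Op.B2,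 Op.R, Op.B2, Op.R, Op.B2, Op.R, Op.B2, Op.R, Op.B3, Op.R, Op.R, Op.B2, Op.R, Op.B2, Op.R, Op.B2, Op.R, Op.B2, Op.L, Op.L, Op.L, Op.L, Op.L, Op.L, Op.L, Op.L, Op.L, Op.L, Op.L, Op.L, Op.L, Op.L, Op.L, Op.L, Op.B2, Op.R, Op.B2, Op.R, Op.B2, Op.L, Op.L, Op.L, Op.B2, Op.L, Op.L, Op.B3, Op.R, Op.R, Op.B3, Op.R, Op.R, Op.B2, Op.R, Op.B3, Op.R, Op.R, Op.B2, Op.R, Op.B2, Op.R, Op.B2, Op.R, Op.B2, Op.R, Op.B2, Op.R, Op.B3, Op.R, Op.R, Op.B2, Op.R, Op.B2, Op.L, Op.L, Op.L, Op.L, Op.L, Op.L, Op.L, Op.L, Op.L, Op.L, Op.L, Op.L, Op.L, Op.L, Op.L, Op.L, Op.L, Op.B3, Op.R, Op.R, Op.B2, Op.R, Op.B2, Op.R, Op.B3, Op.R, Op.R, Op.B2, Op.R, Op.B3, Op.R, Op.R, Op.B2, Op.R, Op.B2, Op.R, Op.B2, Op.R, Op.B3, Op.R,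 Op.R, Op.B2, Op.R, Op.B2, Op.R, Op.B2, Op.R, Op.B3, Op.R, Op.R, Op.B2, Op.R, Op.B2, Op.R, Op.B3, Op.R, Op.R, Op.B2, Op.R, Op.B2, Op.R, Op.B2, Op.R, Op.B2, Op.R, Op.B3, Op.R, Op.R, Op.B2, Op.R, Op.B2, Op.R, Op.B2, Op.R, Op.B3, Op.R, Op.R, Op.B2, Op.R, Op.B3, Op.R, Op.R, Op.B2, Op.R, Op.B2, Op.R, Op.B2, Op.R, Op.B3, Op.R, Op.R, Op.B3, Op.R, Op.R, Op.B2, Op.R, Op.B2, Op.R, Op.B2, Op.R, Op.B2, Op.R, Op.B2, Op.R, Op.B3, Op.R, Op.R, Op.B2, Op.R, Op.B3, Op.R, Op.R, Op.B2, Op.R, Op.B2, Op.R, Op.B3, Op.R, Op.R, Op.B2, Op.R, Op.B2, Op.R, Op.B2, Op.R, Op.B3, Op.R, Op.R, Op.B2, Op.R, Op.B2, Op.R, Op.B2, Op.R, Op.B3, Op.R, Op.R, Op.B3, Op.R, Op.R, Op.B2, Op.R, Op.B2, Op.R, Op.B2, Op.R, Op.B2, Op.R, Op.B2,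 Op.L, Op.L, Op.L, Op.L, Op.L, Op.L, Op.L, Op.L, Op.L, Op.L, Op.L, Op.L, Op.L, Op.L, Op.L, Op.L, Op.L, Op.L, Op.L, Op.L, Op.B2, Op.L, Op.L, Op.L, Op.L, Op.L, Op.L, Op.L, Op.L, Op.L, Op.L, Op.L, Op.L, Op.L, Op.L, Op.L, Op.L, Op.L, Op.B2, Op.R, Op.B2, Op.L, Op.L, Op.L, Op.L, Op.L, Op.L, Op.L, Op.L, Op.L, Op.L, Op.L, Op.L, Op.L, Op.L, Op.L, Op.L, Op.L, Op.L, Op.L, Op.L, Op.L, Op.L, Op.L, Op.L, Op.L, Op.L, Op.L, Op.L, Op.L, Op.L, Op.L, Op.L, Op.L, Op.L, Op.L, Op.L, Op.B2, Op.L, Op.L, Op.L, Op.B2, Op.R, Op.B3, Op.R, Op.R, Op.B3, Op.R, Op.R, Op.B2, Op.R, Op.B2, Op.R, Op.B2, Op.R, Op.B3, Op.R, Op.R, Op.B2, Op.R, Op.B3, Op.R, Op.R, Op.B2, Op.R, Op.B2, Op.R, Op.B2, Op.R, Op.B2, Op.R, Op.B2, Op.R, Op.B3,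 Op.R, Op.R, Op.B2, Op.R, Op.B2, Op.R, Op.B3, Op.R, Op.R, Op.B2]
    [4, 3, 2, 1, 3, 4, 5, 0, 2, 3, 4, 1, 3, 4, 0, 2, 3, 1, 7, 6, 5, 4, 3, 1, 2, 3, 4, 0, 2, 3, 7, 6, 5, 4, 3, 2, 0, 1, 3, 4, 2, 3, 1, 7, 6, 5, 4, 3, 1, 2, 3, 4, 0, 2, 3, 7, 6, 5, 4, 3, 2, 1, 3, 0, 7, 6, 5, 4, 3, 1, 2, 3, 0, 2, 1]
    [5, 6, 7, 3, 2, 4, 3, 1, 0, 2, 3, 4, 5, 6, 7, 2, 0, 4, 3, 2, 1, 3, 4, 5, 6, 7, 0, 4, 3, 1, 2, 3, 4, 5, 6, 7, 0, 2, 1, 3, 4, 5, 6, 7, 1, 2, 3, 4, 5, 6, 7, 0, 1, 2, 3, 4, 5, 6, 7, 0, 1, 2, 3, 4, 5, 6, 7, 0, 1, 2, 3, 4, 5, 6, 7, 0, 1, 2, 3, 4, 5, 6, 7, 0, 1, 2, 3, 4, 5, 6, 7, 0, 1, 2, 3, 4, 5, 6, 7, 0, 1, 2, 3, 4, 5, 6, 7, 0, 1, 2, 3, 4, 5, 6, 7, 0, 1, 2, 3, 4, 5, 6, 7, 0, 1, 2, 3, 4, 5, 6, 7, 0, 1,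 2, 3, 4, 5, 6, 7, 0, 1, 2, 3, 4, 5, 6, 7, 0, 1, 2, 3, 4, 5, 6, 7, 0, 1, 2, 3, 4, 5, 6, 7] =
    ([3, 4, 5, 0, 2, 3, 4, 7, 6, 5, 4, 3, 2, 0, 1, 3, 4, 5, 2, 3, 1, 4, 3, 2, 0, 2, 3, 7, 6, 5, 4, 3, 2, 1, 3, 0, 7, 6, 5, 4, 3, 1, 2, 3, 0, 2, 1],
     [2, 4, 1, 3, 4, 5, 6, 7, 2, 3, 4, 5, 1, 3, 2, 0, 4, 3, 1, 2, 3, 4, 5, 6, 7, 1, 3, 2, 0, 4, 3, 1, 2, 3, 4, 5, 6, 7, 1, 3, 2, 0, 4, 3, 1, 2, 3, 4, 5, 6, 7, 4, 2, 3, 1, 0, 2, 3, 4, 5, 6, 7, 2, 0, 3, 2, 1, 3, 4, 5, 6, 7, 1, 2, 3, 4, 5, 6, 7, 0, 1, 2, 3, 4, 5, 6, 7, 0, 1, 2, 3, 4, 5, 6, 7, 0, 1, 2, 3, 4, 5, 6, 7, 0, 1, 2, 3, 4, 5, 6, 7, 0, 1, 2, 3, 4, 5, 6, 7, 0, 1, 2, 3, 4, 5, 6, 7, 0, 1, 2, 3, 4, 5, 6, 7, 0, 1, 2, 3, 4, 5, 6, 7, 0, 1, 2, 3, 4, 5, 6, 7,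 0, 1, 2, 3, 4, 5, 6, 7, 0, 1, 2, 3, 4, 5, 6, 7, 0, 1, 2, 3, 4, 5, 6, 7, 0, 1, 2, 3, 4, 5, 6, 7, 0, 1, 2, 3, 4, 5, 6, 7]) := by decide +kernel

set_option maxRecDepth 1000000 in
theorem chunk3 : exec (Mt CoxeterMatrix.E₈) [Op.R, Op.B2, Op.R, Op.B3, Op.R, Op.R, Op.B2, Op.R, Op.B2, Op.R, Op.B2, Op.R, Op.B3, Op.R, Op.R, Op.B2, Op.R, Op.B2, Op.R, Op.B2, Op.R, Op.B3, Op.R, Op.R, Op.B2, Op.R, Op.B3, Op.R, Op.R, Op.B2, Op.R, Op.B2, Op.R, Op.B3, Op.R, Op.R, Op.B2, Op.R, Op.B2, Op.R, Op.B2, Op.R, Op.B3, Op.R, Op.R, Op.B2, Op.R, Op.B2, Op.R, Op.B2, Op.R, Op.B3, Op.R, Op.R, Op.B3, Op.R, Op.R, Op.B2, Op.R, Op.B2, Op.R, Op.B2, Op.R, Op.B2, Op.R, Op.B2, Op.R, Op.B3, Op.R, Op.R, Op.B2, Op.R, Op.B3, Op.R,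 Op.R, Op.B2, Op.R, Op.B2, Op.R, Op.B3, Op.R, Op.R, Op.B2, Op.R, Op.B2, Op.R, Op.B2, Op.L, Op.L, Op.L, Op.L, Op.L, Op.L, Op.L, Op.L, Op.L, Op.L, Op.L, Op.L, Op.L, Op.L, Op.L, Op.L, Op.L, Op.L, Op.L, Op.L, Op.L, Op.L, Op.L, Op.L, Op.L, Op.L, Op.L, Op.L, Op.L, Op.L, Op.L, Op.L, Op.L, Op.L, Op.L, Op.L, Op.L, Op.L, Op.L, Op.L, Op.L, Op.L, Op.L, Op.B2, Op.R, Op.B2, Op.R, Op.B2, Op.R, Op.B2, Op.R, Op.B2, Op.R, Op.B2, Op.R, Op.B2, Op.R, Op.B2, Op.R, Op.B2, Op.R, Op.B2, Op.R, Op.B2, Op.R, Op.B2, Op.R, Op.B2, Op.R, Op.B2, Op.R, Op.B2, Op.R, Op.B3, Op.R, Op.R, Op.B2, Op.R, Op.B2, Op.R, Op.B2, Op.R, Op.B2, Op.R, Op.B2, Op.R, Op.B2, Op.R, Op.B2, Op.R, Op.B2, Op.R, Op.B2, Op.R, Op.B2, Op.R, Op.B3, Op.R,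 Op.R, Op.B2, Op.R, Op.B2, Op.R, Op.B2, Op.R, Op.B2, Op.R, Op.B2, Op.L, Op.L, Op.L, Op.L, Op.L, Op.L, Op.L, Op.L, Op.L, Op.L, Op.L, Op.L, Op.L, Op.L, Op.L, Op.L, Op.L, Op.L, Op.L, Op.L, Op.L, Op.L, Op.L, Op.L, Op.L, Op.L, Op.L, Op.L, Op.L, Op.L, Op.L, Op.L, Op.L, Op.L, Op.B2, Op.R, Op.B2, Op.R, Op.B2, Op.L, Op.L, Op.L, Op.B2, Op.R, Op.B2, Op.L, Op.L, Op.B2, Op.L, Op.L, Op.L, Op.B2, Op.R, Op.B3, Op.R, Op.R, Op.B3, Op.R, Op.R, Op.B3, Op.R, Op.R, Op.B3, Op.R, Op.R, Op.B2, Op.R, Op.B2, Op.R, Op.B2, Op.R, Op.B2, Op.R, Op.B2, Op.R, Op.B2, Op.R, Op.B2, Op.R, Op.B2, Op.R, Op.B2, Op.R, Op.B2, Op.R, Op.B3, Op.R, Op.R, Op.B2, Op.R, Op.B2, Op.R, Op.B2, Op.R, Op.B2, Op.R, Op.B2, Op.L, Op.L, Op.L, Op.L,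 Op.L, Op.L, Op.L, Op.L, Op.L, Op.L, Op.L, Op.L, Op.L, Op.L, Op.L, Op.L, Op.L, Op.B2, Op.R, Op.B2, Op.R, Op.B2, Op.R, Op.B2, Op.L, Op.L, Op.L, Op.L, Op.L, Op.B2, Op.R, Op.B2, Op.L, Op.L, Op.L, Op.B2, Op.R, Op.B2, Op.L, Op.L, Op.L, Op.L, Op.L, Op.L, Op.B3, Op.R, Op.R, Op.B2, Op.R, Op.B2, Op.R, Op.B2, Op.R, Op.B2, Op.R, Op.B3, Op.R, Op.R, Op.B3, Op.R, Op.R, Op.B2, Op.R, Op.B2, Op.R, Op.B3, Op.R, Op.R, Op.B2, Op.R, Op.B2, Op.R, Op.B2, Op.R, Op.B2, Op.R, Op.B3, Op.R, Op.R, Op.B2, Op.R, Op.B2, Op.R, Op.B2, Op.L, Op.L, Op.L, Op.L, Op.L, Op.L, Op.L, Op.L, Op.L, Op.L, Op.L, Op.L, Op.L, Op.L, Op.L, Op.L, Op.L, Op.L, Op.L, Op.L, Op.B2, Op.R, Op.B2, Op.R, Op.B2, Op.L, Op.L, Op.L, Op.L, Op.L, Op.B2, Op.R,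 Op.B3, Op.R, Op.R, Op.B2, Op.R, Op.B2, Op.R, Op.B3, Op.R, Op.R, Op.B2, Op.R, Op.B2, Op.R, Op.B3, Op.R, Op.R, Op.B2, Op.R, Op.B2, Op.R, Op.B3, Op.R, Op.R, Op.B2, Op.R, Op.B2, Op.R, Op.B3, Op.R, Op.R, Op.B2, Op.R, Op.B2, Op.R, Op.B2, Op.L, Op.L, Op.L, Op.L, Op.L, Op.L, Op.B2, Op.L, Op.L, Op.L, Op.L, Op.L, Op.L, Op.L, Op.L, Op.L, Op.L, Op.L, Op.L, Op.L, Op.L, Op.L, Op.L, Op.L, Op.B2, Op.R, Op.B2, Op.R, Op.B2, Op.R, Op.B2, Op.R, Op.B2, Op.R, Op.B2, Op.L, Op.L, Op.L, Op.L, Op.L, Op.L, Op.B2, Op.R, Op.B2, Op.L, Op.L, Op.B2, Op.L, Op.L, Op.L, Op.L, Op.L, Op.L, Op.L, Op.L, Op.L, Op.B2, Op.R, Op.B2, Op.L, Op.L, Op.B2, Op.L, Op.L, Op.L, Op.B2, Op.R, Op.B2, Op.L, Op.L, Op.L, Op.L, Op.L, Op.L, Op.L, Op.L,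 Op.B3, Op.R, Op.R, Op.B2, Op.R, Op.B2, Op.R, Op.B2, Op.R, Op.B2, Op.R, Op.B2, Op.R, Op.B2, Op.R, Op.B3, Op.R, Op.R, Op.B3, Op.R, Op.R, Op.B3, Op.R, Op.R, Op.B2, Op.R, Op.B2, Op.R, Op.B2, Op.R, Op.B2, Op.R, Op.B2, Op.R, Op.B2, Op.R, Op.B3, Op.R, Op.R, Op.B3, Op.R, Op.R, Op.B2, Op.R, Op.B2, Op.R, Op.B2, Op.R, Op.B3, Op.R, Op.R, Op.B2, Op.R, Op.B2, Op.R, Op.B2, Op.R, Op.B2, Op.R, Op.B3, Op.R, Op.R, Op.B2, Op.R, Op.B2, Op.R, Op.B3, Op.R, Op.R, Op.B3, Op.R, Op.R, Op.B2, Op.R, Op.B2, Op.R, Op.B2, Op.R, Op.B2, Op.R, Op.B3, Op.R, Op.R, Op.B3, Op.R, Op.R, Op.B2, Op.R, Op.B2, Op.R, Op.B3, Op.R, Op.R, Op.B2, Op.R, Op.B2, Op.R, Op.B2, Op.R, Op.B2, Op.R, Op.B3, Op.R, Op.R, Op.B2, Op.R, Op.B2, Op.R, Op.B2,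 Op.L, Op.L, Op.L, Op.L, Op.L, Op.L, Op.L, Op.L, Op.L, Op.L, Op.L, Op.L, Op.L, Op.L, Op.L, Op.L, Op.L, Op.L, Op.L, Op.L, Op.L, Op.L, Op.L, Op.B2, Op.L, Op.L, Op.L, Op.L, Op.L, Op.L, Op.L, Op.L, Op.B2, Op.L, Op.L, Op.L, Op.L, Op.L, Op.L, Op.L, Op.L, Op.L, Op.L, Op.L, Op.B2, Op.R, Op.B2, Op.R, Op.B2, Op.R, Op.B2, Op.R, Op.B3, Op.R, Op.R, Op.B2, Op.R, Op.B2, Op.R, Op.B2, Op.R, Op.B3, Op.R, Op.R, Op.B3, Op.R, Op.R, Op.B2, Op.R, Op.B2, Op.R, Op.B2, Op.R, Op.B2, Op.R, Op.B3, Op.R, Op.R, Op.B3, Op.R, Op.R, Op.B2, Op.R, Op.B2, Op.R, Op.B2, Op.R, Op.B2, Op.L, Op.L, Op.L, Op.L, Op.L, Op.L, Op.L, Op.L, Op.L, Op.L, Op.L, Op.L, Op.L, Op.L, Op.L, Op.L, Op.L, Op.L, Op.L, Op.L, Op.L, Op.L, Op.L, Op.L, Op.L,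 Op.L, Op.L, Op.L, Op.L, Op.L, Op.L, Op.L, Op.L, Op.L, Op.L, Op.L, Op.B2, Op.R, Op.B2, Op.L, Op.L, Op.L, Op.B2, Op.L, Op.L, Op.L, Op.L, Op.L, Op.L, Op.B2, Op.R, Op.B3, Op.R, Op.R, Op.B2, Op.R, Op.B2, Op.R, Op.B2, Op.R, Op.B3, Op.R, Op.R, Op.B2, Op.R, Op.B3, Op.R, Op.R, Op.B2, Op.R, Op.B2, Op.R, Op.B3, Op.R, Op.R, Op.B2, Op.R, Op.B2, Op.R, Op.B2, Op.R, Op.B3, Op.R, Op.R, Op.B2, Op.R, Op.B2, Op.R, Op.B3, Op.R, Op.R, Op.B2, Op.R, Op.B2, Op.R, Op.B2, Op.R, Op.B3, Op.R, Op.R, Op.B2, Op.R, Op.B2, Op.R, Op.B3, Op.R, Op.R, Op.B2, Op.R, Op.B2, Op.R, Op.B3, Op.R, Op.R, Op.B2, Op.R, Op.B2, Op.R, Op.B3, Op.R, Op.R, Op.B2, Op.R, Op.B2, Op.R, Op.B2, Op.R, Op.B3, Op.R, Op.R, Op.B2, Op.R, Op.B2, Op.R, Op.B3,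 Op.R, Op.R, Op.B2, Op.R, Op.B2, Op.R, Op.B3, Op.R, Op.R, Op.B2, Op.R, Op.B2, Op.R, Op.B3, Op.R, Op.R, Op.B2, Op.R, Op.B2, Op.R, Op.B2, Op.L, Op.L, Op.L, Op.L, Op.L, Op.L, Op.B2, Op.L, Op.L, Op.L, Op.L, Op.L, Op.L, Op.L, Op.L, Op.L, Op.L, Op.L, Op.L, Op.L, Op.L, Op.L, Op.L, Op.L, Op.L, Op.L, Op.L, Op.L, Op.B2, Op.R, Op.B2, Op.R, Op.B2, Op.R, Op.B2, Op.L, Op.L, Op.L, Op.L, Op.B2, Op.R, Op.B2, Op.L, Op.L, Op.B2, Op.L, Op.L, Op.B2, Op.L, Op.L, Op.L, Op.L, Op.L, Op.L, Op.L, Op.L, Op.L, Op.L, Op.L, Op.L, Op.L, Op.L, Op.L, Op.L, Op.L, Op.L, Op.L, Op.L, Op.L, Op.L, Op.L, Op.L, Op.L, Op.L, Op.L, Op.L, Op.L, Op.L, Op.B2, Op.R, Op.B2, Op.R, Op.B2, Op.R, Op.B2, Op.R, Op.B2, Op.R, Op.B2, Op.R, Op.B2, Op.R,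 Op.B2, Op.R, Op.B2, Op.R, Op.B2, Op.R, Op.B2, Op.R, Op.B2, Op.R, Op.B2, Op.R, Op.B2, Op.R, Op.B2, Op.R, Op.B2, Op.R, Op.B3, Op.R, Op.R, Op.B2, Op.R, Op.B2, Op.R, Op.B2, Op.R, Op.B2, Op.R, Op.B2, Op.R, Op.B2, Op.R, Op.B3, Op.R]
    [3, 4, 5, 0, 2, 3, 4, 7, 6, 5, 4, 3, 2, 0, 1, 3, 4, 5, 2, 3, 1, 4, 3, 2, 0, 2, 3, 7, 6, 5, 4, 3, 2, 1, 3, 0, 7, 6, 5, 4, 3, 1, 2, 3, 0, 2, 1]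
    [2, 4, 1, 3, 4, 5, 6, 7, 2, 3, 4, 5, 1, 3, 2, 0, 4, 3, 1, 2, 3, 4, 5, 6, 7, 1, 3, 2, 0, 4, 3, 1, 2, 3, 4, 5, 6, 7, 1, 3, 2, 0, 4, 3, 1, 2, 3, 4, 5, 6, 7, 4, 2, 3, 1, 0, 2, 3, 4, 5, 6, 7, 2, 0, 3, 2, 1, 3, 4, 5, 6, 7, 1, 2, 3, 4, 5, 6, 7, 0, 1, 2, 3, 4, 5, 6, 7, 0, 1, 2, 3, 4, 5, 6, 7, 0, 1, 2, 3, 4, 5, 6, 7, 0, 1, 2, 3, 4, 5, 6, 7, 0, 1, 2, 3, 4, 5, 6, 7, 0, 1, 2, 3, 4, 5, 6, 7, 0, 1, 2, 3, 4, 5, 6, 7, 0, 1, 2, 3, 4, 5, 6, 7, 0, 1, 2, 3, 4, 5, 6, 7, 0, 1, 2, 3, 4, 5, 6, 7, 0, 1, 2, 3, 4, 5, 6, 7, 0, 1, 2, 3, 4, 5, 6, 7, 0, 1, 2, 3, 4, 5, 6, 7, 0, 1, 2, 3, 4, 5, 6, 7] =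
    ([5, 4, 3, 2, 1, 3, 4, 7, 6, 5, 4, 3, 1, 2, 3, 4, 0, 2, 3, 5, 1, 4, 3, 2, 0, 6, 5, 4, 3, 2, 1, 3, 0, 7, 6, 5, 4, 3, 1, 2, 3, 0, 2, 1],
     [6, 5, 0, 2, 3, 1, 4, 5, 3, 4, 2, 3, 1, 0, 2, 3, 4, 5, 6, 7, 2, 3, 1, 4, 3, 2, 0, 5, 4, 3, 2, 1, 3, 4, 5, 6, 7, 3, 1, 4, 3, 2, 0, 5, 4, 3, 1, 2, 3, 4, 5, 6, 7, 3, 4, 2, 3, 1, 0, 2, 3, 4, 5, 6, 7, 2, 0, 3, 2, 1, 3, 4, 5, 6, 7, 1, 2, 3, 4, 5, 6, 7, 0, 1, 2, 3, 4, 5, 6, 7, 0, 1, 2, 3, 4, 5, 6, 7, 0, 1, 2, 3, 4, 5, 6, 7, 0, 1, 2, 3, 4, 5, 6, 7, 0, 1, 2, 3, 4, 5, 6, 7, 0, 1, 2, 3, 4, 5, 6, 7, 0, 1, 2, 3, 4, 5, 6, 7, 0, 1, 2, 3, 4, 5, 6, 7, 0, 1, 2, 3, 4, 5, 6, 7, 0, 1, 2, 3, 4, 5, 6, 7, 0, 1, 2, 3, 4, 5, 6, 7, 0, 1, 2, 3, 4, 5, 6, 7, 0, 1, 2, 3, 4, 5, 6,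 7, 0, 1, 2, 3, 4, 5, 6, 7]) := by decide +kernel

set_option maxRecDepth 1000000 in
theorem chunk4 : exec (Mt CoxeterMatrix.E₈) [Op.R, Op.B2, Op.R, Op.B2, Op.R, Op.B2, Op.R, Op.B2, Op.R, Op.B3, Op.R, Op.R, Op.B3, Op.R, Op.R, Op.B3, Op.R, Op.R, Op.B2, Op.R, Op.B3, Op.R, Op.R, Op.B2, Op.R, Op.B2, Op.R, Op.B2, Op.R, Op.B2, Op.R, Op.B2, Op.L, Op.L, Op.L, Op.L, Op.L, Op.L, Op.L, Op.L, Op.L, Op.L, Op.L, Op.L, Op.L, Op.L, Op.B2, Op.R, Op.B2, Op.L, Op.L, Op.L, Op.L, Op.L, Op.L, Op.L, Op.L, Op.L, Op.L, Op.L, Op.L, Op.L, Op.L, Op.L, Op.L, Op.L, Op.L, Op.L, Op.L, Op.L, Op.L, Op.L, Op.L, Op.L, Op.L, Op.L, Op.L, Op.L, Op.L, Op.L, Op.B2, Op.R, Op.B2, Op.R, Op.B2, Op.R, Op.B2, Op.R, Op.B2, Op.L, Op.L, Op.L,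 Op.L, Op.L, Op.B2, Op.R, Op.B2, Op.R, Op.B2, Op.L, Op.L, Op.L, Op.B2, Op.R, Op.B2, Op.L, Op.L, Op.B2, Op.L, Op.L, Op.L, Op.L, Op.B2, Op.R, Op.B2, Op.R, Op.B3, Op.R, Op.R, Op.B3, Op.R, Op.R, Op.B3, Op.R, Op.R, Op.B3, Op.R, Op.R, Op.B2, Op.R, Op.B3, Op.R, Op.R, Op.B2, Op.R, Op.B2, Op.R, Op.B2, Op.R, Op.B2, Op.R, Op.B2, Op.R, Op.B2, Op.R, Op.B2, Op.R, Op.B2, Op.R, Op.B2, Op.R, Op.B3, Op.R, Op.R, Op.B2, Op.L, Op.L, Op.L, Op.L, Op.L, Op.L, Op.L, Op.L, Op.L, Op.L, Op.L, Op.L, Op.B2, Op.R, Op.B2, Op.R, Op.B2, Op.L, Op.L, Op.L, Op.L, Op.L, Op.B2, Op.R, Op.B2, Op.L, Op.L, Op.L, Op.B2, Op.L, Op.L, Op.L, Op.L, Op.L, Op.L, Op.B2, Op.R, Op.B2, Op.L, Op.L, Op.L, Op.L, Op.L, Op.L, Op.L, Op.L, Op.L, Op.B2,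 Op.L, Op.L, Op.L, Op.L, Op.B2, Op.R, Op.B2, Op.R, Op.B3, Op.R, Op.R, Op.B3, Op.R, Op.R, Op.B2, Op.R, Op.B2, Op.R, Op.B2, Op.R, Op.B2, Op.R, Op.B3, Op.R, Op.R, Op.B2, Op.R, Op.B3, Op.R, Op.R, Op.B2, Op.R, Op.B2, Op.R, Op.B2, Op.R, Op.B3, Op.R, Op.R, Op.B2, Op.R, Op.B3, Op.R, Op.R, Op.B2, Op.R, Op.B2, Op.R, Op.B3, Op.R, Op.R, Op.B2, Op.R, Op.B2, Op.R, Op.B2, Op.R, Op.B2, Op.R, Op.B3, Op.R, Op.R, Op.B2, Op.R, Op.B2, Op.R, Op.B3, Op.R, Op.R, Op.B2, Op.R, Op.B2, Op.R, Op.B2, Op.R, Op.B2, Op.R, Op.B3, Op.R, Op.R, Op.B2, Op.R, Op.B2, Op.R, Op.B2, Op.R, Op.B3, Op.R, Op.R, Op.B2, Op.R, Op.B3, Op.R, Op.R, Op.B2, Op.R, Op.B2, Op.R, Op.B3, Op.R, Op.R, Op.B2, Op.R, Op.B3, Op.R, Op.R, Op.B2, Op.R, Op.B2,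 Op.R, Op.B2, Op.R, Op.B2, Op.R, Op.B3, Op.R, Op.R, Op.B2, Op.R, Op.B2, Op.R, Op.B2, Op.R, Op.B2, Op.R, Op.B3, Op.R, Op.R, Op.B2, Op.R, Op.B2, Op.R, Op.B3, Op.R, Op.R, Op.B3, Op.R, Op.R, Op.B2, Op.R, Op.B2, Op.R, Op.B2, Op.R, Op.B2, Op.R, Op.B3, Op.R, Op.R, Op.B3, Op.R, Op.R, Op.B2, Op.R, Op.B2, Op.R, Op.B3, Op.R, Op.R, Op.B2, Op.R, Op.B2, Op.R, Op.B2, Op.R, Op.B2, Op.R, Op.B3, Op.R, Op.R, Op.B2, Op.R, Op.B2, Op.R, Op.B3, Op.R, Op.R, Op.B3, Op.R, Op.R, Op.B2, Op.R, Op.B3, Op.R, Op.R, Op.B2, Op.R, Op.B2, Op.R, Op.B2, Op.R, Op.B2, Op.R, Op.B2, Op.R, Op.B3, Op.R, Op.R, Op.B3, Op.R, Op.R, Op.B3, Op.R, Op.R, Op.B2, Op.R, Op.B2, Op.R, Op.B2, Op.R, Op.B2, Op.R, Op.C, Op.L, Op.L, Op.L, Op.L, Op.L,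 Op.L, Op.L, Op.B2, Op.L, Op.L, Op.L, Op.L, Op.L, Op.L, Op.L, Op.L, Op.L, Op.L, Op.L, Op.B2, Op.R, Op.B2, Op.L, Op.L, Op.B2, Op.L, Op.L, Op.L, Op.L, Op.L, Op.L, Op.L, Op.L, Op.L, Op.L, Op.L, Op.L, Op.L, Op.L, Op.B2, Op.R, Op.B2, Op.R, Op.B2, Op.R, Op.B2, Op.L, Op.L, Op.L, Op.L, Op.B2, Op.R, Op.B2, Op.L, Op.L, Op.B2, Op.L, Op.L, Op.L, Op.L, Op.L, Op.L, Op.L, Op.L, Op.L, Op.L, Op.L, Op.L, Op.L, Op.L, Op.L, Op.L, Op.L, Op.L, Op.L, Op.L, Op.L, Op.L, Op.L, Op.L, Op.L, Op.L, Op.L, Op.L, Op.L, Op.L, Op.L, Op.L, Op.L, Op.L, Op.L, Op.L, Op.L, Op.L, Op.L, Op.L, Op.L, Op.L, Op.L, Op.L, Op.L, Op.L, Op.L, Op.L, Op.L, Op.B2, Op.R, Op.B2, Op.R, Op.B2, Op.R, Op.B2, Op.R, Op.B2, Op.R, Op.B2, Op.R, Op.B2, Op.R,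 Op.B2, Op.L, Op.L, Op.L, Op.L, Op.L, Op.L, Op.L, Op.L, Op.L, Op.B3, Op.R, Op.R, Op.B2, Op.R, Op.B2, Op.R, Op.B2, Op.R, Op.B2, Op.R, Op.B2, Op.R, Op.B2, Op.L, Op.L, Op.L, Op.L, Op.L, Op.L, Op.L, Op.L, Op.B2, Op.R, Op.B3, Op.R, Op.R, Op.B2, Op.R, Op.B2, Op.R, Op.B2, Op.R, Op.B2, Op.L, Op.L, Op.L, Op.L, Op.L, Op.L, Op.L, Op.B2, Op.R, Op.B2, Op.R, Op.B3, Op.R, Op.R, Op.B2, Op.R, Op.B2, Op.L, Op.L, Op.L, Op.L, Op.L, Op.L, Op.B2, Op.R, Op.B2, Op.R, Op.B2, Op.R, Op.B3, Op.L, Op.L, Op.L, Op.L, Op.B2, Op.R, Op.B2, Op.R, Op.B2, Op.L, Op.L, Op.L, Op.B2, Op.R, Op.B2, Op.L, Op.L, Op.B2, Op.L, Op.L, Op.L, Op.L, Op.L, Op.L, Op.B2, Op.R, Op.B2, Op.R, Op.B2, Op.R, Op.B2, Op.R, Op.B3, Op.R, Op.R, Op.B3, Op.R,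 Op.R, Op.B3, Op.R, Op.R, Op.B3, Op.R, Op.R, Op.B2, Op.R, Op.B3, Op.R, Op.R, Op.B3, Op.R, Op.R, Op.B3, Op.R, Op.R, Op.B3, Op.R, Op.R, Op.B3, Op.R, Op.R, Op.B2, Op.R, Op.B2, Op.R, Op.B2, Op.R, Op.B2, Op.R, Op.B2, Op.R, Op.B2, Op.R, Op.B2, Op.R, Op.B2, Op.R, Op.B2, Op.R, Op.B2, Op.R, Op.B2, Op.R, Op.B2, Op.R, Op.B2, Op.R, Op.B2, Op.R, Op.B2, Op.R, Op.B2, Op.R, Op.B3, Op.R, Op.R, Op.B2, Op.R, Op.B2, Op.R, Op.B2, Op.R, Op.B2, Op.R, Op.B2, Op.R, Op.B2, Op.R, Op.B2, Op.R, Op.B2, Op.L, Op.L, Op.L, Op.L, Op.L, Op.L, Op.L, Op.L, Op.L, Op.L, Op.L, Op.L, Op.L, Op.L, Op.L, Op.L, Op.L, Op.L, Op.L, Op.L, Op.L, Op.L, Op.L, Op.L, Op.L, Op.L, Op.B2, Op.R, Op.B2, Op.R, Op.B2, Op.R, Op.B2, Op.L, Op.L, Op.L, Op.L,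 Op.L, Op.B2, Op.R, Op.B2, Op.R, Op.B2, Op.R, Op.B2, Op.L, Op.L, Op.L, Op.L, Op.L, Op.B2, Op.R, Op.B2, Op.R, Op.B2, Op.R, Op.B2, Op.L, Op.L, Op.L, Op.L, Op.L, Op.B2, Op.R, Op.B2, Op.R, Op.B2, Op.R, Op.B2, Op.L, Op.L, Op.L, Op.L, Op.L, Op.B2, Op.R, Op.B2, Op.R, Op.B2, Op.R, Op.B2, Op.L, Op.L, Op.L, Op.L, Op.L, Op.L, Op.L, Op.L, Op.L, Op.L, Op.L, Op.L, Op.L, Op.L, Op.B2, Op.R, Op.B2, Op.R, Op.B2, Op.R, Op.B2, Op.R, Op.B2, Op.R, Op.B2, Op.L, Op.L, Op.L, Op.L, Op.L, Op.L, Op.B2, Op.R, Op.B2, Op.R, Op.B2, Op.R, Op.B2, Op.L, Op.L, Op.L, Op.L, Op.B2, Op.R, Op.B2, Op.L, Op.L, Op.L, Op.L, Op.L, Op.B2, Op.R, Op.B2, Op.R, Op.B3, Op.R, Op.R, Op.B2, Op.R, Op.B3, Op.R, Op.R, Op.B2, Op.R, Op.B3, Op.R, Op.R,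 Op.B2, Op.R, Op.B3, Op.R, Op.R, Op.B2, Op.R, Op.B2, Op.R, Op.B2, Op.R, Op.B2, Op.R, Op.B2, Op.R, Op.B2, Op.R, Op.B2, Op.R, Op.B3, Op.R, Op.R, Op.B3, Op.R, Op.R, Op.B3, Op.R, Op.R, Op.B3, Op.R, Op.R, Op.B3, Op.R, Op.R, Op.B2, Op.R, Op.B2, Op.R, Op.B2, Op.R, Op.B2, Op.R, Op.B2, Op.R, Op.B2, Op.R, Op.B2, Op.R, Op.B2, Op.R, Op.B2, Op.R, Op.B2, Op.R, Op.B3, Op.R, Op.R, Op.B2, Op.R, Op.B2, Op.R, Op.B2, Op.R, Op.B2, Op.R, Op.B2, Op.L, Op.L, Op.L, Op.L, Op.L, Op.L, Op.L, Op.L, Op.L, Op.L, Op.L, Op.L, Op.L, Op.L, Op.L, Op.L, Op.L, Op.B2, Op.R, Op.B2, Op.L, Op.L, Op.L, Op.B2, Op.R, Op.B2, Op.L, Op.L, Op.L, Op.B2, Op.R, Op.B2, Op.L, Op.L, Op.L, Op.L, Op.L, Op.L, Op.L, Op.L, Op.L, Op.L, Op.L, Op.L, Op.L,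 Op.B3, Op.R, Op.R, Op.B2, Op.R, Op.B2, Op.R, Op.B2, Op.R, Op.B2, Op.R, Op.B2, Op.R, Op.B2, Op.L, Op.L, Op.L, Op.L, Op.L, Op.L, Op.L]
    [5, 4, 3, 2, 1, 3, 4, 7, 6, 5, 4, 3, 1, 2, 3, 4, 0, 2, 3, 5, 1, 4, 3, 2, 0, 6, 5, 4, 3, 2, 1, 3, 0, 7, 6, 5, 4, 3, 1, 2, 3, 0, 2, 1]
    [6, 5, 0, 2, 3, 1, 4, 5, 3, 4, 2, 3, 1, 0, 2, 3, 4, 5, 6, 7, 2, 3, 1, 4, 3, 2, 0, 5, 4, 3, 2, 1, 3, 4, 5, 6, 7, 3, 1, 4, 3, 2, 0, 5, 4, 3, 1, 2, 3, 4, 5, 6, 7, 3, 4, 2, 3, 1, 0, 2, 3, 4, 5, 6, 7, 2, 0, 3, 2, 1, 3, 4, 5, 6, 7, 1, 2, 3, 4, 5, 6, 7, 0, 1, 2, 3, 4, 5, 6, 7, 0, 1, 2, 3, 4, 5, 6, 7, 0, 1, 2, 3, 4, 5, 6, 7, 0, 1, 2, 3, 4, 5, 6, 7, 0, 1, 2, 3, 4, 5, 6, 7, 0, 1, 2, 3, 4, 5, 6, 7, 0, 1, 2, 3, 4, 5, 6, 7, 0, 1, 2,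 3, 4, 5, 6, 7, 0, 1, 2, 3, 4, 5, 6, 7, 0, 1, 2, 3, 4, 5, 6, 7, 0, 1, 2, 3, 4, 5, 6, 7, 0, 1, 2, 3, 4, 5, 6, 7, 0, 1, 2, 3, 4, 5, 6, 7, 0, 1, 2, 3, 4, 5, 6, 7] =
    ([2, 0, 4, 3, 2, 5, 4, 3, 6, 5, 4, 1, 3, 4, 2, 3, 1, 0, 2, 3, 7, 6, 5, 4, 3, 2, 1, 3, 0, 2],
     [1, 3, 4, 5, 6, 7, 2, 0, 1, 3, 2, 4, 5, 6, 3, 1, 4, 3, 5, 4, 2, 3, 1, 0, 2, 3, 4, 5, 6, 7, 0, 2, 3, 1, 5, 4, 3, 2, 0, 6, 5, 4, 3, 2, 1, 3, 4, 5, 6, 7, 3, 1, 4, 5, 3, 4, 2, 3, 1, 0, 2, 3, 4, 5, 6, 7, 3, 4, 2, 0, 3, 2, 1, 3, 4, 5, 6, 7, 2, 0, 3, 1, 2, 3, 4, 5, 6, 7, 2, 3, 4, 5, 6, 7, 0, 1, 2, 3, 4, 5, 6, 7, 0, 1, 2, 3, 4, 5, 6, 7, 0, 1, 2, 3, 4, 5, 6, 7, 0, 1, 2, 3, 4, 5, 6, 7, 0, 1, 2, 3, 4, 5, 6, 7, 0, 1, 2, 3, 4, 5, 6, 7, 0, 1, 2,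 3, 4, 5, 6, 7, 0, 1, 2, 3, 4, 5, 6, 7, 0, 1, 2, 3, 4, 5, 6, 7, 0, 1, 2, 3, 4, 5, 6, 7, 0, 1, 2, 3, 4, 5, 6, 7, 0, 1, 2, 3, 4, 5, 6, 7, 0, 1, 2, 3, 4, 5, 6, 7, 0, 1, 2, 3, 4, 5, 6, 7]) := by decide +kernel

set_option maxRecDepth 1000000 in
theorem chunk5 : exec (Mt CoxeterMatrix.E₈) [Op.L, Op.L, Op.L, Op.B2, Op.R, Op.B2, Op.R, Op.B2, Op.R, Op.B3, Op.R, Op.R, Op.B2, Op.R, Op.B2, Op.R, Op.B2, Op.L, Op.L, Op.L, Op.L, Op.L, Op.L, Op.B2, Op.L, Op.L, Op.B2, Op.L, Op.L, Op.L, Op.L, Op.L, Op.L, Op.L, Op.L, Op.B2, Op.R, Op.B2, Op.R, Op.B2, Op.L, Op.L, Op.L, Op.L, Op.B3, Op.R, Op.R, Op.B2, Op.R, Op.B2, Op.R, Op.B3, Op.R, Op.R, Op.B2, Op.R, Op.B2, Op.R, Op.B2, Op.R, Op.B2, Op.R, Op.B3, Op.R, Op.R, Op.B3,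 Op.R, Op.R, Op.B2, Op.R, Op.B2, Op.R, Op.B2, Op.R, Op.B2, Op.R, Op.B3, Op.R, Op.R, Op.B2, Op.R, Op.B3, Op.R, Op.R, Op.B2, Op.R, Op.B2, Op.R, Op.B2, Op.R, Op.B2, Op.R, Op.B3, Op.R, Op.R, Op.B3, Op.R, Op.R, Op.B3, Op.R, Op.R, Op.B2, Op.R, Op.B2, Op.R, Op.B2, Op.R, Op.B2, Op.R, Op.B2, Op.R, Op.B2, Op.R, Op.B3, Op.R, Op.R, Op.B2, Op.R, Op.B2, Op.R, Op.B2, Op.R, Op.B2, Op.L, Op.L, Op.L, Op.L, Op.L, Op.L, Op.L, Op.L, Op.L, Op.L, Op.L, Op.L, Op.B2, Op.L, Op.L, Op.B2, Op.L, Op.L, Op.L, Op.L, Op.L, Op.L, Op.L, Op.B2, Op.R, Op.B2, Op.R, Op.B2, Op.L, Op.L, Op.L, Op.L, Op.L, Op.L, Op.L, Op.L, Op.L, Op.L, Op.L, Op.L, Op.L, Op.L, Op.L, Op.L, Op.L, Op.L, Op.B2, Op.R, Op.B2, Op.R, Op.B2, Op.R, Op.B2, Op.R,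 Op.B2, Op.R, Op.B2, Op.R, Op.B3, Op.R, Op.R, Op.B2, Op.R, Op.B2, Op.L, Op.L, Op.L, Op.L, Op.L, Op.L, Op.L, Op.L, Op.L, Op.L, Op.B2, Op.R, Op.B2, Op.L, Op.L, Op.L, Op.L, Op.L, Op.L, Op.L, Op.L, Op.L, Op.B3, Op.R, Op.R, Op.B2, Op.R, Op.B2, Op.R, Op.B2, Op.R, Op.B2, Op.R, Op.B3, Op.R, Op.R, Op.B2, Op.R, Op.B3, Op.R, Op.R, Op.B2, Op.R, Op.B2, Op.R, Op.B3, Op.R, Op.R, Op.B2, Op.R, Op.B2, Op.R, Op.B2, Op.R, Op.B3, Op.R, Op.R, Op.B2, Op.R, Op.B2, Op.R, Op.B2, Op.R, Op.B3, Op.R, Op.R, Op.B2, Op.R, Op.B2, Op.R, Op.B3, Op.R, Op.R, Op.B2, Op.R, Op.B2, Op.R, Op.B2, Op.R, Op.B3, Op.R, Op.R, Op.B3, Op.R, Op.R, Op.B2, Op.R, Op.B2, Op.R, Op.B2, Op.R, Op.B3, Op.R, Op.R, Op.B2, Op.R, Op.B2, Op.R, Op.B2, Op.R,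 Op.B2, Op.L, Op.L, Op.L, Op.L, Op.L, Op.L, Op.L, Op.L, Op.L, Op.L, Op.L, Op.L, Op.L, Op.L, Op.L, Op.B2, Op.R, Op.B2, Op.L, Op.L, Op.L, Op.L, Op.L, Op.L, Op.L, Op.L, Op.L, Op.L, Op.L, Op.L, Op.L, Op.L, Op.L, Op.L, Op.L, Op.L, Op.L, Op.L, Op.L, Op.L, Op.L, Op.L, Op.L, Op.L, Op.B2, Op.R, Op.B2, Op.R, Op.B2, Op.R, Op.B2, Op.R, Op.B2, Op.R, Op.B2, Op.R, Op.B2, Op.R, Op.B2, Op.R, Op.B2, Op.R, Op.B2, Op.R, Op.B3, Op.R, Op.R, Op.B2, Op.L, Op.L, Op.L, Op.L, Op.L, Op.L, Op.L, Op.L, Op.L, Op.L, Op.L, Op.L, Op.L, Op.B2, Op.R, Op.B2, Op.R, Op.B2, Op.R, Op.B2, Op.L, Op.L, Op.L, Op.L, Op.B2, Op.L, Op.L, Op.L, Op.B2, Op.R, Op.B3, Op.R, Op.R, Op.B3, Op.R, Op.R, Op.B2, Op.R, Op.B2, Op.R, Op.B3, Op.R, Op.R,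 Op.B2, Op.R, Op.B2, Op.R, Op.B2, Op.R, Op.B2, Op.R, Op.B3, Op.R, Op.R, Op.B2, Op.R, Op.B2, Op.R, Op.B3, Op.R, Op.R, Op.B2, Op.R, Op.B2, Op.R, Op.B2, Op.R, Op.B2, Op.R, Op.B2, Op.R, Op.B3, Op.R, Op.R, Op.B2, Op.R, Op.B2, Op.R, Op.B3, Op.R, Op.R, Op.B2, Op.R, Op.B3, Op.R, Op.R, Op.B2, Op.R, Op.B2, Op.R, Op.B3, Op.R, Op.R, Op.B2, Op.R, Op.B3, Op.R, Op.R, Op.B2, Op.R, Op.B2, Op.R, Op.B2, Op.R, Op.B2, Op.L, Op.L, Op.L, Op.L, Op.L, Op.L, Op.L, Op.L, Op.L, Op.L, Op.B2, Op.L, Op.L, Op.L, Op.L, Op.L, Op.L, Op.L, Op.L, Op.L, Op.L, Op.L, Op.L, Op.L, Op.L, Op.L, Op.L, Op.L, Op.L, Op.L, Op.L, Op.L, Op.L, Op.L, Op.L, Op.L, Op.L, Op.L, Op.L, Op.L, Op.L, Op.L, Op.L, Op.L, Op.L, Op.L, Op.L, Op.L, Op.B2, Op.R,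 Op.B2, Op.R, Op.B2, Op.R, Op.B2, Op.R, Op.B2, Op.R, Op.B2, Op.R, Op.B2, Op.R, Op.B2, Op.R, Op.B2, Op.R, Op.B2, Op.R, Op.B2, Op.R, Op.B2, Op.R, Op.B2, Op.R, Op.B2, Op.R, Op.B2, Op.R, Op.B2, Op.R, Op.B2, Op.R, Op.B2, Op.R, Op.B3, Op.L, Op.L, Op.L, Op.L, Op.L, Op.L, Op.L, Op.L, Op.L, Op.L, Op.L, Op.L, Op.L, Op.L, Op.L, Op.L, Op.L, Op.L, Op.L, Op.B2, Op.R, Op.B2, Op.R, Op.B2, Op.R, Op.B2, Op.R, Op.B2, Op.R, Op.B2, Op.R, Op.B2, Op.R, Op.B2, Op.R, Op.B2, Op.R, Op.B2, Op.L, Op.L, Op.L, Op.L, Op.L, Op.L, Op.L, Op.L, Op.L, Op.L, Op.B2, Op.R, Op.B2, Op.R, Op.B2, Op.R, Op.B2, Op.R, Op.B2, Op.R, Op.B2, Op.L, Op.L, Op.L, Op.L, Op.L, Op.L, Op.L, Op.B3, Op.R, Op.R, Op.B2, Op.R, Op.B2, Op.R, Op.B2, Op.L,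 Op.L, Op.L, Op.L, Op.L, Op.B2, Op.R, Op.B3, Op.R, Op.R, Op.B2, Op.L, Op.L, Op.L, Op.L, Op.L, Op.L, Op.B2, Op.R, Op.B2, Op.R, Op.B2, Op.R, Op.B2, Op.R, Op.B3, Op.R, Op.R, Op.B3, Op.R, Op.R, Op.B3, Op.R, Op.R, Op.B2, Op.R, Op.B3, Op.R, Op.R, Op.B2, Op.R, Op.B2, Op.R, Op.B2, Op.R, Op.B3, Op.R, Op.R, Op.B2, Op.R, Op.B2, Op.R, Op.B2, Op.R, Op.B2, Op.R, Op.B2, Op.R, Op.B2, Op.R, Op.B3, Op.R, Op.R, Op.B2, Op.R, Op.B3, Op.R, Op.R, Op.B2, Op.R, Op.B2, Op.R, Op.B2, Op.R, Op.B2, Op.R, Op.B2, Op.R, Op.B2, Op.R, Op.B2, Op.R, Op.B3, Op.R, Op.R, Op.B2, Op.R, Op.B2, Op.R, Op.B3, Op.R, Op.R, Op.B2, Op.R, Op.B3, Op.R, Op.R, Op.B3, Op.R, Op.R, Op.B2, Op.R, Op.B3, Op.R, Op.R, Op.B2, Op.R, Op.B2, Op.R, Op.B2,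 Op.R, Op.B2, Op.R, Op.B2, Op.R, Op.B3, Op.R, Op.R, Op.B3, Op.R, Op.R, Op.B3, Op.R, Op.R, Op.B2, Op.R, Op.B3, Op.R, Op.R, Op.B2, Op.R, Op.B2, Op.R, Op.B2, Op.R, Op.B3, Op.R, Op.R, Op.B2, Op.R, Op.B2, Op.R, Op.B2, Op.R, Op.B2, Op.R, Op.B2, Op.R, Op.B2, Op.R, Op.B3, Op.R, Op.R, Op.B2, Op.R, Op.B2, Op.R, Op.B2, Op.R, Op.B3, Op.R, Op.R, Op.B3, Op.R, Op.R, Op.B3, Op.R, Op.R, Op.B2, Op.R, Op.B3, Op.R, Op.R, Op.B2, Op.R, Op.B2, Op.R, Op.B2, Op.R, Op.B2, Op.R, Op.B2, Op.R, Op.B2, Op.R, Op.B2, Op.R, Op.B3, Op.R, Op.R, Op.B3, Op.R, Op.R, Op.B3, Op.R, Op.R, Op.B2, Op.R, Op.B2, Op.R, Op.B2, Op.R, Op.B2, Op.R, Op.B2, Op.R, Op.B2, Op.R, Op.B3, Op.R, Op.R, Op.B3, Op.R, Op.R, Op.B2, Op.R, Op.B2, Op.R, Op.B2,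 Op.R, Op.B2, Op.R, Op.C, Op.L, Op.L, Op.L, Op.L, Op.L, Op.L, Op.L, Op.L, Op.L, Op.L, Op.L, Op.L, Op.L, Op.L, Op.L, Op.L, Op.L, Op.L, Op.L, Op.L, Op.L, Op.L, Op.L, Op.L, Op.L, Op.L, Op.L, Op.L, Op.L, Op.L, Op.L, Op.L, Op.L, Op.L, Op.L, Op.L, Op.L, Op.L, Op.L, Op.L, Op.L, Op.L, Op.L, Op.L, Op.L, Op.L, Op.L, Op.L, Op.L, Op.L, Op.L, Op.L, Op.L, Op.L, Op.L, Op.L, Op.L, Op.L, Op.L, Op.L, Op.L, Op.L, Op.B2, Op.R, Op.B2, Op.R, Op.B2, Op.R, Op.B2, Op.R, Op.B2, Op.R, Op.B2, Op.R, Op.B2, Op.R, Op.B2, Op.R, Op.B2, Op.R, Op.B2, Op.R, Op.B2, Op.R, Op.B2, Op.L, Op.L, Op.L, Op.L, Op.L, Op.L, Op.L, Op.L, Op.L, Op.L, Op.L, Op.L, Op.B2, Op.R, Op.B2, Op.R, Op.B2, Op.R, Op.B2, Op.R, Op.B2, Op.R, Op.B2, Op.R, Op.B2,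 Op.L, Op.L, Op.L, Op.L, Op.L, Op.L, Op.L, Op.B2, Op.R, Op.B2, Op.R, Op.B2, Op.R, Op.B2, Op.L, Op.L, Op.L, Op.L, Op.B2, Op.R, Op.B2, Op.L, Op.L, Op.L, Op.B3, Op.R, Op.R, Op.B2, Op.R, Op.B3, Op.R, Op.R, Op.B2, Op.R, Op.B3, Op.R, Op.R, Op.B2, Op.R, Op.B2, Op.R, Op.B3, Op.R, Op.R, Op.B2, Op.R, Op.B2]
    [2, 0, 4, 3, 2, 5, 4, 3, 6, 5, 4, 1, 3, 4, 2, 3, 1, 0, 2, 3, 7, 6, 5, 4, 3, 2, 1, 3, 0, 2]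
    [1, 3, 4, 5, 6, 7, 2, 0, 1, 3, 2, 4, 5, 6, 3, 1, 4, 3, 5, 4, 2, 3, 1, 0, 2, 3, 4, 5, 6, 7, 0, 2, 3, 1, 5, 4, 3, 2, 0, 6, 5, 4, 3, 2, 1, 3, 4, 5, 6, 7, 3, 1, 4, 5, 3, 4, 2, 3, 1, 0, 2, 3, 4, 5, 6, 7, 3, 4, 2, 0, 3, 2, 1, 3, 4, 5, 6, 7, 2, 0, 3, 1, 2, 3, 4, 5, 6, 7, 2, 3, 4, 5, 6, 7, 0, 1, 2, 3, 4, 5, 6, 7, 0, 1, 2, 3, 4, 5, 6, 7, 0, 1, 2, 3, 4, 5, 6, 7, 0, 1, 2, 3, 4, 5, 6, 7, 0, 1, 2, 3, 4, 5, 6, 7, 0, 1, 2, 3, 4, 5, 6, 7, 0, 1, 2, 3, 4, 5, 6, 7, 0, 1, 2, 3, 4, 5, 6, 7, 0, 1, 2, 3, 4, 5, 6, 7, 0, 1, 2, 3, 4, 5, 6, 7, 0, 1, 2, 3, 4, 5, 6, 7, 0, 1, 2, 3, 4, 5, 6, 7, 0, 1, 2, 3, 4, 5, 6, 7, 0, 1, 2, 3, 4, 5, 6, 7] =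
    ([4, 5, 6, 1, 3, 4, 5, 2, 3, 4, 0, 2, 3, 0, 1, 3, 2, 4, 3, 1, 5, 4, 3, 2, 6, 5, 4, 3, 1, 0, 2, 3, 4, 5, 6, 7, 6, 5, 4, 3, 2, 1, 3, 4, 5, 6, 0, 2, 3, 4, 5, 1, 3, 4, 2, 3, 0, 2, 3, 4, 1, 3, 2],
     [3, 6, 2, 0, 7, 6, 5, 4, 3, 2, 1, 3, 4, 5, 6, 7, 3, 1, 4, 5, 3, 4, 2, 3, 1, 0, 2, 3, 4, 5, 6, 7, 3, 4, 2, 0, 3, 2, 1, 3, 4, 5, 6, 7, 2, 0, 3, 1, 2, 3, 4, 5, 6, 7, 3, 4, 5, 6, 7, 0, 1, 2, 3, 4, 5, 6, 7, 0, 1, 2, 3, 4, 5, 6, 7, 0, 1, 2, 3, 4, 5, 6, 7, 0, 1, 2, 3, 4, 5, 6, 7, 0, 1, 2, 3, 4, 5, 6, 7, 0, 1, 2, 3, 4, 5, 6, 7, 0, 1, 2, 3, 4, 5, 6, 7, 0, 1, 2, 3, 4, 5, 6, 7, 0, 1, 2, 3, 4, 5, 6, 7, 0, 1, 2, 3, 4, 5, 6, 7, 0, 1, 2, 3, 4, 5, 6, 7, 0, 1, 2, 3, 4, 5, 6, 7, 0, 1, 2, 3, 4, 5, 6, 7, 0, 1, 2,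 3, 4, 5, 6, 7]) := by decide +kernel

set_option maxRecDepth 1000000 in
theorem chunk6 : exec (Mt CoxeterMatrix.E₈) [Op.R, Op.B2, Op.R, Op.B2, Op.R, Op.B3, Op.R, Op.R, Op.B2, Op.R, Op.B2, Op.R, Op.B2, Op.R, Op.B2, Op.R, Op.B2, Op.R, Op.B2, Op.R, Op.B2, Op.R, Op.B2, Op.R, Op.B3, Op.R, Op.R, Op.B2, Op.R, Op.B2, Op.R, Op.B2, Op.L, Op.L, Op.L, Op.L, Op.L, Op.L, Op.L, Op.L, Op.L, Op.L, Op.L, Op.L, Op.L, Op.L, Op.L, Op.L, Op.L, Op.L, Op.L, Op.L, Op.L, Op.L, Op.L, Op.L, Op.L, Op.L, Op.L, Op.L, Op.L, Op.L, Op.L, Op.B2, Op.R, Op.B3, Op.R, Op.R, Op.B2, Op.R, Op.B3, Op.R, Op.R, Op.B2, Op.R, Op.B3, Op.R, Op.R, Op.B2, Op.R, Op.B2, Op.R, Op.B3, Op.R, Op.R, Op.B2, Op.R, Op.B2, Op.R, Op.B2, Op.R, Op.B2, Op.R,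 Op.B3, Op.R, Op.R, Op.B2, Op.R, Op.B2, Op.R, Op.B2, Op.R, Op.B2, Op.R, Op.B2, Op.R, Op.B2, Op.R, Op.B3, Op.R, Op.R, Op.B2, Op.R, Op.B2, Op.R, Op.B2, Op.L, Op.L, Op.L, Op.L, Op.L, Op.L, Op.L, Op.L, Op.L, Op.L, Op.L, Op.L, Op.L, Op.L, Op.L, Op.L, Op.L, Op.L, Op.L, Op.L, Op.L, Op.L, Op.L, Op.L, Op.L, Op.L, Op.L, Op.L, Op.L, Op.L, Op.L, Op.B3, Op.R, Op.R, Op.B2, Op.R, Op.B2, Op.R, Op.B2, Op.L, Op.L, Op.L, Op.L, Op.L, Op.B2, Op.R, Op.B3, Op.R, Op.R, Op.B2, Op.L, Op.L, Op.L, Op.L, Op.B2, Op.L, Op.L, Op.B3, Op.R, Op.R, Op.B3, Op.R, Op.R, Op.B2, Op.R, Op.B2, Op.R, Op.B3, Op.R, Op.R, Op.B3, Op.R, Op.R, Op.B2, Op.R, Op.B2, Op.R, Op.B2, Op.R, Op.B3, Op.R, Op.R, Op.B2, Op.R, Op.B2, Op.R, Op.B3, Op.R,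 Op.R, Op.B2, Op.R, Op.B2, Op.R, Op.B2, Op.R, Op.B2, Op.R, Op.B3, Op.R, Op.R, Op.B2, Op.R, Op.B2, Op.R, Op.B2, Op.R, Op.B2, Op.R, Op.B3, Op.R, Op.R, Op.B2, Op.R, Op.B2, Op.L, Op.L, Op.L, Op.L, Op.L, Op.L, Op.L, Op.L, Op.L, Op.L, Op.L, Op.L, Op.L, Op.L, Op.L, Op.L, Op.L, Op.L, Op.L, Op.L, Op.L, Op.L, Op.B2, Op.R, Op.B2, Op.L, Op.L, Op.B2, Op.L, Op.L, Op.B2, Op.L, Op.L, Op.L, Op.L, Op.L, Op.L, Op.L, Op.L, Op.B2, Op.R, Op.B2, Op.L, Op.L, Op.L, Op.B3, Op.R, Op.R, Op.B2, Op.R, Op.B3, Op.R, Op.R, Op.B2, Op.R, Op.B2, Op.R, Op.B2, Op.R, Op.B2, Op.R, Op.B2, Op.R, Op.B3, Op.R, Op.R, Op.B3, Op.R, Op.R, Op.B3, Op.R, Op.R, Op.B2, Op.R, Op.B2, Op.R, Op.B2, Op.R, Op.B2, Op.R, Op.B3, Op.R, Op.R, Op.B2, Op.R,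 Op.B2, Op.R, Op.B2, Op.R, Op.B2, Op.R, Op.B3, Op.R, Op.R, Op.B2, Op.R, Op.B2, Op.R, Op.B3, Op.R, Op.R, Op.B2, Op.R, Op.B2, Op.R, Op.B2, Op.R, Op.B3, Op.R, Op.R, Op.B2, Op.R, Op.B3, Op.R, Op.R, Op.B3, Op.R, Op.R, Op.B2, Op.R, Op.B2, Op.R, Op.B2, Op.R, Op.B2, Op.R, Op.B2, Op.R, Op.B2, Op.R, Op.B2, Op.R, Op.B2, Op.R, Op.B2, Op.R, Op.B3, Op.R, Op.R, Op.B2, Op.R, Op.B2, Op.L, Op.L, Op.L, Op.L, Op.L, Op.L, Op.L, Op.L, Op.L, Op.L, Op.L, Op.L, Op.L, Op.B2, Op.L, Op.L, Op.B2, Op.L, Op.L, Op.L, Op.L, Op.L, Op.L, Op.L, Op.L, Op.L, Op.L, Op.L, Op.L, Op.L, Op.L, Op.L, Op.L, Op.L, Op.L, Op.L, Op.L, Op.L, Op.L, Op.L, Op.L, Op.L, Op.L, Op.L, Op.L, Op.L, Op.L, Op.L, Op.L, Op.B2, Op.R, Op.B2, Op.R, Op.B2, Op.R,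 Op.B2, Op.R, Op.B2, Op.R, Op.B2, Op.L, Op.L, Op.L, Op.L, Op.L, Op.L, Op.L, Op.B3, Op.R, Op.R, Op.B2, Op.R, Op.B2, Op.R, Op.B2, Op.L, Op.L, Op.L, Op.L, Op.L, Op.L, Op.L, Op.B2, Op.R, Op.B2, Op.R, Op.B2, Op.R, Op.B3, Op.L, Op.L, Op.B2, Op.L, Op.L, Op.B2, Op.L, Op.L, Op.B2, Op.R, Op.B2, Op.R, Op.B3, Op.R, Op.R, Op.B3, Op.R, Op.R, Op.B2, Op.R, Op.B3, Op.R, Op.R, Op.B2, Op.R, Op.B3, Op.R, Op.R, Op.B2, Op.R, Op.B3, Op.R, Op.R, Op.B2, Op.R, Op.B2, Op.R, Op.B2, Op.R, Op.B2, Op.R, Op.B2, Op.R, Op.B2, Op.R, Op.B3, Op.R, Op.R, Op.B2, Op.R, Op.B2, Op.R, Op.B2, Op.R, Op.B2, Op.R, Op.B3, Op.R, Op.R, Op.B3, Op.R, Op.R, Op.B2, Op.R, Op.B2, Op.R, Op.B2, Op.R, Op.B2, Op.R, Op.B2, Op.R, Op.B3, Op.R, Op.R, Op.B2,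 Op.R, Op.B2, Op.R, Op.B3, Op.R, Op.R, Op.B3, Op.R, Op.R, Op.B2, Op.R, Op.B2, Op.R, Op.B2, Op.R, Op.B2, Op.R, Op.B2, Op.R, Op.B2, Op.R, Op.B3, Op.R, Op.R, Op.B2, Op.R, Op.B2, Op.L, Op.L, Op.L, Op.L, Op.L, Op.L, Op.L, Op.L, Op.L, Op.L, Op.B2, Op.L, Op.L, Op.B2, Op.L, Op.L, Op.L, Op.L, Op.L, Op.L, Op.L, Op.L, Op.L, Op.L, Op.L, Op.L, Op.L, Op.B2, Op.L, Op.L, Op.L, Op.L, Op.L, Op.L, Op.L, Op.L, Op.L, Op.L, Op.L, Op.L, Op.B2, Op.R, Op.B2, Op.R, Op.B2, Op.L, Op.L, Op.L, Op.B2, Op.R, Op.B2, Op.L, Op.L, Op.L, Op.L, Op.B2, Op.R, Op.B2, Op.R, Op.B2, Op.L, Op.L, Op.L, Op.L, Op.L, Op.B2, Op.R, Op.B2, Op.R, Op.B2, Op.R, Op.B2, Op.L, Op.L, Op.L, Op.L, Op.L, Op.L, Op.L, Op.L, Op.L, Op.L, Op.L, Op.L, Op.L,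 Op.B2, Op.L, Op.L, Op.B3, Op.R, Op.R, Op.B3, Op.R, Op.R, Op.B2, Op.R, Op.B2, Op.R, Op.B2, Op.R, Op.B2, Op.R, Op.B2, Op.R, Op.B2, Op.R, Op.B2, Op.R, Op.B2, Op.R, Op.B2, Op.R, Op.B2, Op.R, Op.B2, Op.R, Op.B3, Op.R, Op.R, Op.B3, Op.R, Op.R, Op.B3, Op.R, Op.R, Op.B3, Op.R, Op.R, Op.B2, Op.R, Op.B2, Op.R, Op.B2, Op.R, Op.B2, Op.R, Op.B2, Op.R, Op.B2, Op.R, Op.B3, Op.R, Op.R, Op.B3, Op.R, Op.R, Op.B2, Op.R, Op.B2, Op.R, Op.B2, Op.R, Op.B2, Op.R, Op.B2, Op.L, Op.L, Op.L, Op.L, Op.L, Op.L, Op.L, Op.L, Op.L, Op.L, Op.L, Op.L, Op.L, Op.L, Op.L, Op.L, Op.L, Op.L, Op.L, Op.L, Op.L, Op.L, Op.L, Op.B2, Op.R, Op.B2, Op.R, Op.B2, Op.R, Op.B2, Op.L, Op.L, Op.L, Op.L, Op.L, Op.B2, Op.R, Op.B2, Op.R, Op.B2,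 Op.L, Op.L, Op.L, Op.L, Op.B2, Op.R, Op.B2, Op.L, Op.L, Op.L, Op.L, Op.L, Op.L, Op.L, Op.L, Op.B2, Op.R, Op.B2, Op.L, Op.L, Op.L, Op.B2, Op.L, Op.L, Op.B2, Op.R, Op.B2, Op.R, Op.B3, Op.R, Op.R, Op.B2, Op.R, Op.B3, Op.R, Op.R, Op.B2, Op.R, Op.B2, Op.R, Op.B2, Op.R, Op.B2, Op.R, Op.B2, Op.R, Op.B3, Op.R, Op.R, Op.B2, Op.R, Op.B3, Op.R, Op.R, Op.B2, Op.R, Op.B3, Op.R, Op.R, Op.B2, Op.R, Op.B2, Op.R, Op.B3, Op.R, Op.R, Op.B2, Op.R, Op.B2, Op.R, Op.B2, Op.R, Op.B2, Op.R, Op.B3, Op.R, Op.R, Op.B2, Op.R, Op.B2, Op.R, Op.B3, Op.R, Op.R, Op.B2, Op.R, Op.B2, Op.R, Op.B2, Op.L, Op.L, Op.L, Op.L, Op.L, Op.L, Op.L, Op.L, Op.L, Op.L, Op.L, Op.L, Op.L, Op.L, Op.L, Op.L, Op.B2, Op.L, Op.L, Op.L, Op.L, Op.L,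 Op.L, Op.L, Op.L, Op.L, Op.L, Op.L, Op.L, Op.L, Op.B3, Op.R, Op.R, Op.B2, Op.R, Op.B2, Op.R, Op.B2, Op.R, Op.B2, Op.R, Op.B2, Op.L, Op.L, Op.L, Op.L, Op.L, Op.L, Op.L, Op.L, Op.L, Op.B2, Op.R, Op.B2, Op.R, Op.B2, Op.R, Op.B3, Op.R, Op.R, Op.B2, Op.L, Op.L, Op.L, Op.L, Op.B2, Op.L, Op.L, Op.B2, Op.L, Op.L, Op.L, Op.L, Op.B2, Op.R, Op.B2, Op.R, Op.B2, Op.R, Op.B2, Op.R, Op.B3, Op.R, Op.R, Op.B3, Op.R, Op.R, Op.B2, Op.R, Op.B2, Op.R, Op.B3, Op.R, Op.R, Op.B2, Op.R, Op.B2, Op.R, Op.B3, Op.R, Op.R, Op.B2, Op.R, Op.B2, Op.R, Op.B2, Op.R, Op.B3, Op.R, Op.R, Op.B3, Op.R, Op.R, Op.B2, Op.R, Op.B2, Op.R, Op.B2, Op.R, Op.B2, Op.R, Op.B3, Op.R, Op.R, Op.B2, Op.R, Op.B2, Op.R, Op.B2, Op.R, Op.B2, Op.R,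 Op.B3, Op.R, Op.R, Op.B2, Op.R, Op.B2, Op.R, Op.B3, Op.R, Op.R, Op.B3, Op.R, Op.R, Op.B2, Op.R, Op.B2, Op.R, Op.B2, Op.R, Op.B2]
    [4, 5, 6, 1, 3, 4, 5, 2, 3, 4, 0, 2, 3, 0, 1, 3, 2, 4, 3, 1, 5, 4, 3, 2, 6, 5, 4, 3, 1, 0, 2, 3, 4, 5, 6, 7, 6, 5, 4, 3, 2, 1, 3, 4, 5, 6, 0, 2, 3, 4, 5, 1, 3, 4, 2, 3, 0, 2, 3, 4, 1, 3, 2]
    [3, 6, 2, 0, 7, 6, 5, 4, 3, 2, 1, 3, 4, 5, 6, 7, 3, 1, 4, 5, 3, 4, 2, 3, 1, 0, 2, 3, 4, 5, 6, 7, 3, 4, 2, 0, 3, 2, 1, 3, 4, 5, 6, 7, 2, 0, 3, 1, 2, 3, 4, 5, 6, 7, 3, 4, 5, 6, 7, 0, 1, 2, 3, 4, 5, 6, 7, 0, 1, 2, 3, 4, 5, 6, 7, 0, 1, 2, 3, 4, 5, 6, 7, 0, 1, 2, 3, 4, 5, 6, 7, 0, 1, 2, 3, 4, 5, 6, 7, 0, 1, 2, 3, 4, 5, 6, 7, 0, 1, 2, 3, 4, 5, 6, 7, 0, 1, 2, 3, 4, 5, 6, 7, 0,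 1, 2, 3, 4, 5, 6, 7, 0, 1, 2, 3, 4, 5, 6, 7, 0, 1, 2, 3, 4, 5, 6, 7, 0, 1, 2, 3, 4, 5, 6, 7, 0, 1, 2, 3, 4, 5, 6, 7, 0, 1, 2, 3, 4, 5, 6, 7] =
    ([6, 5, 1, 3, 2, 4, 3, 7, 6, 5, 4, 3, 2, 1, 3, 4, 5, 6, 7, 0, 2, 3, 4, 1, 3, 2, 5, 4, 3, 1, 6, 5, 4, 3, 0, 2, 3, 4, 1, 3, 5, 4, 6, 5, 0, 2, 3, 4, 5, 6, 7, 6, 5, 4, 3, 2, 1, 3, 4, 5, 6, 0, 2, 3, 4, 5, 1, 3, 4, 2, 3, 0, 2, 3, 4, 1, 3, 2],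
     [4, 2, 5, 3, 2, 4, 3, 1, 0, 2, 3, 4, 5, 6, 7, 4, 3, 5, 4, 2, 0, 3, 2, 1, 3, 4, 5, 6, 7, 2, 0, 3, 1, 2, 3, 4, 5, 6, 7, 3, 4, 5, 6, 7, 0, 1, 2, 3, 4, 5, 6, 7, 0, 1, 2, 3, 4, 5, 6, 7, 0, 1, 2, 3, 4, 5, 6, 7, 0, 1, 2, 3, 4, 5, 6, 7, 0, 1, 2, 3, 4, 5, 6, 7, 0, 1, 2, 3, 4, 5, 6, 7, 0, 1, 2, 3, 4, 5, 6, 7, 0, 1, 2, 3, 4, 5, 6, 7, 0, 1, 2, 3, 4, 5, 6, 7, 0, 1, 2, 3, 4, 5, 6, 7, 0, 1, 2, 3, 4, 5, 6, 7, 0, 1, 2, 3, 4, 5, 6, 7, 0, 1, 2, 3, 4, 5, 6, 7, 0, 1, 2, 3, 4, 5, 6, 7]) := by decide +kernel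

set_option maxRecDepth 1000000 in
theorem chunk7 : exec (Mt CoxeterMatrix.E₈) [Op.R, Op.B2, Op.R, Op.B3, Op.R, Op.R, Op.B3, Op.R, Op.R, Op.B2, Op.R, Op.B2, Op.R, Op.B2, Op.R, Op.B3, Op.R, Op.R, Op.B2, Op.R, Op.B2, Op.R, Op.B2, Op.R, Op.B3, Op.R, Op.R, Op.B3, Op.R, Op.R, Op.B2, Op.R, Op.B2, Op.R, Op.B2, Op.R, Op.B2, Op.R, Op.B2, Op.R, Op.B2, Op.R, Op.B3, Op.R, Op.R, Op.B2, Op.R, Op.B2, Op.R, Op.B2, Op.R, Op.B2, Op.L, Op.L, Op.L, Op.L, Op.L, Op.L, Op.L, Op.L, Op.L, Op.L, Op.L, Op.L, Op.B2, Op.R, Op.B2, Op.L, Op.L, Op.L, Op.B2, Op.L, Op.L, Op.L, Op.L, Op.L, Op.L, Op.L, Op.L, Op.L, Op.L, Op.L, Op.L, Op.L, Op.L, Op.L, Op.L, Op.L, Op.L, Op.B2, Op.R, Op.B2, Op.R, Op.B2, Op.R, Op.B2, Op.L, Op.L,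 Op.L, Op.L, Op.B2, Op.R, Op.B2, Op.L, Op.L, Op.L, Op.B2, Op.L, Op.L, Op.L, Op.L, Op.L, Op.L, Op.L, Op.L, Op.L, Op.L, Op.L, Op.L, Op.L, Op.L, Op.L, Op.L, Op.L, Op.L, Op.L, Op.L, Op.L, Op.B2, Op.R, Op.B2, Op.R, Op.B2, Op.L, Op.L, Op.L, Op.B2, Op.L, Op.L, Op.L, Op.L, Op.L, Op.L, Op.L, Op.L, Op.L, Op.L, Op.L, Op.L, Op.L, Op.L, Op.L, Op.L, Op.L, Op.B2, Op.R, Op.B2, Op.R, Op.B2, Op.R, Op.B2, Op.R, Op.B2, Op.R, Op.B2, Op.R, Op.B2, Op.R, Op.B2, Op.R, Op.B3, Op.L, Op.L, Op.L, Op.L, Op.L, Op.L, Op.L, Op.L, Op.L, Op.B2, Op.R, Op.B2, Op.R, Op.B2, Op.R, Op.B2, Op.L, Op.L, Op.L, Op.L, Op.B2, Op.R, Op.B2, Op.L, Op.L, Op.L, Op.B3, Op.R, Op.R, Op.B2, Op.R, Op.B3, Op.R, Op.R, Op.B2, Op.R, Op.B3, Op.R, Op.R,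 Op.B2, Op.R, Op.B2, Op.R, Op.B3, Op.R, Op.R, Op.B2, Op.R, Op.B3, Op.R, Op.R, Op.B2, Op.R, Op.B2, Op.R, Op.B2, Op.R, Op.B2, Op.R, Op.B3, Op.R, Op.R, Op.B3, Op.R, Op.R, Op.B2, Op.R, Op.B3, Op.R, Op.R, Op.B2, Op.R, Op.B2, Op.R, Op.B2, Op.R, Op.B2, Op.R, Op.B3, Op.R, Op.R, Op.B2, Op.R, Op.B2, Op.R, Op.B2, Op.R, Op.B2, Op.R, Op.B2, Op.R, Op.B2, Op.R, Op.B3, Op.R, Op.R, Op.B2, Op.R, Op.B2, Op.R, Op.B2, Op.R, Op.B3, Op.R, Op.R, Op.B2, Op.R, Op.B3, Op.R, Op.R, Op.B2, Op.R, Op.B3, Op.R, Op.R, Op.B2, Op.R, Op.B2, Op.R, Op.B3, Op.R, Op.R, Op.B2, Op.R, Op.B3, Op.R, Op.R, Op.B2, Op.R, Op.B2, Op.R, Op.B2, Op.R, Op.B2, Op.R, Op.B2, Op.R, Op.B2, Op.R, Op.B3, Op.R, Op.R, Op.B2, Op.R, Op.B3, Op.R, Op.R, Op.B2,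 Op.R, Op.B2, Op.R, Op.B3, Op.R, Op.R, Op.B2, Op.R, Op.B2, Op.R, Op.B2, Op.L, Op.L, Op.L, Op.L, Op.L, Op.L, Op.B2, Op.L, Op.L, Op.L, Op.L, Op.L, Op.L, Op.L, Op.L, Op.L, Op.L, Op.L, Op.L, Op.L, Op.L, Op.L, Op.B2, Op.R, Op.B2, Op.L, Op.L, Op.B2, Op.L, Op.L, Op.B2, Op.L, Op.L, Op.L, Op.L, Op.L, Op.L, Op.L, Op.L, Op.L, Op.L, Op.L, Op.L, Op.L, Op.L, Op.L, Op.L, Op.L, Op.L, Op.L, Op.L, Op.L, Op.L, Op.L, Op.B2, Op.R, Op.B2, Op.R, Op.B2, Op.R, Op.B2, Op.R, Op.B2, Op.R, Op.B2, Op.L, Op.L, Op.L, Op.L, Op.L, Op.L, Op.B2, Op.R, Op.B2, Op.R, Op.B2, Op.R, Op.B2, Op.L, Op.L, Op.L, Op.L, Op.B2, Op.R, Op.B2, Op.R, Op.B2, Op.L, Op.L, Op.L, Op.B2, Op.R, Op.B2, Op.L, Op.L, Op.B2, Op.L, Op.L, Op.L, Op.L, Op.L,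 Op.L, Op.L, Op.B2, Op.R, Op.B2, Op.R, Op.B2, Op.R, Op.B2, Op.R, Op.B2, Op.R, Op.B2, Op.L, Op.L, Op.L, Op.L, Op.L, Op.L, Op.L, Op.L, Op.L, Op.L, Op.L, Op.L, Op.L, Op.L, Op.L, Op.L, Op.L, Op.L, Op.L, Op.L, Op.L, Op.L, Op.L, Op.L, Op.L, Op.B3, Op.R, Op.R, Op.B2, Op.R, Op.B2, Op.L, Op.L, Op.B2, Op.L, Op.L, Op.B2, Op.L, Op.B2, Op.R, Op.B3, Op.R, Op.R, Op.B3, Op.R, Op.R, Op.B3, Op.R, Op.R, Op.B2, Op.R, Op.B2, Op.R, Op.B2, Op.R, Op.B2, Op.R, Op.B2, Op.R, Op.B2, Op.R, Op.B2, Op.R, Op.B2, Op.R, Op.B2, Op.R, Op.B2, Op.R, Op.B2, Op.R, Op.B2, Op.R, Op.B2, Op.R, Op.B2, Op.R, Op.B2, Op.R, Op.B2, Op.R, Op.B2, Op.R, Op.B2, Op.R, Op.B2, Op.R, Op.B2, Op.R, Op.B3, Op.R, Op.R, Op.B3, Op.R, Op.R, Op.B3, Op.R,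 Op.R, Op.B3, Op.R, Op.R, Op.B3, Op.R, Op.R, Op.B2, Op.R, Op.B3, Op.R, Op.R, Op.B2, Op.R, Op.B2, Op.R, Op.B2, Op.R, Op.B2, Op.R, Op.B2, Op.R, Op.B2, Op.L, Op.L, Op.L, Op.L, Op.L, Op.L, Op.L, Op.L, Op.L, Op.L, Op.L, Op.L, Op.L, Op.L, Op.L, Op.L, Op.L, Op.L, Op.L, Op.B2, Op.R, Op.B2, Op.R, Op.B2, Op.R, Op.B2, Op.R, Op.B2, Op.R, Op.B2, Op.L, Op.L, Op.L, Op.L, Op.L, Op.L, Op.B2, Op.R, Op.B2, Op.R, Op.B2, Op.R, Op.B2, Op.L, Op.L, Op.L, Op.L, Op.B2, Op.R, Op.B2, Op.L, Op.L, Op.L, Op.L, Op.L, Op.B2, Op.R, Op.B2, Op.R, Op.B2, Op.L, Op.L, Op.L, Op.L, Op.L, Op.L, Op.L, Op.L, Op.L, Op.L, Op.L, Op.L, Op.L, Op.L, Op.L, Op.L, Op.B2, Op.R, Op.B2, Op.L, Op.L, Op.L, Op.B2, Op.R, Op.B2, Op.L, Op.L, Op.L, Op.B2,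 Op.R, Op.B2, Op.L, Op.L, Op.L, Op.L, Op.B2, Op.R, Op.B2, Op.R, Op.B2, Op.R, Op.B2, Op.R, Op.B3, Op.R, Op.R, Op.B3, Op.R, Op.R, Op.B3, Op.R, Op.R, Op.B2, Op.R, Op.B2, Op.R, Op.B2, Op.R, Op.B2, Op.R, Op.B2, Op.R, Op.B2, Op.R, Op.B2, Op.R, Op.B2, Op.R, Op.B2, Op.R, Op.B2, Op.R, Op.B2, Op.R, Op.B2, Op.R, Op.B2, Op.R, Op.B3, Op.R, Op.R, Op.B2, Op.R, Op.B3, Op.R, Op.R, Op.B2, Op.R, Op.B3, Op.R, Op.R, Op.B2, Op.R, Op.B3, Op.R, Op.R, Op.B2, Op.R, Op.B2, Op.R, Op.B3, Op.R, Op.R, Op.B2, Op.R, Op.B3, Op.R, Op.R, Op.B2, Op.R, Op.B2, Op.R, Op.B2, Op.R, Op.B2, Op.L, Op.L, Op.L, Op.L, Op.L, Op.L, Op.L, Op.L, Op.L, Op.L, Op.B2, Op.L, Op.L, Op.L, Op.L, Op.L, Op.L, Op.L, Op.L, Op.L, Op.L, Op.L, Op.L, Op.B2,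 Op.R, Op.B2, Op.R, Op.B2, Op.R, Op.B2, Op.R, Op.B2, Op.R, Op.B2, Op.L, Op.L, Op.L, Op.L, Op.L, Op.L, Op.B2, Op.R, Op.B2, Op.R, Op.B2, Op.L, Op.L, Op.L, Op.L, Op.B2, Op.L, Op.L, Op.L, Op.L, Op.L, Op.L, Op.L, Op.L, Op.L, Op.L, Op.B2, Op.R, Op.B2, Op.R, Op.B2, Op.L, Op.L, Op.L, Op.L, Op.B2, Op.R, Op.B2, Op.L, Op.L, Op.L, Op.B2, Op.R, Op.B2, Op.L, Op.L, Op.L, Op.L, Op.L, Op.L, Op.L, Op.B2, Op.R, Op.B2, Op.R, Op.B2, Op.R, Op.B2, Op.R, Op.B2, Op.R, Op.B2, Op.R, Op.B2, Op.R, Op.B3, Op.R, Op.R, Op.B3, Op.R, Op.R, Op.B2, Op.R, Op.B3, Op.R, Op.R, Op.B2, Op.R, Op.B2, Op.R, Op.B2, Op.R, Op.B2, Op.R, Op.B2, Op.R, Op.B2, Op.R, Op.B3, Op.R, Op.R, Op.B2, Op.R, Op.B2, Op.R, Op.B3, Op.R, Op.R, Op.B2, Op.R,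 Op.B2, Op.R, Op.B3, Op.R, Op.R, Op.B2, Op.R, Op.B2, Op.R, Op.B2, Op.R, Op.B3, Op.R, Op.R, Op.B3, Op.R, Op.R, Op.B2, Op.R, Op.B2, Op.R, Op.B2, Op.R, Op.B3, Op.R, Op.R, Op.B2, Op.R, Op.B2, Op.R, Op.B2, Op.R, Op.B3, Op.R, Op.R, Op.B3, Op.R, Op.R, Op.B2, Op.R, Op.B2, Op.R, Op.B2, Op.R, Op.B2, Op.R, Op.B2, Op.R, Op.B2, Op.R, Op.B2, Op.R, Op.B2, Op.R, Op.B2, Op.R, Op.B3, Op.R, Op.R, Op.B3, Op.R, Op.R, Op.B3, Op.R, Op.R, Op.B2, Op.R, Op.B2, Op.R, Op.B2, Op.R, Op.B2, Op.R, Op.B2, Op.R, Op.B2, Op.L, Op.L, Op.L, Op.L, Op.L, Op.L, Op.L, Op.L, Op.L, Op.L, Op.L, Op.L, Op.B2, Op.R, Op.B2, Op.L, Op.L, Op.L, Op.L, Op.L, Op.L, Op.L, Op.L, Op.L, Op.L, Op.B2, Op.R, Op.B2, Op.R, Op.B2, Op.L, Op.L, Op.L, Op.L,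 Op.B2, Op.L, Op.L, Op.L, Op.L, Op.L, Op.L, Op.L, Op.L, Op.L, Op.L, Op.L, Op.L, Op.L, Op.L, Op.L, Op.B2]
    [6, 5, 1, 3, 2, 4, 3, 7, 6, 5, 4, 3, 2, 1, 3, 4, 5, 6, 7, 0, 2, 3, 4, 1, 3, 2, 5, 4, 3, 1, 6, 5, 4, 3, 0, 2, 3, 4, 1, 3, 5, 4, 6, 5, 0, 2, 3, 4, 5, 6, 7, 6, 5, 4, 3, 2, 1, 3, 4, 5, 6, 0, 2, 3, 4, 5, 1, 3, 4, 2, 3, 0, 2, 3, 4, 1, 3, 2]
    [4, 2, 5, 3, 2, 4, 3, 1, 0, 2, 3, 4, 5, 6, 7, 4, 3, 5, 4, 2, 0, 3, 2, 1, 3, 4, 5, 6, 7, 2, 0, 3, 1, 2, 3, 4, 5, 6, 7, 3, 4, 5, 6, 7, 0, 1, 2, 3, 4, 5, 6, 7, 0, 1, 2, 3, 4, 5, 6, 7, 0, 1, 2, 3, 4, 5, 6, 7, 0, 1, 2, 3, 4, 5, 6, 7, 0, 1, 2, 3, 4, 5, 6, 7, 0, 1, 2, 3, 4, 5, 6, 7, 0, 1, 2, 3, 4, 5, 6, 7, 0, 1, 2, 3, 4, 5, 6, 7, 0, 1, 2, 3, 4, 5, 6, 7, 0,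 1, 2, 3, 4, 5, 6, 7, 0, 1, 2, 3, 4, 5, 6, 7, 0, 1, 2, 3, 4, 5, 6, 7, 0, 1, 2, 3, 4, 5, 6, 7, 0, 1, 2, 3, 4, 5, 6, 7] =
    ([4, 3, 2, 6, 5, 4, 3, 7, 6, 5, 4, 1, 3, 2, 0, 2, 3, 4, 5, 1, 3, 4, 2, 3, 6, 5, 4, 7, 6, 5, 7, 1, 3, 4, 5, 6, 0, 2, 3, 4, 5, 1, 3, 4, 2, 3, 0, 2, 3, 4, 1, 3, 2],
     [1, 5, 3, 2, 4, 3, 1, 0, 2, 3, 4, 5, 6, 7, 2, 0, 3, 4, 5, 6, 2, 3, 4, 5, 1, 3, 2, 0, 4, 3, 2, 1, 3, 4, 5, 6, 7, 4, 5, 1, 3, 2, 0, 4, 3, 1, 2, 3, 4, 5, 6, 7, 3, 2, 0, 4, 3, 1, 2, 3, 4, 5, 6, 7, 3, 4, 5, 6, 7, 0, 1, 2, 3, 4, 5, 6, 7, 0, 1, 2, 3, 4, 5, 6, 7, 0, 1, 2, 3, 4, 5, 6, 7, 0, 1, 2, 3, 4, 5, 6, 7, 0, 1, 2, 3, 4, 5, 6, 7, 0, 1, 2, 3, 4, 5, 6, 7, 0, 1, 2, 3, 4, 5, 6, 7, 0, 1, 2, 3, 4, 5, 6, 7, 0, 1, 2,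 3, 4, 5, 6, 7, 0, 1, 2, 3, 4, 5, 6, 7, 0, 1, 2, 3, 4, 5, 6, 7, 0, 1, 2, 3, 4, 5, 6, 7, 0, 1, 2, 3, 4, 5, 6, 7, 0, 1, 2, 3, 4, 5, 6, 7]) := by decide +kernel

set_option maxRecDepth 1000000 in
theorem chunk8 : exec (Mt CoxeterMatrix.E₈) [Op.R, Op.B2, Op.R, Op.B2, Op.L, Op.L, Op.L, Op.B2, Op.L, Op.L, Op.L, Op.L, Op.L, Op.L, Op.L, Op.L, Op.L, Op.L, Op.L, Op.B2, Op.R, Op.B2, Op.R, Op.B2, Op.R, Op.B2, Op.L, Op.L, Op.L, Op.L, Op.L, Op.L, Op.L, Op.L, Op.L, Op.L, Op.L, Op.L, Op.L, Op.L, Op.L, Op.L, Op.L, Op.L, Op.L, Op.L, Op.L, Op.L, Op.L, Op.B2, Op.R, Op.B2, Op.R, Op.B2, Op.R, Op.B2, Op.R, Op.B2, Op.R, Op.B2, Op.R, Op.B2, Op.L, Op.L, Op.L, Op.L, Op.L, Op.L, Op.L, Op.B2, Op.R, Op.B2, Op.R, Op.B2,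 Op.R, Op.B2, Op.L, Op.L, Op.L, Op.L, Op.B2, Op.L, Op.B2, Op.R, Op.B3, Op.R, Op.R, Op.B2, Op.R, Op.B2, Op.R, Op.B3, Op.R, Op.R, Op.B2, Op.R, Op.B2, Op.R, Op.B3, Op.R, Op.R, Op.B2, Op.R, Op.B2, Op.R, Op.B3, Op.R, Op.R, Op.B2, Op.R, Op.B3, Op.R, Op.R, Op.B2, Op.R, Op.B2, Op.R, Op.B2, Op.R, Op.B3, Op.R, Op.R, Op.B2, Op.R, Op.B2, Op.R, Op.B2, Op.R, Op.B3, Op.R, Op.R, Op.B2, Op.R, Op.B2, Op.R, Op.B2, Op.R, Op.B2, Op.R, Op.B3, Op.R, Op.R, Op.B3, Op.R, Op.R, Op.B2, Op.R, Op.B3, Op.R, Op.R, Op.B2, Op.R, Op.B2, Op.R, Op.B2, Op.R, Op.B2, Op.R, Op.B2, Op.R, Op.B3, Op.R, Op.R, Op.B2, Op.R, Op.B2, Op.R, Op.B2, Op.R, Op.B2, Op.R, Op.B3, Op.R, Op.R, Op.B2, Op.R, Op.B2, Op.R, Op.B3, Op.R, Op.R, Op.B2, Op.R,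 Op.B2, Op.R, Op.B2, Op.R, Op.B3, Op.R, Op.R, Op.B2, Op.R, Op.B3, Op.R, Op.R, Op.B2, Op.R, Op.B2, Op.R, Op.B3, Op.R, Op.R, Op.B2, Op.R, Op.B2, Op.R, Op.B2, Op.L, Op.L, Op.L, Op.L, Op.L, Op.L, Op.L, Op.L, Op.L, Op.L, Op.L, Op.L, Op.L, Op.B2, Op.R, Op.B2, Op.R, Op.B2, Op.R, Op.B2, Op.L, Op.L, Op.L, Op.L, Op.B2, Op.L, Op.L, Op.L, Op.L, Op.L, Op.L, Op.L, Op.L, Op.L, Op.L, Op.L, Op.L, Op.L, Op.L, Op.L, Op.L, Op.B2, Op.R, Op.B2, Op.L, Op.L, Op.B2, Op.L, Op.L, Op.L, Op.B2, Op.R, Op.B2, Op.L, Op.L, Op.L, Op.L, Op.L, Op.L, Op.L, Op.L, Op.L, Op.L, Op.L, Op.L, Op.L, Op.L, Op.L, Op.L, Op.L, Op.L, Op.L, Op.B3, Op.R, Op.R, Op.B2, Op.R, Op.B2, Op.R, Op.B2, Op.R, Op.B2, Op.R, Op.B2, Op.R, Op.B2, Op.R, Op.B2,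 Op.R, Op.B2, Op.R, Op.B2, Op.R, Op.B2, Op.L, Op.L, Op.L, Op.L, Op.L, Op.L, Op.L, Op.L, Op.L, Op.L, Op.L, Op.L, Op.B2, Op.R, Op.B3, Op.R, Op.R, Op.B2, Op.R, Op.B2, Op.R, Op.B2, Op.R, Op.B2, Op.R, Op.B2, Op.L, Op.L, Op.L, Op.L, Op.L, Op.L, Op.L, Op.L, Op.B2, Op.R, Op.B2, Op.R, Op.B3, Op.R, Op.R, Op.B2, Op.R, Op.B2, Op.R, Op.B2, Op.L, Op.L, Op.L, Op.L, Op.L, Op.L, Op.L, Op.L, Op.B2, Op.R, Op.B2, Op.R, Op.B2, Op.L, Op.L, Op.L, Op.B2, Op.R, Op.B2, Op.L, Op.L, Op.L, Op.B2, Op.R, Op.B2, Op.L, Op.L, Op.L, Op.L, Op.L, Op.L, Op.L, Op.L, Op.L, Op.L, Op.L, Op.L, Op.L, Op.L, Op.B2, Op.R, Op.B2, Op.R, Op.B2, Op.R, Op.B2, Op.R, Op.B2, Op.R, Op.B2, Op.R, Op.B2, Op.R, Op.B2, Op.R, Op.B2, Op.R, Op.B2, Op.R,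 Op.B2, Op.R, Op.B2, Op.R, Op.B2, Op.R, Op.B2, Op.R, Op.B3, Op.R, Op.R, Op.B3, Op.R, Op.R, Op.B3, Op.R, Op.R, Op.B2, Op.R, Op.B2, Op.R, Op.B2, Op.R, Op.B2, Op.R, Op.B3, Op.R, Op.R, Op.B3, Op.R, Op.R, Op.B2, Op.R, Op.B2, Op.R, Op.B2, Op.R, Op.B3, Op.R, Op.R, Op.B2, Op.R, Op.B2, Op.R, Op.B2, Op.R, Op.B2, Op.R, Op.B2, Op.R, Op.B2, Op.R, Op.B3, Op.R, Op.R, Op.B3, Op.R, Op.R, Op.B3, Op.R, Op.R, Op.B2, Op.R, Op.B2, Op.R, Op.B2, Op.R, Op.B2, Op.R, Op.B2, Op.R, Op.B2, Op.L, Op.L, Op.L, Op.L, Op.L, Op.L, Op.L, Op.L, Op.L, Op.L, Op.L, Op.L, Op.B2, Op.R, Op.B2, Op.L, Op.L, Op.L, Op.B2, Op.L, Op.L, Op.L, Op.L, Op.L, Op.L, Op.L, Op.L, Op.L, Op.L, Op.L, Op.L, Op.L, Op.L, Op.L, Op.L, Op.L, Op.L, Op.L, Op.L,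 Op.L, Op.L, Op.L, Op.B2, Op.R, Op.B2, Op.R, Op.B2, Op.R, Op.B2, Op.R, Op.B2, Op.R, Op.B2, Op.R, Op.B3, Op.R, Op.R, Op.B2, Op.R, Op.B2, Op.L, Op.L, Op.L, Op.L, Op.L, Op.L, Op.L, Op.L, Op.L, Op.L, Op.B2, Op.R, Op.B2, Op.L, Op.L, Op.L, Op.L, Op.L, Op.L, Op.L, Op.L, Op.L, Op.L, Op.L, Op.L, Op.L, Op.L, Op.B2, Op.R, Op.B2, Op.R, Op.B2, Op.R, Op.B2, Op.R, Op.B2, Op.R, Op.B2, Op.L, Op.L, Op.L, Op.L, Op.L, Op.L, Op.B2, Op.R, Op.B2, Op.L, Op.L, Op.B2, Op.R, Op.B2, Op.R, Op.B3, Op.R, Op.R, Op.B2, Op.R, Op.B2, Op.R, Op.B2, Op.R, Op.B3, Op.R, Op.R, Op.B2, Op.R, Op.B2, Op.R, Op.B2, Op.R, Op.B2, Op.R, Op.B3, Op.R, Op.R, Op.B2, Op.R, Op.B3, Op.R, Op.R, Op.B2, Op.R, Op.B2, Op.R, Op.B3, Op.R, Op.R, Op.B2, Op.R,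 Op.B2, Op.R, Op.B2, Op.R, Op.B3, Op.R, Op.R, Op.B2, Op.R, Op.B2, Op.R, Op.B3, Op.R, Op.R, Op.B2, Op.R, Op.B2, Op.R, Op.B2, Op.R, Op.B3, Op.R, Op.R, Op.B2, Op.R, Op.B2, Op.R, Op.B2, Op.R, Op.B3, Op.R, Op.R, Op.B2, Op.R, Op.B3, Op.R, Op.R, Op.B2, Op.R, Op.B2, Op.R, Op.B3, Op.R, Op.R, Op.B2, Op.R, Op.B2, Op.R, Op.B2, Op.L, Op.L, Op.L, Op.L, Op.L, Op.L, Op.B2, Op.L, Op.L, Op.L, Op.L, Op.L, Op.L, Op.L, Op.L, Op.B2, Op.R, Op.B2, Op.L, Op.L, Op.L, Op.L, Op.L, Op.L, Op.L, Op.L, Op.L, Op.L, Op.L, Op.L, Op.L, Op.L, Op.L, Op.L, Op.L, Op.L, Op.L, Op.L, Op.L, Op.L, Op.L, Op.L, Op.L, Op.L, Op.B2, Op.R, Op.B2, Op.R, Op.B2, Op.R, Op.B2, Op.R, Op.B2, Op.R, Op.B2, Op.R, Op.B2, Op.R, Op.B2, Op.R, Op.B2, Op.R,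 Op.B2, Op.R, Op.B3, Op.R, Op.R, Op.B2, Op.L, Op.L, Op.L, Op.L, Op.L, Op.L, Op.L, Op.L, Op.L, Op.L, Op.L, Op.L, Op.L, Op.B2, Op.R, Op.B2, Op.R, Op.B2, Op.R, Op.B2, Op.L, Op.L, Op.L, Op.L, Op.B2, Op.L, Op.L, Op.L, Op.L, Op.L, Op.L, Op.L, Op.L, Op.L, Op.L, Op.L, Op.B2, Op.R, Op.B2, Op.R, Op.B2, Op.L, Op.L, Op.L, Op.B2, Op.R, Op.B2, Op.R, Op.B2, Op.R, Op.B3, Op.R, Op.R, Op.B2, Op.R, Op.B2, Op.R, Op.B2, Op.R, Op.B2, Op.R, Op.B2, Op.R, Op.B3, Op.R, Op.R, Op.B3, Op.R, Op.R, Op.B2, Op.R, Op.B2, Op.R, Op.B3, Op.R, Op.R, Op.B2, Op.R, Op.B2, Op.R, Op.B2, Op.R, Op.B2, Op.R, Op.B3, Op.R, Op.R, Op.B2, Op.R, Op.B2, Op.R, Op.B3, Op.R, Op.R, Op.B2, Op.R, Op.B2, Op.R, Op.B2, Op.R, Op.B2, Op.R, Op.B3, Op.R,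 Op.R, Op.B2, Op.R, Op.B2, Op.R, Op.B2, Op.R, Op.B3, Op.R, Op.R, Op.B2, Op.R, Op.B3, Op.R, Op.R, Op.B2, Op.R, Op.B2, Op.R, Op.B2, Op.R, Op.B3, Op.R, Op.R, Op.B3, Op.R, Op.R, Op.B2, Op.R, Op.B2, Op.R, Op.B2, Op.R, Op.B2, Op.R, Op.B3, Op.R, Op.R, Op.B2, Op.R, Op.B3, Op.R, Op.R, Op.B2, Op.R, Op.B2, Op.R, Op.B2, Op.R, Op.B2, Op.R, Op.B3, Op.R, Op.R, Op.B3, Op.R, Op.R, Op.B2, Op.R, Op.B2, Op.R, Op.B3, Op.R, Op.R, Op.B2, Op.R, Op.B2, Op.R, Op.B2, Op.R, Op.B2, Op.R, Op.B3, Op.R, Op.R, Op.B2, Op.R, Op.B2, Op.R, Op.B3, Op.R, Op.R, Op.B2, Op.R, Op.B3, Op.R, Op.R, Op.B2, Op.R, Op.B2, Op.R, Op.B2, Op.R, Op.B3, Op.R, Op.R, Op.B3, Op.R, Op.R, Op.B2, Op.R, Op.B2, Op.R, Op.B2, Op.R, Op.B2, Op.R, Op.B3, Op.R,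 Op.R, Op.B2, Op.R, Op.B3, Op.R, Op.R, Op.B2, Op.R, Op.B2, Op.R, Op.B3, Op.R, Op.R, Op.B2, Op.R, Op.B2, Op.R, Op.B2, Op.R, Op.C, Op.L, Op.L, Op.L, Op.L, Op.L, Op.L, Op.L, Op.L, Op.L, Op.L, Op.L, Op.L, Op.L, Op.L, Op.L, Op.L, Op.L, Op.L, Op.L, Op.L, Op.L, Op.L]
    [4, 3, 2, 6, 5, 4, 3, 7, 6, 5, 4, 1, 3, 2, 0, 2, 3, 4, 5, 1, 3, 4, 2, 3, 6, 5, 4, 7, 6, 5, 7, 1, 3, 4, 5, 6, 0, 2, 3, 4, 5, 1, 3, 4, 2, 3, 0, 2, 3, 4, 1, 3, 2]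
    [1, 5, 3, 2, 4, 3, 1, 0, 2, 3, 4, 5, 6, 7, 2, 0, 3, 4, 5, 6, 2, 3, 4, 5, 1, 3, 2, 0, 4, 3, 2, 1, 3, 4, 5, 6, 7, 4, 5, 1, 3, 2, 0, 4, 3, 1, 2, 3, 4, 5, 6, 7, 3, 2, 0, 4, 3, 1, 2, 3, 4, 5, 6, 7, 3, 4, 5, 6, 7, 0, 1, 2, 3, 4, 5, 6, 7, 0, 1, 2, 3, 4, 5, 6, 7, 0, 1, 2, 3, 4, 5, 6, 7, 0, 1, 2, 3, 4, 5, 6, 7, 0, 1, 2, 3, 4, 5, 6, 7, 0, 1, 2, 3, 4, 5, 6, 7, 0, 1, 2, 3, 4, 5, 6, 7, 0, 1, 2, 3, 4, 5, 6, 7, 0, 1, 2, 3, 4, 5, 6, 7, 0, 1, 2, 3, 4, 5, 6, 7, 0, 1, 2, 3, 4, 5, 6, 7, 0, 1, 2, 3, 4, 5, 6, 7, 0, 1, 2, 3, 4, 5, 6, 7, 0, 1, 2, 3, 4, 5, 6, 7] =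
    ([2, 3, 1, 5, 4, 3, 7, 6, 5, 4, 3, 1, 2, 3, 4, 5, 0, 2, 3, 4, 1, 3, 2, 6, 5, 4, 3, 1, 0, 2, 3, 7, 6, 5, 4, 3, 2, 1, 3, 4, 0, 2, 3, 1, 5, 4, 3, 2, 0, 6, 5, 4, 3, 2, 1, 3, 4, 5, 7, 6, 5, 4, 3, 1, 2, 3, 4, 5, 0, 2, 3, 4, 1, 3, 2, 7, 6, 5, 4, 3, 1, 7, 6, 5, 4, 2, 3, 0, 2, 3, 4, 1, 3, 2],
     [0, 4, 3, 1, 2, 3, 4, 5, 6, 7, 3, 2, 0, 4, 3, 1, 2, 3, 4, 5, 6, 7, 4, 5, 6, 7, 0, 1, 2, 3, 4, 5, 6, 7, 0, 1, 2, 3, 4, 5, 6, 7, 0, 1, 2, 3, 4, 5, 6, 7, 0, 1, 2, 3, 4, 5, 6, 7, 0, 1, 2, 3, 4, 5, 6, 7, 0, 1, 2, 3, 4, 5, 6, 7, 0, 1, 2, 3, 4, 5, 6, 7, 0, 1, 2, 3, 4, 5, 6, 7, 0, 1, 2, 3, 4, 5, 6, 7, 0, 1, 2, 3, 4, 5, 6, 7, 0, 1, 2, 3, 4, 5, 6, 7, 0, 1, 2, 3, 4, 5, 6, 7, 0, 1, 2, 3, 4, 5, 6, 7, 0, 1, 2, 3, 4,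 5, 6, 7]) := by decide +kernel

set_option maxRecDepth 1000000 in
theorem chunk9 : exec (Mt CoxeterMatrix.E₈) [Op.L, Op.L, Op.L, Op.L, Op.L, Op.L, Op.L, Op.L, Op.L, Op.L, Op.L, Op.L, Op.L, Op.L, Op.L, Op.L, Op.L, Op.L, Op.L, Op.L, Op.L, Op.L, Op.L, Op.L, Op.L, Op.L, Op.L, Op.L, Op.L, Op.L, Op.L, Op.L, Op.B2, Op.R, Op.B2, Op.R, Op.B2, Op.R, Op.B2, Op.R, Op.B2, Op.R, Op.B2, Op.R, Op.B2, Op.L, Op.L, Op.L, Op.L, Op.L, Op.L, Op.L, Op.B2, Op.R, Op.B2, Op.R, Op.B2, Op.R, Op.B2, Op.R, Op.B2, Op.R, Op.B2, Op.L, Op.L, Op.L, Op.L, Op.L, Op.L, Op.B2, Op.R, Op.B2, Op.R, Op.B2, Op.R, Op.B2, Op.R, Op.B2, Op.L, Op.L, Op.L, Op.L, Op.L, Op.L, Op.B3, Op.R, Op.R, Op.B2, Op.R, Op.B2, Op.R, Op.B2, Op.L, Op.L, Op.L,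 Op.L, Op.L, Op.B2, Op.R, Op.B3, Op.R, Op.R, Op.B2, Op.L, Op.L, Op.L, Op.L, Op.B2, Op.L, Op.L, Op.B3, Op.R, Op.R, Op.B3, Op.R, Op.R, Op.B2, Op.R, Op.B2, Op.R, Op.B3, Op.R, Op.R, Op.B3, Op.R, Op.R, Op.B3, Op.R, Op.R, Op.B3, Op.R, Op.R, Op.B3, Op.R, Op.R, Op.B2, Op.R, Op.B2, Op.R, Op.B2, Op.R, Op.B2, Op.R, Op.B2, Op.R, Op.B2, Op.R, Op.B2, Op.R, Op.B2, Op.R, Op.B2, Op.R, Op.B2, Op.R, Op.B2, Op.R, Op.B2, Op.R, Op.B2, Op.R, Op.B2, Op.R, Op.B2, Op.R, Op.B3, Op.R, Op.R, Op.B2, Op.R, Op.B2, Op.L, Op.L, Op.L, Op.L, Op.L, Op.L, Op.L, Op.L, Op.L, Op.L, Op.L, Op.L, Op.L, Op.L, Op.L, Op.L, Op.L, Op.L, Op.L, Op.B2, Op.R, Op.B2, Op.R, Op.B2, Op.R, Op.B2, Op.R, Op.B2, Op.R, Op.B2, Op.R, Op.B2, Op.L, Op.L,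 Op.L, Op.L, Op.L, Op.L, Op.L, Op.L, Op.B2, Op.R, Op.B2, Op.R, Op.B2, Op.R, Op.B2, Op.L, Op.L, Op.L, Op.L, Op.L, Op.B2, Op.R, Op.B2, Op.R, Op.B2, Op.L, Op.L, Op.L, Op.L, Op.B2, Op.R, Op.B2, Op.R, Op.B2, Op.L, Op.L, Op.L, Op.L, Op.L, Op.L, Op.L, Op.L, Op.L, Op.L, Op.L, Op.L, Op.B2, Op.R, Op.B2, Op.R, Op.B2, Op.R, Op.B2, Op.R, Op.B3, Op.L, Op.L, Op.L, Op.L, Op.L, Op.L, Op.B3, Op.R, Op.R, Op.B2, Op.R, Op.B2, Op.R, Op.B3, Op.R, Op.R, Op.B2, Op.R, Op.B3, Op.R, Op.R, Op.B2, Op.R, Op.B2, Op.R, Op.B2, Op.R, Op.B2, Op.R, Op.B2, Op.R, Op.B3, Op.R, Op.R, Op.B3, Op.R, Op.R, Op.B2, Op.R, Op.B3, Op.R, Op.R, Op.B2, Op.R, Op.B2, Op.R, Op.B2, Op.R, Op.B3, Op.R, Op.R, Op.B2, Op.R, Op.B2, Op.R, Op.B2, Op.R, Op.B2,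 Op.R, Op.B2, Op.R, Op.B2, Op.R, Op.B3, Op.R, Op.R, Op.B2, Op.R, Op.B2, Op.L, Op.L, Op.L, Op.L, Op.L, Op.L, Op.L, Op.L, Op.L, Op.L, Op.L, Op.L, Op.L, Op.L, Op.L, Op.L, Op.L, Op.L, Op.L, Op.L, Op.L, Op.L, Op.L, Op.L, Op.L, Op.L, Op.B2, Op.R, Op.B2, Op.R, Op.B2, Op.R, Op.B2, Op.L, Op.L, Op.L, Op.L, Op.L, Op.L, Op.L, Op.L, Op.L, Op.L, Op.B2, Op.L, Op.L, Op.L, Op.B2, Op.R, Op.B3, Op.R, Op.R, Op.B3, Op.R, Op.R, Op.B2, Op.R, Op.B2, Op.R, Op.B2, Op.R, Op.B3, Op.R, Op.R, Op.B2, Op.R, Op.B2, Op.R, Op.B2, Op.R, Op.B3, Op.R, Op.R, Op.B2, Op.R, Op.B2, Op.R, Op.B3, Op.R, Op.R, Op.B2, Op.R, Op.B3, Op.R, Op.R, Op.B2, Op.R, Op.B2, Op.R, Op.B2, Op.R, Op.B3, Op.R, Op.R, Op.B2, Op.R, Op.B2, Op.R, Op.B2, Op.R,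 Op.B2, Op.R, Op.B3, Op.R, Op.R, Op.B2, Op.R, Op.B2, Op.L, Op.L, Op.L, Op.L, Op.L, Op.L, Op.L, Op.L, Op.L, Op.L, Op.L, Op.L, Op.L, Op.L, Op.L, Op.L, Op.L, Op.L, Op.L, Op.B2, Op.L, Op.L, Op.L, Op.L, Op.L, Op.L, Op.L, Op.L, Op.L, Op.L, Op.L, Op.L, Op.L, Op.L, Op.L, Op.L, Op.B2, Op.R, Op.B2, Op.R, Op.B2, Op.L, Op.L, Op.L, Op.B2, Op.L, Op.L, Op.B3, Op.R, Op.R, Op.B3, Op.R, Op.R, Op.B2, Op.R, Op.B3, Op.R, Op.R, Op.B2, Op.R, Op.B2, Op.R, Op.B2, Op.R, Op.B2, Op.R, Op.B2, Op.R, Op.B3, Op.R, Op.R, Op.B2, Op.R, Op.B2, Op.R, Op.B2, Op.R, Op.B3, Op.R, Op.R, Op.B3, Op.R, Op.R, Op.B2, Op.R, Op.B2, Op.R, Op.B2, Op.R, Op.B3, Op.R, Op.R, Op.B2, Op.R, Op.B2, Op.R, Op.B2, Op.R, Op.B3, Op.R, Op.R, Op.B2, Op.R,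 Op.B2, Op.R, Op.B3, Op.R, Op.R, Op.B2, Op.R, Op.B2, Op.R, Op.B2, Op.R, Op.B3, Op.R, Op.R, Op.B3, Op.R, Op.R, Op.B3, Op.R, Op.R, Op.B2, Op.R, Op.B2, Op.R, Op.B2, Op.R, Op.B2, Op.R, Op.B2, Op.R, Op.B2, Op.R, Op.B2, Op.R, Op.B2, Op.R, Op.B2, Op.R, Op.B2, Op.R, Op.B3, Op.R, Op.R, Op.B2, Op.R, Op.B2, Op.R, Op.B2, Op.R, Op.B2, Op.L, Op.L, Op.L, Op.L, Op.L, Op.L, Op.L, Op.L, Op.L, Op.L, Op.L, Op.L, Op.L, Op.L, Op.L, Op.L, Op.B2, Op.R, Op.B2, Op.R, Op.B2, Op.R, Op.B2, Op.L, Op.L, Op.L, Op.L, Op.L, Op.B2, Op.R, Op.B2, Op.L, Op.L, Op.L, Op.B2, Op.R, Op.B2, Op.L, Op.L, Op.L, Op.L, Op.L, Op.L, Op.L, Op.L, Op.L, Op.L, Op.L, Op.L, Op.L, Op.L, Op.L, Op.L, Op.L, Op.L, Op.L, Op.L, Op.L, Op.L, Op.L, Op.L, Op.L,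 Op.L, Op.L, Op.L, Op.L, Op.L, Op.L, Op.L, Op.B3, Op.R, Op.R, Op.B2, Op.R, Op.B2, Op.R, Op.B2, Op.R, Op.B2, Op.R, Op.B2, Op.R, Op.B2, Op.R, Op.B2, Op.R, Op.B2, Op.L, Op.L, Op.L, Op.L, Op.L, Op.L, Op.L, Op.L, Op.L, Op.L, Op.B2, Op.R, Op.B3, Op.R, Op.R, Op.B2, Op.R, Op.B2, Op.R, Op.B2, Op.R, Op.B2, Op.R, Op.B2, Op.L, Op.L, Op.L, Op.L, Op.L, Op.L, Op.L, Op.L, Op.B2, Op.R, Op.B2, Op.R, Op.B3, Op.R, Op.R, Op.B2, Op.R, Op.B2, Op.R, Op.B2, Op.L, Op.L, Op.L, Op.L, Op.L, Op.L, Op.L, Op.L, Op.B2, Op.R, Op.B2, Op.R, Op.B2, Op.L, Op.L, Op.L, Op.B2, Op.R, Op.B2, Op.L, Op.L, Op.L, Op.B2, Op.R, Op.B2, Op.L, Op.L, Op.L, Op.B2, Op.R, Op.B2, Op.R, Op.B2, Op.R, Op.B3, Op.R, Op.R, Op.B3, Op.R, Op.R, Op.B3, Op.R,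 Op.R, Op.B2, Op.R, Op.B2, Op.R, Op.B2, Op.R, Op.B2, Op.R, Op.B3, Op.R, Op.R, Op.B3, Op.R, Op.R, Op.B2, Op.R, Op.B3, Op.R, Op.R, Op.B2, Op.R, Op.B2, Op.R, Op.B2, Op.R, Op.B2, Op.R, Op.B2, Op.R, Op.B3, Op.R, Op.R, Op.B2, Op.R, Op.B2, Op.R, Op.B2, Op.R, Op.B3, Op.R, Op.R, Op.B3, Op.R, Op.R, Op.B2, Op.R, Op.B2, Op.R, Op.B2, Op.R, Op.B2, Op.R, Op.B2, Op.R, Op.B2, Op.R, Op.B2, Op.R, Op.B3, Op.R, Op.R, Op.B3, Op.R, Op.R, Op.B2, Op.R, Op.B2, Op.R, Op.B3, Op.R, Op.R, Op.B2, Op.R, Op.B2, Op.R, Op.B2, Op.R, Op.B2, Op.R, Op.B3, Op.R, Op.R, Op.B2, Op.R, Op.B2, Op.L, Op.L, Op.L, Op.L, Op.L, Op.L, Op.L, Op.L, Op.L, Op.L, Op.L, Op.L, Op.L, Op.L, Op.L, Op.L, Op.L, Op.L, Op.L, Op.L, Op.L, Op.L, Op.L, Op.L,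 Op.L, Op.B2, Op.L, Op.L, Op.L, Op.L, Op.L, Op.L, Op.L, Op.L, Op.L, Op.L, Op.B2, Op.R, Op.B2, Op.L, Op.L, Op.B2, Op.L, Op.L, Op.L, Op.B2, Op.R, Op.B2, Op.L, Op.L, Op.L, Op.L, Op.L, Op.L, Op.L, Op.L, Op.L, Op.L, Op.L, Op.L, Op.L, Op.L, Op.L, Op.L, Op.L, Op.L, Op.L, Op.B2, Op.R, Op.B2, Op.L, Op.L, Op.B2, Op.L, Op.L, Op.B3, Op.R, Op.R, Op.B3, Op.R, Op.R, Op.B3, Op.R, Op.R, Op.B2, Op.R, Op.B2, Op.R, Op.B2, Op.R, Op.B2, Op.R, Op.B2, Op.R, Op.B2, Op.R, Op.B2, Op.R, Op.B3, Op.R, Op.R, Op.B2, Op.R, Op.B2, Op.R, Op.B2, Op.R, Op.B2, Op.R, Op.B2, Op.R, Op.B2, Op.R, Op.B2, Op.R, Op.B3, Op.R, Op.R, Op.B3, Op.R, Op.R, Op.B3, Op.R, Op.R, Op.B2, Op.R, Op.B2, Op.R, Op.B2, Op.R, Op.B2, Op.R, Op.B2, Op.R, Op.B3,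 Op.R, Op.R, Op.B3, Op.R, Op.R, Op.B2, Op.R, Op.B2, Op.R, Op.B2, Op.R, Op.B2, Op.R, Op.B2, Op.R, Op.B2, Op.R, Op.B2]
    [2, 3, 1, 5, 4, 3, 7, 6, 5, 4, 3, 1, 2, 3, 4, 5, 0, 2, 3, 4, 1, 3, 2, 6, 5, 4, 3, 1, 0, 2, 3, 7, 6, 5, 4, 3, 2, 1, 3, 4, 0, 2, 3, 1, 5, 4, 3, 2, 0, 6, 5, 4, 3, 2, 1, 3, 4, 5, 7, 6, 5, 4, 3, 1, 2, 3, 4, 5, 0, 2, 3, 4, 1, 3, 2, 7, 6, 5, 4, 3, 1, 7, 6, 5, 4, 2, 3, 0, 2, 3, 4, 1, 3, 2]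
    [0, 4, 3, 1, 2, 3, 4, 5, 6, 7, 3, 2, 0, 4, 3, 1, 2, 3, 4, 5, 6, 7, 4, 5, 6, 7, 0, 1, 2, 3, 4, 5, 6, 7, 0, 1, 2, 3, 4, 5, 6, 7, 0, 1, 2, 3, 4, 5, 6, 7, 0, 1, 2, 3, 4, 5, 6, 7, 0, 1, 2, 3, 4, 5, 6, 7, 0, 1, 2, 3, 4, 5, 6, 7, 0, 1, 2, 3, 4, 5, 6, 7, 0, 1, 2, 3, 4, 5, 6, 7, 0, 1, 2, 3, 4, 5, 6, 7, 0, 1, 2, 3, 4, 5, 6, 7, 0, 1, 2, 3, 4, 5, 6, 7, 0, 1, 2, 3, 4, 5, 6, 7, 0, 1, 2, 3, 4, 5, 6, 7, 0, 1, 2, 3, 4, 5, 6, 7] =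
    ([5, 4, 7, 6, 5, 4, 3, 2, 1, 3, 4, 5, 6, 0, 2, 3, 1, 4, 3, 5, 4, 2, 0, 3, 2, 1, 3, 7, 6, 5, 4, 3, 1, 2, 3, 0, 2, 5, 6, 4, 5, 3, 4, 2, 1, 3, 4, 5, 7, 6, 5, 4, 3, 1, 2, 3, 4, 5, 0, 2, 3, 4, 1, 3, 2, 7, 6, 5, 4, 3, 1, 7, 6, 5, 4, 2, 3, 0, 2, 3, 4, 1, 3, 2],
     [6, 2, 3, 1, 4, 3, 2, 0, 5, 4, 3, 1, 2, 3, 4, 5, 6, 7, 4, 3, 2, 0, 5, 4, 3, 1, 2, 3, 4, 5, 6, 7, 4, 5, 6, 7, 0, 1, 2, 3, 4, 5, 6, 7, 0, 1, 2, 3, 4, 5, 6, 7, 0, 1, 2, 3, 4, 5, 6, 7, 0, 1, 2, 3, 4, 5, 6, 7, 0, 1, 2, 3, 4, 5, 6, 7, 0, 1, 2, 3, 4, 5, 6, 7, 0, 1, 2, 3, 4, 5, 6, 7, 0, 1, 2, 3, 4, 5, 6, 7, 0, 1, 2, 3, 4, 5, 6, 7, 0, 1, 2, 3, 4, 5, 6, 7, 0, 1, 2, 3, 4, 5, 6, 7, 0, 1, 2, 3, 4, 5, 6, 7, 0, 1, 2, 3, 4, 5, 6, 7, 0, 1, 2, 3, 4,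 5, 6, 7]) := by decide +kernel

set_option maxRecDepth 1000000 in
theorem chunk10 : exec (Mt CoxeterMatrix.E₈) [Op.L, Op.L, Op.L, Op.L, Op.L, Op.L, Op.L, Op.L, Op.L, Op.L, Op.L, Op.L, Op.L, Op.L, Op.L, Op.L, Op.L, Op.L, Op.L, Op.L, Op.L, Op.L, Op.B2, Op.R, Op.B2, Op.L, Op.L, Op.L, Op.B2, Op.L, Op.L, Op.L, Op.L, Op.L, Op.L, Op.L, Op.L, Op.L, Op.L, Op.L, Op.L, Op.L, Op.L, Op.B2, Op.R, Op.B2, Op.R, Op.B2, Op.R, Op.B2, Op.R, Op.B2, Op.R, Op.B2, Op.R, Op.B3, Op.R, Op.R, Op.B2, Op.R, Op.B2, Op.L, Op.L, Op.L, Op.L, Op.L, Op.L, Op.L, Op.L, Op.L, Op.L, Op.L, Op.B2, Op.R, Op.B2, Op.R, Op.B2, Op.L, Op.L, Op.L, Op.L, Op.B2, Op.R, Op.B2, Op.L, Op.L, Op.L, Op.B2, Op.R, Op.B2, Op.R, Op.B2, Op.R, Op.B3, Op.R,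 Op.R, Op.B2, Op.R, Op.B3, Op.R, Op.R, Op.B2, Op.R, Op.B2, Op.R, Op.B3, Op.R, Op.R, Op.B2, Op.R, Op.B2, Op.R, Op.B2, Op.R, Op.B3, Op.R, Op.R, Op.B2, Op.R, Op.B2, Op.R, Op.B2, Op.R, Op.B3, Op.R, Op.R, Op.B2, Op.R, Op.B3, Op.R, Op.R, Op.B2, Op.R, Op.B2, Op.R, Op.B3, Op.R, Op.R, Op.B2, Op.R, Op.B2, Op.R, Op.B2, Op.R, Op.B3, Op.R, Op.R, Op.B2, Op.R, Op.B2, Op.R, Op.B3, Op.R, Op.R, Op.B2, Op.R, Op.B2, Op.R, Op.B2, Op.L, Op.L, Op.L, Op.L, Op.L, Op.L, Op.L, Op.L, Op.L, Op.L, Op.L, Op.L, Op.L, Op.L, Op.L, Op.B2, Op.L, Op.L, Op.L, Op.L, Op.L, Op.L, Op.L, Op.L, Op.B2, Op.R, Op.B2, Op.L, Op.L, Op.L, Op.L, Op.L, Op.L, Op.L, Op.L, Op.L, Op.L, Op.B2, Op.L, Op.L, Op.L, Op.L, Op.L, Op.L, Op.L, Op.L, Op.L,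 Op.B2, Op.R, Op.B2, Op.R, Op.B2, Op.L, Op.L, Op.L, Op.L, Op.B3, Op.R, Op.R, Op.B2, Op.R, Op.B2, Op.R, Op.B3, Op.R, Op.R, Op.B2, Op.R, Op.B2, Op.R, Op.B2, Op.R, Op.B3, Op.R, Op.R, Op.B3, Op.R, Op.R, Op.B2, Op.R, Op.B2, Op.R, Op.B2, Op.R, Op.B2, Op.R, Op.B2, Op.R, Op.B3, Op.R, Op.R, Op.B2, Op.R, Op.B3, Op.R, Op.R, Op.B2, Op.R, Op.B2, Op.R, Op.B2, Op.R, Op.B3, Op.R, Op.R, Op.B3, Op.R, Op.R, Op.B2, Op.R, Op.B2, Op.R, Op.B2, Op.R, Op.B3, Op.R, Op.R, Op.B2, Op.R, Op.B2, Op.R, Op.B2, Op.R, Op.B2, Op.R, Op.B3, Op.R, Op.R, Op.B2, Op.R, Op.B2, Op.R, Op.B3, Op.R, Op.R, Op.B2, Op.R, Op.B2, Op.R, Op.B3, Op.R, Op.R, Op.B2, Op.R, Op.B2, Op.R, Op.B3, Op.R, Op.R, Op.B2, Op.R, Op.B2, Op.R, Op.B3, Op.R, Op.R,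 Op.B2, Op.R, Op.B2, Op.R, Op.B3, Op.R, Op.R, Op.B2, Op.R, Op.B2, Op.R, Op.B2, Op.R, Op.B3, Op.R, Op.R, Op.B2, Op.R, Op.B2, Op.R, Op.B3, Op.R, Op.R, Op.B2, Op.R, Op.B2, Op.R, Op.B2, Op.R, Op.B2, Op.R, Op.B3, Op.R, Op.R, Op.B2, Op.R, Op.B2, Op.R, Op.C, Op.L, Op.L, Op.L, Op.L, Op.L, Op.L, Op.L, Op.L, Op.L, Op.L, Op.L, Op.L, Op.L, Op.L, Op.L, Op.L, Op.L, Op.L, Op.L, Op.L, Op.L, Op.L, Op.L, Op.L, Op.L, Op.L, Op.L, Op.L, Op.L, Op.L, Op.L, Op.L, Op.L, Op.L, Op.L, Op.L, Op.B2, Op.R, Op.B2, Op.R, Op.B2, Op.L, Op.L, Op.L, Op.B2, Op.R, Op.B2, Op.L, Op.L, Op.B2, Op.L, Op.L, Op.B3, Op.R, Op.R, Op.B3, Op.R, Op.R, Op.B3, Op.R, Op.R, Op.B3, Op.R, Op.R, Op.B2, Op.R, Op.B2, Op.R, Op.B2, Op.R, Op.B2, Op.R, Op.B2,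 Op.R, Op.B2, Op.R, Op.B2, Op.R, Op.B2, Op.R, Op.B2, Op.R, Op.B2, Op.R, Op.B2, Op.R, Op.B2, Op.R, Op.B2, Op.R, Op.B2, Op.R, Op.B2, Op.R, Op.B3, Op.R, Op.R, Op.B2, Op.R, Op.B2, Op.R, Op.B2, Op.R, Op.B2, Op.L, Op.L, Op.L, Op.L, Op.L, Op.L, Op.L, Op.L, Op.L, Op.L, Op.L, Op.L, Op.L, Op.L, Op.L, Op.L, Op.L, Op.L, Op.L, Op.L, Op.L, Op.B2, Op.R, Op.B2, Op.R, Op.B2, Op.R, Op.B2, Op.R, Op.B2, Op.R, Op.B2, Op.R, Op.B2, Op.L, Op.L, Op.L, Op.L, Op.L, Op.L, Op.L, Op.L, Op.B2, Op.R, Op.B2, Op.R, Op.B2, Op.R, Op.B2, Op.L, Op.L, Op.L, Op.L, Op.L, Op.B2, Op.R, Op.B2, Op.R, Op.B2, Op.L, Op.L, Op.L, Op.L, Op.B2, Op.R, Op.B2, Op.R, Op.B2, Op.L, Op.L, Op.L, Op.L, Op.B2, Op.R, Op.B2, Op.R, Op.B2, Op.R, Op.B2, Op.R,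 Op.B3, Op.R, Op.R, Op.B3, Op.R, Op.R, Op.B2, Op.R, Op.B3, Op.R, Op.R, Op.B2, Op.R, Op.B2, Op.R, Op.B2, Op.R, Op.B3, Op.R, Op.R, Op.B2, Op.R, Op.B2, Op.R, Op.B2, Op.R, Op.B2, Op.R, Op.B2, Op.R, Op.B2, Op.R, Op.B3, Op.R, Op.R, Op.B2, Op.L, Op.L, Op.L, Op.L, Op.L, Op.L, Op.L, Op.L, Op.L, Op.L, Op.L, Op.L, Op.L, Op.L, Op.L, Op.L, Op.L, Op.L, Op.L, Op.L, Op.L, Op.L, Op.L, Op.L, Op.L, Op.B2, Op.R, Op.B2, Op.R, Op.B2, Op.R, Op.B2, Op.L, Op.L, Op.L, Op.L, Op.L, Op.B3, Op.R, Op.R, Op.B2, Op.R, Op.B2, Op.R, Op.B2, Op.R, Op.B3, Op.R, Op.R, Op.B2, Op.R, Op.B2, Op.R, Op.B3, Op.R, Op.R, Op.B2, Op.R, Op.B3, Op.R, Op.R, Op.B2, Op.R, Op.B2, Op.R, Op.B2, Op.R, Op.B3, Op.R, Op.R, Op.B2, Op.R, Op.B2, Op.R, Op.B2,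 Op.R, Op.B2, Op.R, Op.B3, Op.R, Op.R, Op.B2, Op.R, Op.B2, Op.R, Op.B3, Op.R, Op.R, Op.B2, Op.R, Op.B2, Op.R, Op.B2, Op.R, Op.B3, Op.R, Op.R, Op.B2, Op.R, Op.B2, Op.R, Op.B2, Op.R, Op.B2, Op.R, Op.B2, Op.R, Op.B2, Op.R, Op.B3, Op.R, Op.R, Op.B2, Op.R, Op.C, Op.L, Op.L, Op.L, Op.L, Op.L, Op.L, Op.L, Op.L, Op.L, Op.L, Op.L, Op.L, Op.L, Op.L, Op.L, Op.L, Op.L, Op.B2, Op.R, Op.B2, Op.R, Op.B2, Op.R, Op.B2, Op.R, Op.B2, Op.L, Op.L, Op.L, Op.L, Op.L, Op.L, Op.B3, Op.R, Op.R, Op.B2, Op.R, Op.B2, Op.R, Op.B2, Op.R, Op.B2, Op.R, Op.B3, Op.R, Op.R, Op.B2, Op.R, Op.B2, Op.R, Op.B2, Op.R, Op.B2, Op.R, Op.B2, Op.R, Op.B2, Op.R, Op.B2, Op.R, Op.B2, Op.R, Op.B3, Op.R, Op.R, Op.C, Op.L, Op.C, Op.L, Op.L, Op.L,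 Op.L, Op.L, Op.L, Op.L, Op.L, Op.L, Op.L, Op.L, Op.L, Op.B2, Op.R, Op.B2, Op.R, Op.B2, Op.R, Op.B2, Op.R, Op.B2, Op.R, Op.B2, Op.L, Op.L, Op.L, Op.L, Op.L, Op.L, Op.B2, Op.R, Op.B2, Op.R, Op.B2, Op.R, Op.B2, Op.L, Op.L, Op.L, Op.L, Op.B2, Op.R, Op.B2, Op.R, Op.B2, Op.L, Op.L, Op.L, Op.B2, Op.R, Op.B2, Op.L, Op.L, Op.B2, Op.L, Op.L, Op.L, Op.L, Op.L, Op.L, Op.L, Op.L, Op.L, Op.L, Op.L, Op.L, Op.L, Op.L, Op.L, Op.L, Op.L, Op.L, Op.L, Op.L, Op.L, Op.B2, Op.R, Op.B2, Op.R, Op.B2, Op.R, Op.B2, Op.R, Op.B2, Op.R, Op.B2, Op.R, Op.B2, Op.R, Op.B2, Op.R, Op.B2, Op.R, Op.B2, Op.R, Op.B2, Op.L, Op.L, Op.L, Op.L, Op.L, Op.L, Op.L, Op.L, Op.L, Op.L, Op.L, Op.B2, Op.R, Op.B2, Op.R, Op.B2, Op.R, Op.B2, Op.R,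 Op.B2, Op.R, Op.B2, Op.L, Op.L, Op.L, Op.L, Op.L, Op.L, Op.B2, Op.R, Op.B2, Op.R, Op.B2, Op.L, Op.L, Op.L, Op.B2, Op.L, Op.L, Op.L, Op.L, Op.L, Op.L, Op.L, Op.L, Op.B2, Op.L, Op.L, Op.L, Op.L, Op.L, Op.L, Op.L, Op.L, Op.L, Op.L, Op.L, Op.L, Op.L, Op.L, Op.L, Op.L, Op.L, Op.L, Op.L, Op.L, Op.L, Op.L, Op.L, Op.L, Op.B2, Op.R, Op.B2, Op.R, Op.B2, Op.R, Op.B2, Op.R, Op.B2, Op.R, Op.B2, Op.R, Op.B2, Op.R, Op.B2, Op.R, Op.B2, Op.R, Op.B2, Op.R, Op.B3, Op.R, Op.R, Op.B2, Op.L, Op.L, Op.L, Op.L, Op.L, Op.L, Op.L, Op.L, Op.L, Op.L, Op.L, Op.L, Op.L, Op.B2, Op.R, Op.B2, Op.R, Op.B2, Op.R, Op.B2, Op.L, Op.L, Op.L, Op.L, Op.B2, Op.L, Op.L, Op.L, Op.L, Op.L, Op.L, Op.L, Op.L, Op.L, Op.L, Op.L, Op.L, Op.L,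 Op.L, Op.L, Op.L, Op.L, Op.L, Op.L, Op.L, Op.L, Op.L, Op.L, Op.L, Op.L, Op.L, Op.L, Op.L]
    [5, 4, 7, 6, 5, 4, 3, 2, 1, 3, 4, 5, 6, 0, 2, 3, 1, 4, 3, 5, 4, 2, 0, 3, 2, 1, 3, 7, 6, 5, 4, 3, 1, 2, 3, 0, 2, 5, 6, 4, 5, 3, 4, 2, 1, 3, 4, 5, 7, 6, 5, 4, 3, 1, 2, 3, 4, 5, 0, 2, 3, 4, 1, 3, 2, 7, 6, 5, 4, 3, 1, 7, 6, 5, 4, 2, 3, 0, 2, 3, 4, 1, 3, 2]
    [6, 2, 3, 1, 4, 3, 2, 0, 5, 4, 3, 1, 2, 3, 4, 5, 6, 7, 4, 3, 2, 0, 5, 4, 3, 1, 2, 3, 4, 5, 6, 7, 4, 5, 6, 7, 0, 1, 2, 3, 4, 5, 6, 7, 0, 1, 2, 3, 4, 5, 6, 7, 0, 1, 2, 3, 4, 5, 6, 7, 0, 1, 2, 3, 4, 5, 6, 7, 0, 1, 2, 3, 4, 5, 6, 7, 0, 1, 2, 3, 4, 5, 6, 7, 0, 1, 2, 3, 4, 5, 6, 7, 0, 1, 2, 3, 4, 5, 6, 7, 0, 1, 2, 3, 4, 5, 6, 7, 0, 1, 2, 3, 4, 5, 6, 7,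 0, 1, 2, 3, 4, 5, 6, 7, 0, 1, 2, 3, 4, 5, 6, 7, 0, 1, 2, 3, 4, 5, 6, 7, 0, 1, 2, 3, 4, 5, 6, 7] =
    ([4, 2, 3, 0, 2, 3, 4, 1, 3, 2],
     [5, 6, 7, 1, 3, 4, 5, 6, 7, 2, 3, 1, 4, 3, 2, 0, 5, 4, 3, 2, 1, 3, 4, 5, 6, 7, 5, 3, 1, 4, 3, 2, 0, 5, 4, 3, 1, 2, 3, 4, 5, 6, 7, 5, 4, 3, 2, 0, 1, 3, 4, 5, 2, 3, 4, 1, 3, 2, 0, 6, 5, 3, 1, 4, 3, 2, 5, 4, 3, 1, 6, 5, 4, 3, 2, 0, 7, 6, 5, 4, 3, 1, 2, 3, 4, 6, 7, 5, 6, 4, 5, 3, 4, 2, 3, 1, 0, 2, 3, 4, 5, 6, 0, 1, 2, 3, 4, 5, 6, 7, 0, 1, 2, 3, 4, 5, 6, 7, 0, 1, 2, 3, 4, 5, 6, 7, 0, 1, 2, 3, 4, 5, 6, 7, 0, 1, 2, 3, 4, 5, 6, 7, 0, 1, 2, 3, 4, 5, 6, 7, 0, 1, 2, 3, 4, 5, 6, 7, 0, 1, 2, 3, 4, 5, 6, 7, 0, 1, 2, 3, 4, 5, 6, 7, 0, 1, 2, 3, 4, 5, 6, 7, 0, 1, 2, 3,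 4, 5, 6, 7, 0, 1, 2, 3, 4, 5, 6, 7, 0, 1, 2, 3, 4, 5, 6, 7, 0, 1, 2, 3, 4, 5, 6, 7]) := by decide +kernel

set_option maxRecDepth 1000000 in
theorem chunk11 : exec (Mt CoxeterMatrix.E₈) [Op.L, Op.L, Op.L, Op.L, Op.B2, Op.L, Op.L, Op.B3, Op.R, Op.R, Op.B3, Op.R, Op.R, Op.B2, Op.R, Op.B2, Op.R, Op.B2, Op.R, Op.B2, Op.R, Op.B2, Op.R, Op.B2, Op.R, Op.B2, Op.R, Op.B2, Op.R, Op.B2, Op.R, Op.B2, Op.L, Op.L, Op.L, Op.L, Op.L, Op.L, Op.L, Op.L, Op.L, Op.L, Op.B2, Op.R, Op.B2, Op.R, Op.B2, Op.R, Op.B2, Op.R, Op.B2, Op.L, Op.L, Op.L, Op.L, Op.L, Op.L, Op.B2, Op.L, Op.L, Op.B2, Op.R, Op.B2, Op.R, Op.B3, Op.R, Op.R, Op.B2, Op.R, Op.B2, Op.R, Op.B2, Op.L, Op.L, Op.L, Op.L, Op.L, Op.L, Op.L, Op.B2, Op.R,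 Op.B2, Op.L, Op.L, Op.L, Op.B3, Op.R, Op.R, Op.B2, Op.R, Op.B3, Op.R, Op.R, Op.B2, Op.R, Op.B2, Op.R, Op.B2, Op.R, Op.B2, Op.R, Op.B3, Op.R, Op.R, Op.B3, Op.R, Op.R, Op.B2, Op.R, Op.B2, Op.R, Op.B2, Op.R, Op.B2, Op.R, Op.B3, Op.R, Op.R, Op.B2, Op.R, Op.B2, Op.R, Op.B2, Op.R, Op.B2, Op.R, Op.B3, Op.R, Op.R, Op.B2, Op.R, Op.B2, Op.R, Op.B3, Op.R, Op.R, Op.B3, Op.R, Op.R, Op.B2, Op.R, Op.B2, Op.R, Op.B2, Op.R, Op.B2, Op.R, Op.B2, Op.R, Op.B3, Op.R, Op.R, Op.B3, Op.R, Op.R, Op.B2, Op.R, Op.B2, Op.R, Op.B3, Op.R, Op.R, Op.B2, Op.R, Op.B2, Op.R, Op.B2, Op.R, Op.B2, Op.R, Op.B3, Op.R, Op.R, Op.B2, Op.R, Op.B2, Op.R, Op.B3, Op.R, Op.R, Op.B2, Op.R, Op.B2, Op.R, Op.B2, Op.R, Op.B2, Op.R, Op.B2, Op.R,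 Op.B3, Op.R, Op.R, Op.B2, Op.R, Op.B3, Op.R, Op.R, Op.B3, Op.R, Op.R, Op.B2, Op.R, Op.B2, Op.R, Op.B2, Op.R, Op.B2, Op.R, Op.B3, Op.R, Op.R, Op.B3, Op.R, Op.R, Op.B2, Op.R, Op.B3, Op.R, Op.R, Op.B2, Op.R, Op.B2, Op.R, Op.B3, Op.R, Op.R, Op.B2, Op.R, Op.B2, Op.R, Op.B2, Op.R, Op.B2, Op.R, Op.B3, Op.R, Op.R, Op.B2, Op.R, Op.B2, Op.R, Op.B2, Op.R, Op.B2, Op.R, Op.B2, Op.R, Op.B2, Op.R, Op.B2, Op.R, Op.B3, Op.R, Op.R, Op.B3, Op.R, Op.R, Op.B3, Op.R, Op.R, Op.B3, Op.R, Op.R, Op.B3, Op.R, Op.R, Op.B2, Op.R, Op.B3, Op.R, Op.R, Op.B2, Op.R, Op.B2, Op.R, Op.B2, Op.R, Op.B2, Op.R, Op.C, Op.L, Op.L, Op.L, Op.L, Op.L, Op.L, Op.L, Op.B2, Op.R, Op.B2, Op.L, Op.L, Op.B2, Op.L, Op.L, Op.L, Op.L, Op.L, Op.L,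 Op.L, Op.L, Op.L, Op.L, Op.L, Op.L, Op.L, Op.L, Op.L, Op.L, Op.L, Op.L, Op.L, Op.B2, Op.R, Op.B2, Op.R, Op.B2, Op.R, Op.B2, Op.R, Op.B2, Op.R, Op.B2, Op.L, Op.L, Op.L, Op.L, Op.L, Op.L, Op.B2, Op.R, Op.B2, Op.R, Op.B2, Op.R, Op.B2, Op.L, Op.L, Op.L, Op.L, Op.B2, Op.R, Op.B2, Op.R, Op.B2, Op.L, Op.L, Op.L, Op.B2, Op.R, Op.B2, Op.L, Op.L, Op.B2, Op.L, Op.L, Op.L, Op.L, Op.L, Op.L, Op.L, Op.L, Op.L, Op.L, Op.L, Op.L, Op.L, Op.L, Op.L, Op.L, Op.L, Op.L, Op.L, Op.L, Op.L, Op.L, Op.L, Op.L, Op.L, Op.L, Op.L, Op.L, Op.L, Op.B2, Op.R, Op.B2, Op.R, Op.B2, Op.R, Op.B2, Op.R, Op.B2, Op.R, Op.B2, Op.R, Op.B2, Op.R, Op.B2, Op.R, Op.B2, Op.R, Op.B2, Op.R, Op.B2, Op.R, Op.B2, Op.R, Op.B2, Op.R, Op.B2, Op.R,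 Op.B2, Op.R, Op.B2, Op.L, Op.L, Op.L, Op.L, Op.L, Op.L, Op.L, Op.L, Op.L, Op.L, Op.L, Op.L, Op.L, Op.L, Op.L, Op.L, Op.L, Op.B3, Op.R, Op.R, Op.B2, Op.R, Op.B2, Op.R, Op.B2, Op.R, Op.B2, Op.R, Op.B2, Op.R, Op.B2, Op.R, Op.B2, Op.L, Op.L, Op.L, Op.L, Op.L, Op.L, Op.L, Op.L, Op.L, Op.B2, Op.R, Op.B3, Op.R, Op.R, Op.B2, Op.R, Op.B2, Op.R, Op.B2, Op.R, Op.B2, Op.R, Op.B2, Op.L, Op.L, Op.L, Op.L, Op.L, Op.L, Op.L, Op.L, Op.B2, Op.R, Op.B2, Op.R, Op.B3, Op.R, Op.R, Op.B2, Op.R, Op.B2, Op.R, Op.B2, Op.L, Op.L, Op.L, Op.L, Op.L, Op.L, Op.L, Op.B2, Op.R, Op.B2, Op.R, Op.B2, Op.R, Op.B3, Op.R, Op.R, Op.B2, Op.L, Op.L, Op.L, Op.L, Op.L, Op.L, Op.B2, Op.R, Op.B2, Op.R, Op.B2, Op.L, Op.L, Op.L, Op.B2,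 Op.R, Op.B2, Op.L, Op.L, Op.B2, Op.L, Op.L, Op.L, Op.L, Op.L, Op.L, Op.L, Op.L, Op.L, Op.L, Op.L, Op.L, Op.L, Op.L, Op.L, Op.L, Op.L, Op.L, Op.L, Op.L, Op.L, Op.L, Op.L, Op.L, Op.L, Op.L, Op.L, Op.B2, Op.R, Op.B2, Op.R, Op.B2, Op.R, Op.B2, Op.R, Op.B2, Op.R, Op.B2, Op.R, Op.B2, Op.R, Op.B2, Op.R, Op.B2, Op.R, Op.B2, Op.R, Op.B2, Op.R, Op.B2, Op.R, Op.B2, Op.R, Op.B2, Op.R, Op.B2, Op.R, Op.B2, Op.R, Op.B3, Op.L, Op.L, Op.L, Op.L, Op.L, Op.L, Op.L, Op.L, Op.L, Op.L, Op.L, Op.L, Op.L, Op.L, Op.L, Op.L, Op.L, Op.B2, Op.R, Op.B2, Op.R, Op.B2, Op.R, Op.B2, Op.R, Op.B2, Op.R, Op.B2, Op.R, Op.B2, Op.R, Op.B2, Op.L, Op.L, Op.L, Op.L, Op.L, Op.L, Op.L, Op.L, Op.B2, Op.R, Op.B2, Op.R, Op.B2, Op.R, Op.B2,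 Op.L, Op.L, Op.L, Op.L, Op.B2, Op.R, Op.B2, Op.L, Op.L, Op.B2, Op.L, Op.L, Op.L, Op.L, Op.L, Op.L, Op.L, Op.L, Op.L, Op.L, Op.B2, Op.R, Op.B2, Op.R, Op.B2, Op.R, Op.B2, Op.R, Op.B2, Op.R, Op.B2, Op.R, Op.B2, Op.R, Op.B2, Op.R, Op.B3, Op.R, Op.R, Op.B3, Op.R, Op.R, Op.B3, Op.R, Op.R, Op.B2, Op.R, Op.B3, Op.R, Op.R, Op.B2, Op.R, Op.B2, Op.R, Op.B2, Op.R, Op.B3, Op.R, Op.R, Op.B2, Op.R, Op.B2, Op.R, Op.B2, Op.R, Op.B2, Op.R, Op.B2, Op.R, Op.B2, Op.R, Op.B3, Op.R, Op.R, Op.B2, Op.R, Op.B3, Op.R, Op.R, Op.B2, Op.R, Op.B2, Op.R, Op.B2, Op.R, Op.B2, Op.R, Op.B2, Op.R, Op.B2, Op.R, Op.B3, Op.R, Op.R, Op.B3, Op.R, Op.R, Op.B3, Op.R, Op.R, Op.B3, Op.R, Op.R, Op.B2, Op.R, Op.B2, Op.R, Op.B3, Op.R, Op.R,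 Op.B3, Op.R, Op.R, Op.B3, Op.R, Op.R, Op.B3, Op.R, Op.R, Op.B2, Op.R, Op.B2, Op.R, Op.B2, Op.R, Op.B2, Op.R, Op.B2, Op.R, Op.B2, Op.R, Op.B2, Op.R, Op.B3, Op.R, Op.R, Op.B2, Op.R, Op.B2, Op.R, Op.B2, Op.R, Op.B2, Op.R, Op.B2, Op.R, Op.B2, Op.R, Op.B2, Op.R, Op.B2, Op.R, Op.B2, Op.R, Op.B2, Op.R, Op.B3, Op.R, Op.R, Op.B3, Op.R, Op.R, Op.B3, Op.R, Op.R, Op.B3, Op.R, Op.R, Op.B3, Op.R, Op.R, Op.B2, Op.R, Op.B3, Op.R, Op.R, Op.B2, Op.R, Op.B2, Op.R, Op.B2, Op.R, Op.B2, Op.R, Op.B2, Op.R, Op.B2, Op.R, Op.B2, Op.R, Op.B2, Op.R, Op.B2, Op.R, Op.B2, Op.R, Op.B3, Op.R, Op.R, Op.B3, Op.R, Op.R, Op.B3, Op.R, Op.R, Op.B2, Op.R, Op.B2, Op.R, Op.B2, Op.R, Op.C, Op.L, Op.L, Op.L, Op.L, Op.L, Op.L, Op.B2,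 Op.L, Op.L, Op.L, Op.L, Op.L, Op.L, Op.L, Op.L, Op.L, Op.L, Op.L, Op.L, Op.L, Op.L, Op.L, Op.L, Op.B2, Op.R, Op.B2, Op.L, Op.L, Op.B2, Op.L, Op.L, Op.L, Op.L, Op.L, Op.L, Op.L, Op.L, Op.L, Op.L, Op.L, Op.L, Op.L, Op.L, Op.L, Op.L, Op.L, Op.L, Op.L, Op.L, Op.L, Op.L, Op.B2, Op.R, Op.B2, Op.R, Op.B2, Op.R, Op.B2, Op.R, Op.B2, Op.R, Op.B2, Op.R, Op.B2, Op.L, Op.L, Op.L, Op.L, Op.L, Op.L, Op.L, Op.B2, Op.R, Op.B2, Op.R, Op.B2, Op.L, Op.L, Op.L, Op.B2, Op.R, Op.B2, Op.R, Op.B2, Op.R, Op.B3, Op.R, Op.R, Op.B2, Op.R, Op.B2, Op.L, Op.L, Op.L, Op.L, Op.L, Op.L, Op.L, Op.B2, Op.R, Op.B2, Op.R, Op.B2, Op.R, Op.B2, Op.R, Op.B3, Op.L, Op.L, Op.L, Op.L, Op.L, Op.B2, Op.R, Op.B2, Op.L, Op.L, Op.L, Op.L,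 Op.B2, Op.R, Op.B2, Op.R, Op.B2, Op.L, Op.L, Op.L, Op.B2, Op.R, Op.B2, Op.L, Op.L, Op.L, Op.L, Op.L, Op.L, Op.L, Op.L, Op.L, Op.L, Op.L, Op.L, Op.L, Op.L, Op.L, Op.L, Op.L, Op.L, Op.L, Op.L, Op.L, Op.L, Op.L]
    [4, 2, 3, 0, 2, 3, 4, 1, 3, 2]
    [5, 6, 7, 1, 3, 4, 5, 6, 7, 2, 3, 1, 4, 3, 2, 0, 5, 4, 3, 2, 1, 3, 4, 5, 6, 7, 5, 3, 1, 4, 3, 2, 0, 5, 4, 3, 1, 2, 3, 4, 5, 6, 7, 5, 4, 3, 2, 0, 1, 3, 4, 5, 2, 3, 4, 1, 3, 2, 0, 6, 5, 3, 1, 4, 3, 2, 5, 4, 3, 1, 6, 5, 4, 3, 2, 0, 7, 6, 5, 4, 3, 1, 2, 3, 4, 6, 7, 5, 6, 4, 5, 3, 4, 2, 3, 1, 0, 2, 3, 4, 5, 6, 0, 1, 2, 3, 4, 5, 6, 7, 0, 1, 2, 3, 4, 5, 6, 7, 0, 1, 2, 3, 4, 5, 6, 7, 0, 1, 2, 3, 4, 5, 6, 7, 0, 1, 2, 3, 4, 5, 6, 7, 0, 1, 2, 3, 4, 5, 6, 7,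 0, 1, 2, 3, 4, 5, 6, 7, 0, 1, 2, 3, 4, 5, 6, 7, 0, 1, 2, 3, 4, 5, 6, 7, 0, 1, 2, 3, 4, 5, 6, 7, 0, 1, 2, 3, 4, 5, 6, 7, 0, 1, 2, 3, 4, 5, 6, 7, 0, 1, 2, 3, 4, 5, 6, 7, 0, 1, 2, 3, 4, 5, 6, 7] =
    ([5, 6, 7, 6, 5, 4, 3, 1, 2, 3, 4, 5, 6, 0, 2, 3, 4, 5, 1, 3, 4, 2, 3, 0, 2, 1, 3, 7, 6, 5, 4, 3, 1, 2, 3],
     [3, 1, 4, 3, 2, 0, 5, 6, 4, 5, 3, 4, 1, 3, 2, 0, 3, 1, 4, 3, 5, 4, 2, 3, 6, 7, 5, 6, 4, 5, 2, 3, 1, 3, 4, 2, 3, 0, 2, 5, 4, 3, 1, 6, 7, 5, 6, 4, 5, 3, 4, 2, 0, 3, 2, 1, 3, 4, 6, 7, 5, 6, 4, 5, 3, 4, 2, 0, 3, 1, 2, 3, 4, 5, 6, 2, 3, 4, 5, 6, 7, 0, 1, 2, 3, 4, 5, 6, 7, 0, 1, 2, 3, 4, 5, 6, 7, 0, 1, 2, 3, 4, 5, 6, 7, 0, 1, 2, 3, 4, 5, 6, 7, 0, 1, 2, 3, 4, 5, 6, 7, 0, 1, 2, 3, 4, 5, 6, 7,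 0, 1, 2, 3, 4, 5, 6, 7, 0, 1, 2, 3, 4, 5, 6, 7, 0, 1, 2, 3, 4, 5, 6, 7, 0, 1, 2, 3, 4, 5, 6, 7, 0, 1, 2, 3, 4, 5, 6, 7, 0, 1, 2, 3, 4, 5, 6, 7, 0, 1, 2, 3, 4, 5, 6, 7]) := by decide +kernel

set_option maxRecDepth 1000000 in
theorem chunk12 : exec (Mt CoxeterMatrix.E₈) [Op.L, Op.L, Op.L, Op.L, Op.B3, Op.R, Op.R, Op.B2, Op.R, Op.B2, Op.R, Op.B2, Op.R, Op.B2, Op.R, Op.B2, Op.R, Op.B2, Op.R, Op.B2, Op.R, Op.B2, Op.L, Op.L, Op.L, Op.L, Op.L, Op.L, Op.L, Op.L, Op.L, Op.L, Op.B2, Op.R, Op.B3, Op.R, Op.R, Op.B2, Op.R, Op.B2, Op.R, Op.B2, Op.R, Op.B2, Op.R, Op.B2, Op.R, Op.B2, Op.L, Op.L, Op.L, Op.L, Op.L, Op.L, Op.B2, Op.R, Op.B2, Op.L, Op.L, Op.L, Op.L, Op.B2, Op.R, Op.B2, Op.L, Op.L, Op.B2, Op.R,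 Op.B2, Op.R, Op.B3, Op.R, Op.R, Op.B2, Op.R, Op.B3, Op.R, Op.R, Op.B2, Op.R, Op.B2, Op.R, Op.B2, Op.R, Op.B3, Op.R, Op.R, Op.B3, Op.R, Op.R, Op.B2, Op.R, Op.B2, Op.R, Op.B2, Op.R, Op.B2, Op.R, Op.B2, Op.R, Op.B2, Op.R, Op.B2, Op.R, Op.B2, Op.R, Op.B2, Op.R, Op.B2, Op.R, Op.B2, Op.R, Op.B2, Op.R, Op.B2, Op.R, Op.B2, Op.R, Op.B2, Op.R, Op.B2, Op.R, Op.B3, Op.R, Op.R, Op.B3, Op.R, Op.R, Op.B3, Op.R, Op.R, Op.B2, Op.L, Op.L, Op.L, Op.L, Op.L, Op.L, Op.L, Op.B2, Op.R, Op.B2, Op.R, Op.B2, Op.R, Op.B2, Op.L, Op.L, Op.L, Op.L, Op.L, Op.B2, Op.R, Op.B2, Op.R, Op.B2, Op.L, Op.L, Op.L, Op.B2, Op.L, Op.L, Op.L, Op.L, Op.L, Op.L, Op.L, Op.L, Op.L, Op.L, Op.L, Op.L, Op.L, Op.B2, Op.L, Op.L, Op.B2, Op.L,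 Op.L, Op.L, Op.L, Op.L, Op.L, Op.L, Op.L, Op.L, Op.L, Op.L, Op.L, Op.B2, Op.R, Op.B2, Op.R, Op.B2, Op.R, Op.B3, Op.R, Op.R, Op.B2, Op.R, Op.B3, Op.R, Op.R, Op.B2, Op.R, Op.B2, Op.R, Op.B2, Op.R, Op.B2, Op.R, Op.B3, Op.R, Op.R, Op.B3, Op.R, Op.R, Op.B2, Op.R, Op.B2, Op.R, Op.B2, Op.R, Op.B2, Op.R, Op.B2, Op.R, Op.B2, Op.R, Op.B2, Op.R, Op.B2, Op.R, Op.B2, Op.R, Op.B2, Op.R, Op.B2, Op.R, Op.B3, Op.R, Op.R, Op.B2, Op.R, Op.B3, Op.R, Op.R, Op.B2, Op.R, Op.B3, Op.R, Op.R, Op.B2, Op.L, Op.L, Op.L, Op.L, Op.L, Op.L, Op.L, Op.L, Op.L, Op.B2, Op.R, Op.B2, Op.R, Op.B2, Op.R, Op.B2, Op.R, Op.B2, Op.R, Op.B2, Op.L, Op.L, Op.L, Op.L, Op.L, Op.L, Op.B2, Op.R, Op.B2, Op.R, Op.B2, Op.L, Op.L, Op.L, Op.L,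 Op.L, Op.L, Op.L, Op.L, Op.L, Op.L, Op.L, Op.L, Op.B2, Op.L, Op.L, Op.B2, Op.L, Op.L, Op.L, Op.L, Op.L, Op.L, Op.L, Op.L, Op.L, Op.L, Op.L, Op.L, Op.L, Op.L, Op.B2, Op.R, Op.B2, Op.R, Op.B2, Op.L, Op.L, Op.L, Op.B2, Op.R, Op.B2, Op.L, Op.L, Op.B2, Op.R, Op.B2, Op.R, Op.B3, Op.R, Op.R, Op.B3, Op.R, Op.R, Op.B2, Op.R, Op.B2, Op.R, Op.B2, Op.R, Op.B3, Op.R, Op.R, Op.B2, Op.R, Op.B2, Op.R, Op.B2, Op.R, Op.B2, Op.R, Op.B2, Op.R, Op.B3, Op.R, Op.R, Op.B3, Op.R, Op.R, Op.B2, Op.R, Op.B2, Op.R, Op.B2, Op.R, Op.B2, Op.R, Op.B2, Op.R, Op.B2, Op.R, Op.B3, Op.R, Op.R, Op.B2, Op.R, Op.B2, Op.R, Op.B3, Op.R, Op.R, Op.B2, Op.R, Op.B2, Op.R, Op.B3, Op.R, Op.R, Op.B2, Op.R, Op.B2, Op.R, Op.B3, Op.R, Op.R,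 Op.B3, Op.R, Op.R, Op.B2, Op.R, Op.B3, Op.R, Op.R, Op.B3, Op.R, Op.R, Op.B3, Op.R, Op.R, Op.B2, Op.R, Op.B2, Op.R, Op.B2, Op.R, Op.B2, Op.R, Op.B2, Op.R, Op.B2, Op.R, Op.B2, Op.R, Op.B2, Op.R, Op.B2, Op.R, Op.B2, Op.R, Op.B2, Op.R, Op.B2, Op.R, Op.B3, Op.R, Op.R, Op.B3, Op.R, Op.R, Op.B3, Op.R, Op.R, Op.B2, Op.R, Op.B2, Op.R, Op.B2, Op.R, Op.B2, Op.R, Op.B2, Op.R, Op.B2, Op.R, Op.B2, Op.L, Op.L, Op.L, Op.L, Op.L, Op.L, Op.L, Op.L, Op.L, Op.L, Op.L, Op.L, Op.L, Op.B2, Op.R, Op.B2, Op.L, Op.L, Op.L, Op.L, Op.L, Op.L, Op.L, Op.L, Op.L, Op.L, Op.L, Op.L, Op.L, Op.B2, Op.R, Op.B2, Op.L, Op.L, Op.L, Op.B2, Op.R, Op.B2, Op.L, Op.L, Op.L, Op.B2, Op.R, Op.B2, Op.L, Op.L, Op.L, Op.L, Op.L, Op.L, Op.L,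 Op.L, Op.B2, Op.R, Op.B2, Op.L, Op.L, Op.L, Op.B3, Op.R, Op.R, Op.B2, Op.R, Op.B3, Op.R, Op.R, Op.B2, Op.R, Op.B2, Op.R, Op.B2, Op.R, Op.B2, Op.R, Op.B2, Op.R, Op.B3, Op.R, Op.R, Op.B3, Op.R, Op.R, Op.B3, Op.R, Op.R, Op.B2, Op.R, Op.B2, Op.R, Op.B2, Op.R, Op.B2, Op.R, Op.B2, Op.R, Op.B2, Op.R, Op.B2, Op.R, Op.B3, Op.R, Op.R, Op.B2, Op.R, Op.B3, Op.R, Op.R, Op.B2, Op.R, Op.B2, Op.R, Op.B3, Op.R, Op.R, Op.B2, Op.R, Op.B2, Op.R, Op.B2, Op.R, Op.B2, Op.L, Op.L, Op.L, Op.L, Op.B2, Op.R, Op.B2, Op.L, Op.L, Op.L, Op.L, Op.L, Op.L, Op.L, Op.L, Op.L, Op.L, Op.B2, Op.R, Op.B2, Op.R, Op.B2, Op.L, Op.L, Op.L, Op.L, Op.L, Op.L, Op.L, Op.L, Op.L, Op.L, Op.L, Op.L, Op.L, Op.L, Op.L, Op.L, Op.L, Op.L, Op.L,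 Op.B3, Op.R, Op.R, Op.B2, Op.R, Op.B2, Op.R, Op.B2, Op.R, Op.B2, Op.L, Op.L, Op.L, Op.L, Op.L, Op.L, Op.L, Op.L, Op.B2, Op.R, Op.B2, Op.R, Op.B2, Op.R, Op.B3, Op.R, Op.R, Op.B2, Op.L, Op.L, Op.L, Op.L, Op.B2, Op.L, Op.L, Op.B2, Op.L, Op.L, Op.L, Op.L, Op.L, Op.L, Op.L, Op.L, Op.L, Op.L, Op.L, Op.B2, Op.R, Op.B2, Op.R, Op.B2, Op.R, Op.B2, Op.L, Op.L, Op.L, Op.L, Op.L, Op.L, Op.L, Op.L, Op.L, Op.B2, Op.L, Op.L, Op.B2, Op.L, Op.L, Op.L, Op.L, Op.L, Op.L, Op.L, Op.L, Op.L, Op.L, Op.L, Op.B2, Op.R, Op.B2, Op.L, Op.L, Op.B2, Op.L, Op.L, Op.B2, Op.L, Op.L, Op.L, Op.L, Op.B2, Op.L, Op.L, Op.L, Op.L, Op.L, Op.L, Op.L, Op.L, Op.L, Op.L, Op.L, Op.L, Op.L, Op.L, Op.L, Op.L, Op.B2, Op.R, Op.B2, Op.R, Op.B2,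 Op.R, Op.B2, Op.R, Op.B2, Op.R, Op.B2, Op.R, Op.B2, Op.R, Op.B2, Op.R, Op.B2, Op.R, Op.B2, Op.R, Op.B2, Op.R, Op.B2, Op.R, Op.B2, Op.R, Op.B2, Op.R, Op.B3, Op.R, Op.R, Op.B3, Op.R, Op.R, Op.B2, Op.R, Op.B2, Op.R, Op.B3, Op.R, Op.R, Op.B3, Op.R, Op.R, Op.B3, Op.R, Op.R, Op.B2, Op.R, Op.B2, Op.R, Op.B2, Op.R, Op.B2, Op.R, Op.B2, Op.R, Op.B2, Op.R, Op.B2, Op.R, Op.B2, Op.R, Op.B3, Op.R, Op.R, Op.B3, Op.R, Op.R, Op.B2, Op.R, Op.B2, Op.R, Op.B3, Op.R, Op.R, Op.B2, Op.R, Op.B2, Op.R, Op.B2, Op.R, Op.B3, Op.R, Op.R, Op.B2, Op.R, Op.B2, Op.R, Op.B2, Op.R, Op.B2, Op.R, Op.B2, Op.R, Op.B2, Op.R, Op.B3, Op.R, Op.R, Op.B3, Op.R, Op.R, Op.B2, Op.R, Op.B2, Op.R, Op.B3, Op.R, Op.R, Op.B2, Op.R, Op.B3, Op.R,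 Op.R, Op.B2, Op.R, Op.B2, Op.R, Op.B3, Op.R, Op.R, Op.B2, Op.R, Op.B2, Op.R, Op.B2, Op.R, Op.B2, Op.R, Op.B3, Op.R, Op.R, Op.B2, Op.R, Op.B2, Op.R, Op.B3, Op.R, Op.R, Op.B2, Op.R, Op.B2, Op.R, Op.B2, Op.R, Op.B2, Op.L, Op.L, Op.L, Op.L, Op.L, Op.L, Op.L, Op.L, Op.L, Op.L, Op.B2, Op.R, Op.B2, Op.R, Op.B2, Op.R, Op.B2, Op.L, Op.L, Op.L, Op.L, Op.L, Op.L, Op.L, Op.L, Op.L, Op.L, Op.B2, Op.L, Op.L, Op.L, Op.L, Op.L, Op.L, Op.L, Op.L, Op.L, Op.L, Op.L, Op.L, Op.L, Op.L, Op.L, Op.L, Op.L, Op.L, Op.L, Op.L, Op.L, Op.L, Op.L, Op.L, Op.L, Op.B2, Op.R, Op.B2, Op.R, Op.B2, Op.R, Op.B2, Op.R, Op.B2, Op.R, Op.B2, Op.R, Op.B2, Op.R, Op.B2, Op.R, Op.B2, Op.R, Op.B2, Op.L, Op.L, Op.L, Op.L, Op.L, Op.L, Op.L,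 Op.L, Op.L, Op.L, Op.L, Op.B3, Op.R, Op.R, Op.B2, Op.R, Op.B2, Op.R, Op.B2, Op.R, Op.B2, Op.R, Op.B2, Op.L, Op.L, Op.L, Op.L, Op.L, Op.L, Op.L, Op.B2, Op.R, Op.B3, Op.R, Op.R, Op.B2, Op.R, Op.B2, Op.R, Op.B2, Op.L, Op.L, Op.L, Op.L, Op.L, Op.L, Op.B2, Op.L, Op.L, Op.L, Op.L, Op.L, Op.L]
    [5, 6, 7, 6, 5, 4, 3, 1, 2, 3, 4, 5, 6, 0, 2, 3, 4, 5, 1, 3, 4, 2, 3, 0, 2, 1, 3, 7, 6, 5, 4, 3, 1, 2, 3]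
    [3, 1, 4, 3, 2, 0, 5, 6, 4, 5, 3, 4, 1, 3, 2, 0, 3, 1, 4, 3, 5, 4, 2, 3, 6, 7, 5, 6, 4, 5, 2, 3, 1, 3, 4, 2, 3, 0, 2, 5, 4, 3, 1, 6, 7, 5, 6, 4, 5, 3, 4, 2, 0, 3, 2, 1, 3, 4, 6, 7, 5, 6, 4, 5, 3, 4, 2, 0, 3, 1, 2, 3, 4, 5, 6, 2, 3, 4, 5, 6, 7, 0, 1, 2, 3, 4, 5, 6, 7, 0, 1, 2, 3, 4, 5, 6, 7, 0, 1, 2, 3, 4, 5, 6, 7, 0, 1, 2, 3, 4, 5, 6, 7, 0, 1, 2, 3, 4, 5, 6, 7, 0, 1, 2, 3, 4, 5, 6, 7, 0, 1, 2, 3, 4, 5, 6, 7, 0, 1, 2, 3, 4, 5, 6, 7, 0, 1, 2, 3, 4, 5, 6, 7, 0, 1, 2, 3, 4, 5, 6, 7, 0, 1, 2, 3, 4, 5, 6, 7, 0, 1, 2, 3, 4, 5, 6, 7, 0, 1, 2, 3, 4, 5, 6, 7] =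
    ([6, 0, 2, 3, 1, 4, 3, 5, 4, 2, 3, 6, 5, 7, 6, 0, 2, 3, 4, 5, 1, 3, 4, 2, 3, 0, 2, 1, 3, 6, 5, 4, 3, 1, 2, 3],
     [7, 5, 6, 4, 5, 3, 2, 1, 3, 4, 5, 6, 7, 3, 1, 2, 3, 4, 5, 6, 0, 2, 4, 5, 3, 1, 4, 3, 2, 0, 3, 4, 5, 1, 3, 2, 4, 3, 1, 6, 7, 5, 4, 3, 2, 0, 6, 5, 4, 3, 2, 1, 3, 5, 6, 7, 4, 5, 6, 3, 4, 5, 1, 3, 4, 2, 0, 3, 1, 2, 3, 4, 5, 6, 2, 3, 4, 5, 6, 7, 0, 1, 2, 3, 4, 5, 6, 7, 0, 1, 2, 3, 4, 5, 6, 7, 0, 1, 2, 3, 4, 5, 6, 7, 0, 1, 2, 3, 4, 5, 6, 7, 0, 1, 2, 3, 4, 5, 6, 7, 0, 1, 2, 3, 4, 5, 6, 7, 0, 1, 2, 3, 4, 5, 6, 7, 0, 1, 2, 3, 4, 5, 6, 7, 0, 1, 2, 3, 4, 5, 6, 7, 0, 1, 2, 3, 4, 5, 6, 7, 0, 1, 2, 3, 4, 5, 6, 7, 0, 1, 2, 3, 4, 5, 6, 7, 0, 1, 2, 3, 4, 5, 6, 7]) := by decide +kernel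

set_option maxRecDepth 1000000 in
theorem chunk13 : exec (Mt CoxeterMatrix.E₈) [Op.L, Op.L, Op.L, Op.L, Op.L, Op.L, Op.L, Op.L, Op.L, Op.L, Op.L, Op.L, Op.L, Op.L, Op.L, Op.L, Op.B2, Op.R, Op.B2, Op.R, Op.B2, Op.R, Op.B2, Op.R, Op.B2, Op.L, Op.L, Op.L, Op.L, Op.L, Op.B2, Op.R, Op.B2, Op.R, Op.B2, Op.R, Op.B2, Op.L, Op.L, Op.L, Op.L, Op.B2, Op.R, Op.B2, Op.R, Op.B2, Op.R, Op.B2, Op.R, Op.B3, Op.R, Op.R, Op.B3, Op.R, Op.R, Op.B2, Op.R, Op.B2, Op.R, Op.B2, Op.R, Op.B2, Op.R, Op.B2, Op.R, Op.B2, Op.R, Op.B3, Op.R, Op.R, Op.B2, Op.R, Op.B2, Op.R, Op.B2, Op.R, Op.B2, Op.R, Op.B2, Op.R, Op.B2, Op.R, Op.B3, Op.R, Op.R, Op.B3, Op.R, Op.R, Op.B2, Op.R, Op.B2, Op.R, Op.B2, Op.R, Op.B2, Op.R, Op.B3,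 Op.R, Op.R, Op.B3, Op.R, Op.R, Op.B2, Op.R, Op.B2, Op.R, Op.B2, Op.R, Op.B3, Op.R, Op.R, Op.B2, Op.R, Op.B2, Op.R, Op.B2, Op.R, Op.B2, Op.R, Op.B2, Op.R, Op.B2, Op.R, Op.B3, Op.L, Op.L, Op.L, Op.L, Op.L, Op.L, Op.L, Op.B2, Op.R, Op.B2, Op.L, Op.L, Op.L, Op.L, Op.L, Op.L, Op.L, Op.L, Op.L, Op.L, Op.L, Op.L, Op.L, Op.L, Op.L, Op.L, Op.L, Op.L, Op.B2, Op.R, Op.B2, Op.R, Op.B2, Op.R, Op.B2, Op.R, Op.B3, Op.R, Op.R, Op.B2, Op.R, Op.B2, Op.L, Op.L, Op.L, Op.L, Op.L, Op.L, Op.L, Op.L, Op.L, Op.L, Op.L, Op.L, Op.L, Op.L, Op.L, Op.L, Op.L, Op.L, Op.L, Op.L, Op.L, Op.B2, Op.R, Op.B2, Op.L, Op.L, Op.L, Op.B2, Op.L, Op.L, Op.L, Op.L, Op.L, Op.L, Op.B2, Op.R, Op.B2, Op.L, Op.L, Op.L, Op.L, Op.L, Op.L,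 Op.L, Op.L, Op.L, Op.L, Op.L, Op.L, Op.B2, Op.R, Op.B2, Op.R, Op.B2, Op.R, Op.B2, Op.R, Op.B2, Op.R, Op.B2, Op.R, Op.B2, Op.R, Op.B2, Op.R, Op.B2, Op.R, Op.B3, Op.R, Op.R, Op.B2, Op.R, Op.B3, Op.R, Op.R, Op.B2, Op.R, Op.B2, Op.R, Op.B2, Op.R, Op.B3, Op.R, Op.R, Op.B2, Op.R, Op.B3, Op.R, Op.R, Op.B2, Op.R, Op.B2, Op.R, Op.B3, Op.R, Op.R, Op.B2, Op.R, Op.B2, Op.R, Op.B2, Op.R, Op.B2, Op.R, Op.B2, Op.R, Op.B3, Op.R, Op.R, Op.B2, Op.R, Op.B2, Op.R, Op.B3, Op.R, Op.R, Op.B2, Op.R, Op.B2, Op.R, Op.B2, Op.R, Op.B3, Op.R, Op.R, Op.B2, Op.R, Op.B2, Op.R, Op.B3, Op.R, Op.R, Op.B2, Op.R, Op.B2, Op.R, Op.B2, Op.L, Op.L, Op.L, Op.L, Op.L, Op.L, Op.L, Op.L, Op.L, Op.L, Op.L, Op.L, Op.L, Op.L, Op.L, Op.L,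 Op.L, Op.L, Op.B2, Op.R, Op.B2, Op.R, Op.B2, Op.R, Op.B2, Op.R, Op.B2, Op.R, Op.B2, Op.R, Op.B3, Op.R, Op.R, Op.B2, Op.L, Op.L, Op.L, Op.L, Op.L, Op.L, Op.L, Op.L, Op.L, Op.L, Op.L, Op.L, Op.L, Op.L, Op.L, Op.L, Op.B2, Op.L, Op.L, Op.L, Op.L, Op.L, Op.L, Op.L, Op.L, Op.L, Op.L, Op.L, Op.L, Op.L, Op.L, Op.B2, Op.R, Op.B2, Op.R, Op.B2, Op.R, Op.B2, Op.R, Op.B2, Op.R, Op.B2, Op.R, Op.B2, Op.R, Op.B2, Op.L, Op.L, Op.L, Op.L, Op.L, Op.L, Op.L, Op.L, Op.B2, Op.R, Op.B2, Op.R, Op.B2, Op.L, Op.L, Op.L, Op.L, Op.L, Op.L, Op.L, Op.L, Op.L, Op.L, Op.B2, Op.R, Op.B2, Op.R, Op.B2, Op.R, Op.B2, Op.R, Op.B2, Op.R, Op.B2, Op.R, Op.B3, Op.R, Op.R, Op.B2, Op.R, Op.B2, Op.R, Op.B3, Op.R, Op.R, Op.B2, Op.R, Op.B2,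 Op.L, Op.L, Op.L, Op.L, Op.L, Op.L, Op.L, Op.L, Op.B2, Op.R, Op.B2, Op.R, Op.B2, Op.R, Op.B2, Op.L, Op.L, Op.L, Op.L, Op.L, Op.L, Op.L, Op.L, Op.L, Op.L, Op.B3, Op.R, Op.R, Op.B2, Op.R, Op.B2, Op.R, Op.B2, Op.R, Op.B3, Op.R, Op.R, Op.B2, Op.R, Op.B2, Op.R, Op.B2, Op.R, Op.B3, Op.R, Op.R, Op.B2, Op.R, Op.B2, Op.R, Op.B2, Op.R, Op.B3, Op.R, Op.R, Op.B2, Op.R, Op.B3, Op.R, Op.R, Op.B2, Op.R, Op.B2, Op.R, Op.B2, Op.R, Op.B3, Op.R, Op.R, Op.B3, Op.R, Op.R, Op.B2, Op.R, Op.B2, Op.R, Op.B2, Op.R, Op.B2, Op.R, Op.B3, Op.R, Op.R, Op.B2, Op.R, Op.B2, Op.R, Op.B2, Op.R, Op.B2, Op.R, Op.B3, Op.R, Op.R, Op.B2, Op.R, Op.B2, Op.R, Op.B3, Op.R, Op.R, Op.B2, Op.R, Op.B2, Op.R, Op.B2, Op.R, Op.B2, Op.R, Op.B3,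 Op.R, Op.R, Op.B2, Op.R, Op.B2, Op.R, Op.B3, Op.R, Op.R, Op.B2, Op.R, Op.B3, Op.R, Op.R, Op.B2, Op.R, Op.B2, Op.R, Op.B3, Op.R, Op.R, Op.B2, Op.R, Op.B3, Op.R, Op.R, Op.B2, Op.R, Op.B2, Op.R, Op.B2, Op.R, Op.B3, Op.R, Op.R, Op.B3, Op.R, Op.R, Op.B2, Op.R, Op.B2, Op.R, Op.B2, Op.R, Op.B3, Op.R, Op.R, Op.B2, Op.R, Op.B2, Op.R, Op.B2, Op.R, Op.B3, Op.R, Op.R, Op.B2, Op.R, Op.B2, Op.R, Op.B2, Op.R, Op.B2, Op.R, Op.B2, Op.R, Op.B3, Op.R, Op.R, Op.B2, Op.R, Op.B3, Op.R, Op.R, Op.B2, Op.R, Op.B3, Op.R, Op.R, Op.B2, Op.R, Op.B3, Op.R, Op.R, Op.B2, Op.R, Op.B2, Op.R, Op.B2, Op.R, Op.B3, Op.R, Op.R, Op.B3, Op.R, Op.R, Op.B2, Op.R, Op.B2, Op.R, Op.B2, Op.R, Op.C, Op.L, Op.L, Op.L, Op.L, Op.L, Op.L, Op.L,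 Op.L, Op.L, Op.L, Op.B2, Op.R, Op.B2, Op.L, Op.L, Op.L, Op.L, Op.L, Op.L, Op.L, Op.L, Op.L, Op.L, Op.L, Op.L, Op.L, Op.L, Op.L, Op.B2, Op.L, Op.L, Op.L, Op.L, Op.L, Op.L, Op.L, Op.L, Op.L, Op.L, Op.L, Op.L, Op.B2, Op.R, Op.B2, Op.R, Op.B2, Op.R, Op.B2, Op.L, Op.L, Op.L, Op.L, Op.B2, Op.R, Op.B2, Op.R, Op.B2, Op.L, Op.L, Op.L, Op.B2, Op.R, Op.B2, Op.L, Op.L, Op.L, Op.L, Op.L, Op.B2, Op.R, Op.B2, Op.R, Op.B2, Op.L, Op.L, Op.L, Op.L, Op.L, Op.L, Op.L, Op.L, Op.L, Op.L, Op.L, Op.L, Op.L, Op.L, Op.L, Op.L, Op.L, Op.B2, Op.R, Op.B2, Op.R, Op.B2, Op.L, Op.L, Op.L, Op.B2, Op.R, Op.B2, Op.L, Op.L, Op.B2, Op.L, Op.B2, Op.R, Op.B3, Op.R, Op.R, Op.B3, Op.R, Op.R, Op.B3, Op.R, Op.R, Op.B2, Op.R, Op.B2,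 Op.R, Op.B2, Op.R, Op.B2, Op.R, Op.B2, Op.R, Op.B2, Op.R, Op.B2, Op.R, Op.B2, Op.R, Op.B2, Op.R, Op.B2, Op.R, Op.B2, Op.R, Op.B2, Op.R, Op.B2, Op.R, Op.B3, Op.R, Op.R, Op.B2, Op.R, Op.B3, Op.R, Op.R, Op.B3, Op.R, Op.R, Op.B3, Op.R, Op.R, Op.B2, Op.R, Op.B2, Op.R, Op.B2, Op.R, Op.B2, Op.R, Op.B2, Op.R, Op.B3, Op.R, Op.R, Op.B3, Op.R, Op.R, Op.B2, Op.R, Op.B2, Op.R, Op.B2, Op.R, Op.B2, Op.R, Op.B2, Op.R, Op.B2, Op.L, Op.L, Op.L, Op.L, Op.L, Op.L, Op.B2, Op.R, Op.B2, Op.R, Op.B2, Op.L, Op.L, Op.L, Op.L, Op.L, Op.L, Op.L, Op.L, Op.L, Op.L, Op.L, Op.L, Op.L, Op.L, Op.L, Op.L, Op.L, Op.L, Op.L, Op.L, Op.B2, Op.R, Op.B2, Op.R, Op.B2, Op.R, Op.B2, Op.R, Op.B2, Op.L, Op.L, Op.L, Op.L, Op.L, Op.B2,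 Op.R, Op.B2, Op.R, Op.B2, Op.L, Op.L, Op.L, Op.L, Op.B2, Op.L, Op.L, Op.L, Op.L, Op.L, Op.L, Op.L, Op.L, Op.L, Op.L, Op.B2, Op.R, Op.B2, Op.R, Op.B2, Op.L, Op.L, Op.L, Op.L, Op.B2, Op.R, Op.B2, Op.L, Op.L, Op.L, Op.B2, Op.R, Op.B2, Op.L, Op.L, Op.L, Op.L, Op.L, Op.L, Op.L, Op.L, Op.L, Op.L, Op.L, Op.L, Op.L, Op.L, Op.L, Op.L, Op.L, Op.L, Op.L, Op.L, Op.L, Op.B2, Op.R, Op.B2, Op.R, Op.B2, Op.R, Op.B2, Op.R, Op.B2, Op.L, Op.L, Op.L, Op.L, Op.L, Op.B2, Op.R, Op.B2, Op.R, Op.B2, Op.R, Op.B2, Op.L, Op.L, Op.L, Op.L, Op.B2, Op.R, Op.B2, Op.R, Op.B2, Op.L, Op.L, Op.L, Op.B2, Op.R, Op.B2, Op.L, Op.L, Op.L, Op.L, Op.L, Op.B2, Op.R, Op.B2, Op.R, Op.B2, Op.L, Op.L, Op.L, Op.L, Op.L, Op.L, Op.L, Op.L,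 Op.L, Op.B2, Op.R, Op.B2, Op.R, Op.B2, Op.R, Op.B2, Op.R, Op.B2, Op.R, Op.B2, Op.R, Op.B2, Op.R]
    [6, 0, 2, 3, 1, 4, 3, 5, 4, 2, 3, 6, 5, 7, 6, 0, 2, 3, 4, 5, 1, 3, 4, 2, 3, 0, 2, 1, 3, 6, 5, 4, 3, 1, 2, 3]
    [7, 5, 6, 4, 5, 3, 2, 1, 3, 4, 5, 6, 7, 3, 1, 2, 3, 4, 5, 6, 0, 2, 4, 5, 3, 1, 4, 3, 2, 0, 3, 4, 5, 1, 3, 2, 4, 3, 1, 6, 7, 5, 4, 3, 2, 0, 6, 5, 4, 3, 2, 1, 3, 5, 6, 7, 4, 5, 6, 3, 4, 5, 1, 3, 4, 2, 0, 3, 1, 2, 3, 4, 5, 6, 2, 3, 4, 5, 6, 7, 0, 1, 2, 3, 4, 5, 6, 7, 0, 1, 2, 3, 4, 5, 6, 7, 0, 1, 2, 3, 4, 5, 6, 7, 0, 1, 2, 3, 4, 5, 6, 7, 0, 1, 2, 3, 4, 5, 6, 7, 0, 1, 2, 3, 4, 5, 6, 7, 0, 1, 2, 3, 4, 5, 6, 7, 0, 1, 2, 3, 4, 5, 6, 7, 0, 1, 2, 3, 4, 5, 6, 7, 0, 1, 2, 3, 4, 5, 6, 7, 0,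 1, 2, 3, 4, 5, 6, 7, 0, 1, 2, 3, 4, 5, 6, 7, 0, 1, 2, 3, 4, 5, 6, 7] =
    ([2, 4, 3, 1, 0, 2, 3, 5, 4, 3, 2, 7, 6, 5, 4, 3, 0, 2, 1, 3, 4, 1, 2, 3],
     [6, 3, 1, 5, 6, 7, 4, 5, 3, 4, 2, 3, 0, 2, 1, 3, 4, 5, 6, 7, 5, 4, 3, 1, 2, 0, 4, 5, 6, 3, 2, 4, 3, 1, 5, 4, 3, 2, 0, 2, 3, 1, 4, 5, 6, 7, 3, 4, 5, 2, 3, 4, 1, 3, 2, 0, 6, 5, 4, 3, 1, 2, 5, 6, 7, 3, 4, 5, 6, 2, 3, 4, 5, 1, 3, 2, 0, 4, 3, 1, 2, 3, 4, 5, 6, 3, 4, 5, 6, 7, 0, 1, 2, 3, 4, 5, 6, 7, 0, 1, 2, 3, 4, 5, 6, 7, 0, 1, 2, 3, 4, 5, 6, 7, 0, 1, 2, 3, 4, 5, 6, 7, 0, 1, 2, 3, 4, 5, 6, 7, 0, 1, 2, 3, 4, 5, 6, 7, 0, 1, 2, 3, 4, 5, 6, 7, 0, 1, 2, 3, 4, 5, 6, 7, 0, 1, 2, 3, 4, 5, 6, 7, 0, 1, 2, 3, 4, 5, 6, 7, 0, 1, 2, 3, 4, 5, 6, 7, 0, 1, 2,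 3, 4, 5, 6, 7, 0, 1, 2, 3, 4, 5, 6, 7]) := by decide +kernel

set_option maxRecDepth 1000000 in
theorem chunk14 : exec (Mt CoxeterMatrix.E₈) [Op.B2, Op.R, Op.B2, Op.R, Op.B3, Op.R, Op.R, Op.B2, Op.R, Op.B3, Op.R, Op.R, Op.B3, Op.R, Op.R, Op.B3, Op.R, Op.R, Op.B3, Op.R, Op.R, Op.B2, Op.R, Op.B2, Op.R, Op.B2, Op.R, Op.B2, Op.R, Op.B2, Op.R, Op.B2, Op.R, Op.B2, Op.R, Op.B2, Op.R, Op.B2, Op.R, Op.B2, Op.R, Op.B3, Op.R, Op.R, Op.B2, Op.R, Op.B2, Op.R, Op.B2, Op.R, Op.B3, Op.R, Op.R, Op.B3, Op.R, Op.R, Op.B2, Op.R, Op.B3, Op.R, Op.R, Op.B2, Op.R, Op.B2, Op.R, Op.B2, Op.R, Op.B2, Op.R, Op.B2, Op.R, Op.B2, Op.R, Op.B3, Op.R, Op.R, Op.B2, Op.R, Op.B2, Op.R, Op.B3, Op.R, Op.R, Op.B2, Op.R, Op.B3, Op.R,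 Op.R, Op.B2, Op.R, Op.B2, Op.R, Op.B3, Op.R, Op.R, Op.B2, Op.R, Op.B2, Op.R, Op.B2, Op.R, Op.B3, Op.R, Op.R, Op.B2, Op.R, Op.B2, Op.L, Op.L, Op.L, Op.L, Op.L, Op.L, Op.L, Op.L, Op.L, Op.L, Op.B2, Op.L, Op.L, Op.L, Op.L, Op.L, Op.L, Op.L, Op.L, Op.L, Op.L, Op.B2, Op.R, Op.B2, Op.R, Op.B2, Op.R, Op.B2, Op.L, Op.L, Op.L, Op.L, Op.L, Op.L, Op.L, Op.L, Op.L, Op.L, Op.L, Op.L, Op.L, Op.L, Op.L, Op.L, Op.L, Op.L, Op.L, Op.L, Op.L, Op.B2, Op.R, Op.B2, Op.R, Op.B2, Op.R, Op.B2, Op.R, Op.B2, Op.L, Op.L, Op.L, Op.L, Op.L, Op.L, Op.L, Op.L, Op.L, Op.L, Op.L, Op.L, Op.L, Op.L, Op.B2, Op.L, Op.L, Op.B2, Op.L, Op.L, Op.L, Op.L, Op.L, Op.L, Op.L, Op.L, Op.L, Op.B2, Op.R, Op.B2, Op.R, Op.B2, Op.R, Op.B2, Op.R,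 Op.B2, Op.L, Op.L, Op.L, Op.L, Op.L, Op.B2, Op.R, Op.B2, Op.R, Op.B2, Op.L, Op.L, Op.L, Op.L, Op.B2, Op.L, Op.L, Op.L, Op.L, Op.L, Op.L, Op.B2, Op.R, Op.B2, Op.R, Op.B2, Op.R, Op.B2, Op.R, Op.B2, Op.R, Op.B2, Op.R, Op.B3, Op.R, Op.R, Op.B2, Op.R, Op.B2, Op.R, Op.B3, Op.R, Op.R, Op.B2, Op.R, Op.B3, Op.R, Op.R, Op.B2, Op.R, Op.B2, Op.R, Op.B2, Op.R, Op.B3, Op.R, Op.R, Op.B3, Op.R, Op.R, Op.B2, Op.R, Op.B2, Op.R, Op.B2, Op.R, Op.B2, Op.R, Op.B2, Op.R, Op.B2, Op.R, Op.B3, Op.R, Op.R, Op.B2, Op.L, Op.L, Op.L, Op.L, Op.L, Op.L, Op.L, Op.L, Op.L, Op.L, Op.L, Op.L, Op.L, Op.L, Op.L, Op.B2, Op.R, Op.B2, Op.L, Op.L, Op.L, Op.L, Op.L, Op.L, Op.L, Op.L, Op.L, Op.L, Op.L, Op.B2, Op.R, Op.B2, Op.R, Op.B2,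 Op.R, Op.B2, Op.L, Op.L, Op.L, Op.L, Op.L, Op.L, Op.L, Op.L, Op.L, Op.L, Op.B3, Op.R, Op.R, Op.B2, Op.R, Op.B2, Op.R, Op.B2, Op.R, Op.B3, Op.R, Op.R, Op.B2, Op.R, Op.B2, Op.R, Op.B2, Op.R, Op.B3, Op.R, Op.R, Op.B2, Op.R, Op.B2, Op.R, Op.B2, Op.R, Op.B3, Op.R, Op.R, Op.B2, Op.R, Op.B3, Op.R, Op.R, Op.B2, Op.R, Op.B2, Op.R, Op.B3, Op.R, Op.R, Op.B2, Op.R, Op.B2, Op.R, Op.B2, Op.R, Op.B2, Op.R, Op.B3, Op.R, Op.R, Op.B2, Op.R, Op.B2, Op.R, Op.B3, Op.R, Op.R, Op.B2, Op.R, Op.B2, Op.R, Op.B3, Op.R, Op.R, Op.B2, Op.R, Op.B2, Op.R, Op.B3, Op.R, Op.R, Op.B2, Op.R, Op.B3, Op.R, Op.R, Op.B2, Op.R, Op.B2, Op.R, Op.B2, Op.R, Op.B3, Op.R, Op.R, Op.B2, Op.R, Op.B2, Op.R, Op.B2, Op.R, Op.B3, Op.R, Op.R, Op.B2,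 Op.R, Op.B2, Op.R, Op.B2, Op.R, Op.B3, Op.R, Op.R, Op.B3, Op.R, Op.R, Op.B2, Op.R, Op.B2, Op.R, Op.B2, Op.R, Op.B3, Op.R, Op.R, Op.B2, Op.R, Op.B2, Op.R, Op.B2, Op.R, Op.B3, Op.R, Op.R, Op.B2, Op.R, Op.B2, Op.R, Op.B3, Op.R, Op.R, Op.B2, Op.R, Op.B2, Op.R, Op.B3, Op.R, Op.R, Op.B2, Op.R, Op.B2, Op.R, Op.B2, Op.R, Op.B3, Op.R, Op.R, Op.B2, Op.R, Op.B3, Op.R, Op.R, Op.B2, Op.R, Op.B2, Op.R, Op.B3, Op.R, Op.R, Op.B2, Op.R, Op.B2, Op.R, Op.C, Op.L, Op.L, Op.L, Op.L, Op.L, Op.L, Op.L, Op.L, Op.L, Op.L, Op.L, Op.L, Op.L, Op.B2, Op.R, Op.B2, Op.R, Op.B2, Op.R, Op.B2, Op.L, Op.L, Op.L, Op.L, Op.B2, Op.L, Op.L, Op.L, Op.L, Op.L, Op.L, Op.L, Op.L, Op.L, Op.L, Op.L, Op.L, Op.B2, Op.R, Op.B2, Op.R, Op.B2,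 Op.R, Op.B2, Op.R, Op.B2, Op.L, Op.L, Op.L, Op.L, Op.L, Op.L, Op.L, Op.L, Op.L, Op.L, Op.L, Op.L, Op.L, Op.L, Op.L, Op.L, Op.L, Op.L, Op.L, Op.L, Op.L, Op.L, Op.L, Op.L, Op.L, Op.L, Op.L, Op.B3, Op.R, Op.R, Op.B2, Op.R, Op.B2, Op.R, Op.B2, Op.R, Op.B2, Op.R, Op.B2, Op.R, Op.B2, Op.R, Op.B2, Op.R, Op.B2, Op.R, Op.B2, Op.L, Op.L, Op.L, Op.L, Op.L, Op.L, Op.L, Op.L, Op.L, Op.L, Op.L, Op.B2, Op.R, Op.B3, Op.R, Op.R, Op.B2, Op.R, Op.B2, Op.R, Op.B2, Op.R, Op.B2, Op.R, Op.B2, Op.L, Op.L, Op.L, Op.L, Op.L, Op.L, Op.L, Op.L, Op.B2, Op.R, Op.B2, Op.R, Op.B3, Op.R, Op.R, Op.B2, Op.R, Op.B2, Op.R, Op.B2, Op.L, Op.L, Op.L, Op.L, Op.L, Op.L, Op.L, Op.L, Op.B2, Op.R, Op.B2, Op.R, Op.B2, Op.L, Op.L, Op.L,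 Op.B2, Op.R, Op.B2, Op.L, Op.L, Op.L, Op.B2, Op.R, Op.B2, Op.L, Op.L, Op.L, Op.L, Op.L, Op.L, Op.L, Op.L, Op.B2, Op.R, Op.B2, Op.R, Op.B2, Op.R, Op.B2, Op.R, Op.B2, Op.R, Op.B2, Op.R, Op.B2, Op.R, Op.B2, Op.R, Op.B3, Op.R, Op.R, Op.B3, Op.R, Op.R, Op.B3, Op.R, Op.R, Op.B2, Op.R, Op.B2, Op.R, Op.B2, Op.R, Op.B2, Op.R, Op.B3, Op.R, Op.R, Op.B3, Op.R, Op.R, Op.B2, Op.R, Op.B2, Op.R, Op.B3, Op.R, Op.R, Op.B2, Op.R, Op.B2, Op.R, Op.B2, Op.R, Op.B2, Op.R, Op.B3, Op.R, Op.R, Op.B2, Op.R, Op.B2, Op.R, Op.B2, Op.R, Op.B3, Op.L, Op.L, Op.L, Op.L, Op.L, Op.L, Op.L, Op.L, Op.L, Op.L, Op.L, Op.L, Op.L, Op.L, Op.L, Op.L, Op.L, Op.L, Op.L, Op.L, Op.L, Op.L, Op.L, Op.L, Op.L, Op.L, Op.L, Op.L, Op.B2, Op.R,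 Op.B2, Op.R, Op.B2, Op.R, Op.B2, Op.R, Op.B2, Op.R, Op.B2, Op.R, Op.B3, Op.R, Op.R, Op.B2, Op.R, Op.B2, Op.L, Op.L, Op.L, Op.L, Op.L, Op.L, Op.L, Op.L, Op.L, Op.L, Op.B2, Op.R, Op.B2, Op.L, Op.L, Op.L, Op.L, Op.L, Op.L, Op.L, Op.L, Op.L, Op.B3, Op.R, Op.R, Op.B2, Op.R, Op.B2, Op.R, Op.B2, Op.R, Op.B2, Op.R, Op.B3, Op.R, Op.R, Op.B2, Op.R, Op.B3, Op.R, Op.R, Op.B2, Op.R, Op.B2, Op.R, Op.B3, Op.R, Op.R, Op.B2, Op.R, Op.B2, Op.R, Op.B2, Op.R, Op.B3, Op.R, Op.R, Op.B2, Op.R, Op.B2, Op.R, Op.B3, Op.R, Op.R, Op.B2, Op.R, Op.B2, Op.R, Op.B3, Op.R, Op.R, Op.B2, Op.R, Op.B2, Op.R, Op.B3, Op.R, Op.R, Op.B2, Op.R, Op.B2, Op.R, Op.B2, Op.R, Op.B3, Op.R, Op.R, Op.B2, Op.R, Op.B3, Op.R, Op.R, Op.B2, Op.R,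 Op.B2, Op.R, Op.B2, Op.R, Op.B3, Op.R, Op.R, Op.B2, Op.R, Op.B2, Op.R, Op.B2, Op.R, Op.B2, Op.R, Op.B3, Op.R, Op.R, Op.B3, Op.R, Op.R, Op.B2, Op.R, Op.B2, Op.R, Op.B3, Op.R, Op.R, Op.B2, Op.R, Op.B2, Op.R, Op.B2, Op.R, Op.B2, Op.R, Op.B3, Op.R, Op.R, Op.B2, Op.R, Op.C, Op.L, Op.L, Op.L, Op.L, Op.L, Op.L, Op.L, Op.L, Op.L, Op.L, Op.L, Op.L, Op.L, Op.L, Op.L, Op.L, Op.L, Op.B2, Op.R, Op.B2, Op.R, Op.B2, Op.R, Op.B2, Op.R, Op.B2, Op.R, Op.B2, Op.R, Op.B2, Op.L, Op.L, Op.L, Op.L, Op.L, Op.L, Op.L, Op.B2, Op.R, Op.B2, Op.R, Op.B2, Op.L, Op.L, Op.L, Op.B2, Op.L, Op.L, Op.L, Op.L, Op.L, Op.L, Op.L, Op.L, Op.L, Op.B3, Op.R, Op.R, Op.B2, Op.R, Op.B2, Op.R, Op.B2, Op.R, Op.B2, Op.R, Op.B2, Op.R, Op.B3,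 Op.R, Op.R, Op.B3, Op.R, Op.R, Op.B2, Op.R, Op.B3, Op.R, Op.R, Op.B2, Op.R, Op.B2, Op.R, Op.B2, Op.R, Op.B3, Op.R, Op.R, Op.B2, Op.R, Op.B2, Op.R, Op.B2]
    [2, 4, 3, 1, 0, 2, 3, 5, 4, 3, 2, 7, 6, 5, 4, 3, 0, 2, 1, 3, 4, 1, 2, 3]
    [6, 3, 1, 5, 6, 7, 4, 5, 3, 4, 2, 3, 0, 2, 1, 3, 4, 5, 6, 7, 5, 4, 3, 1, 2, 0, 4, 5, 6, 3, 2, 4, 3, 1, 5, 4, 3, 2, 0, 2, 3, 1, 4, 5, 6, 7, 3, 4, 5, 2, 3, 4, 1, 3, 2, 0, 6, 5, 4, 3, 1, 2, 5, 6, 7, 3, 4, 5, 6, 2, 3, 4, 5, 1, 3, 2, 0, 4, 3, 1, 2, 3, 4, 5, 6, 3, 4, 5, 6, 7, 0, 1, 2, 3, 4, 5, 6, 7, 0, 1, 2, 3, 4, 5, 6, 7, 0, 1, 2, 3, 4, 5, 6, 7, 0, 1, 2, 3, 4, 5, 6, 7, 0, 1, 2, 3, 4, 5, 6, 7, 0, 1, 2, 3, 4, 5, 6, 7, 0, 1, 2, 3, 4, 5, 6, 7, 0, 1, 2, 3, 4, 5, 6, 7,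 0, 1, 2, 3, 4, 5, 6, 7, 0, 1, 2, 3, 4, 5, 6, 7, 0, 1, 2, 3, 4, 5, 6, 7, 0, 1, 2, 3, 4, 5, 6, 7, 0, 1, 2, 3, 4, 5, 6, 7] =
    ([3, 4, 5, 6, 0, 2, 3, 4, 5, 1, 3, 4, 2, 3, 1, 7, 6, 5, 4, 3, 2, 4, 5, 6, 0, 2, 3, 4, 1, 3, 2, 0, 5, 4, 3, 2, 1, 3, 4, 7, 6, 5, 4, 3, 1, 2, 3, 4, 0, 2, 3, 1, 6, 5, 4, 3, 2, 4, 5, 7, 6, 5, 4, 3, 2, 1, 3, 4, 0, 2, 3, 1, 5, 4, 3, 2, 7, 6, 5, 4, 3, 1, 0, 2, 3, 4, 2, 7, 6, 5, 4, 3, 0, 2, 1, 3, 4, 1, 2, 3],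
     [1, 6, 2, 3, 4, 5, 6, 5, 6, 7, 0, 1, 2, 3, 4, 5, 6, 7, 0, 1, 2, 3, 4, 5, 6, 7, 0, 1, 2, 3, 4, 5, 6, 7, 0, 1, 2, 3, 4, 5, 6, 7, 0, 1, 2, 3, 4, 5, 6, 7, 0, 1, 2, 3, 4, 5, 6, 7, 0, 1, 2, 3, 4, 5, 6, 7, 0, 1, 2, 3, 4, 5, 6, 7, 0, 1, 2, 3, 4, 5, 6, 7, 0, 1, 2, 3, 4, 5, 6, 7, 0, 1, 2, 3, 4, 5, 6, 7, 0, 1, 2, 3, 4, 5, 6, 7, 0, 1, 2, 3, 4, 5, 6, 7]) := by decide +kernel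

set_option maxRecDepth 1000000 in
theorem chunk15 : exec (Mt CoxeterMatrix.E₈) [Op.R, Op.B2, Op.R, Op.B2, Op.R, Op.B2, Op.R, Op.B3, Op.R, Op.R, Op.C, Op.L, Op.C, Op.L, Op.L, Op.L, Op.L, Op.L, Op.L, Op.L, Op.L, Op.L, Op.L, Op.L, Op.L, Op.L, Op.L, Op.L, Op.L, Op.L, Op.L, Op.L, Op.L, Op.L, Op.B2, Op.R, Op.B2, Op.R, Op.B2, Op.R, Op.B2, Op.R, Op.B2, Op.R, Op.B2, Op.R, Op.B2, Op.R, Op.B2, Op.R, Op.B2, Op.R, Op.B2, Op.R, Op.B2, Op.L, Op.L, Op.L, Op.L, Op.L, Op.L, Op.L, Op.L, Op.L, Op.L, Op.L, Op.B2, Op.R, Op.B2, Op.R, Op.B2, Op.R, Op.B2, Op.R, Op.B2, Op.R, Op.B2, Op.L, Op.L, Op.L, Op.L, Op.L, Op.L, Op.B2, Op.R, Op.B2, Op.R, Op.B2, Op.L, Op.L, Op.L, Op.B2, Op.L, Op.L, Op.L, Op.L, Op.L, Op.L, Op.L,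 Op.L, Op.L, Op.L, Op.B2, Op.L, Op.L, Op.L, Op.L, Op.L, Op.L, Op.L, Op.L, Op.L, Op.L, Op.L, Op.L, Op.L, Op.L, Op.L, Op.L, Op.L, Op.L, Op.L, Op.L, Op.L, Op.L, Op.L, Op.L, Op.B2, Op.R, Op.B2, Op.R, Op.B2, Op.R, Op.B2, Op.R, Op.B2, Op.R, Op.B2, Op.R, Op.B2, Op.R, Op.B2, Op.R, Op.B2, Op.R, Op.B2, Op.R, Op.B3, Op.R, Op.R, Op.B2, Op.L, Op.L, Op.L, Op.L, Op.L, Op.L, Op.L, Op.L, Op.L, Op.L, Op.L, Op.L, Op.L, Op.B2, Op.R, Op.B2, Op.R, Op.B2, Op.R, Op.B2, Op.L, Op.L, Op.L, Op.L, Op.B2, Op.L, Op.L, Op.L, Op.L, Op.L, Op.L, Op.L, Op.L, Op.L, Op.L, Op.L, Op.B2, Op.L, Op.L, Op.L, Op.L, Op.L, Op.L, Op.L, Op.L, Op.L, Op.L, Op.L, Op.L, Op.L, Op.L, Op.L, Op.L, Op.L, Op.B2, Op.R, Op.B2, Op.R, Op.B2, Op.R, Op.B2,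 Op.R, Op.B2, Op.R, Op.B2, Op.L, Op.L, Op.L, Op.L, Op.L, Op.L, Op.B2, Op.L, Op.L, Op.L, Op.L, Op.L, Op.L, Op.L, Op.L, Op.L, Op.L, Op.L, Op.B2, Op.R, Op.B2, Op.L, Op.L, Op.L, Op.L, Op.L, Op.B2, Op.R, Op.B2, Op.R, Op.B3, Op.R, Op.R, Op.B2, Op.R, Op.B3, Op.R, Op.R, Op.B2, Op.R, Op.B2, Op.R, Op.B2, Op.R, Op.B2, Op.R, Op.B2, Op.R, Op.B2, Op.R, Op.B3, Op.R, Op.R, Op.B3, Op.R, Op.R, Op.B2, Op.R, Op.B2, Op.R, Op.B2, Op.R, Op.B2, Op.R, Op.B3, Op.R, Op.R, Op.B2, Op.R, Op.B2, Op.R, Op.B2, Op.R, Op.B2, Op.R, Op.B2, Op.R, Op.B3, Op.R, Op.R, Op.B2, Op.R, Op.B3, Op.R, Op.R, Op.B3, Op.R, Op.R, Op.B2, Op.R, Op.B2, Op.R, Op.B2, Op.R, Op.B2, Op.R, Op.B2, Op.R, Op.B2, Op.R, Op.B2, Op.R, Op.B3, Op.R, Op.R, Op.B3,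 Op.R, Op.R, Op.B2, Op.R, Op.B2, Op.R, Op.B3, Op.R, Op.R, Op.B2, Op.R, Op.B2, Op.R, Op.B2, Op.R, Op.B2, Op.R, Op.B3, Op.R, Op.R, Op.B2, Op.R, Op.B2, Op.R, Op.B3, Op.R, Op.R, Op.B2, Op.R, Op.B2, Op.R, Op.B2, Op.R, Op.B2, Op.R, Op.B3, Op.R, Op.R, Op.B2, Op.R, Op.B2, Op.R, Op.B3, Op.R, Op.R, Op.B3, Op.R, Op.R, Op.B2, Op.R, Op.B2, Op.R, Op.B2, Op.R, Op.B2, Op.R, Op.B2, Op.R, Op.B2, Op.R, Op.B3, Op.R, Op.R, Op.B3, Op.R, Op.R, Op.B2, Op.R, Op.B3, Op.R, Op.R, Op.B2, Op.R, Op.B2, Op.R, Op.B3, Op.R, Op.R, Op.B2, Op.R, Op.B2, Op.R, Op.B2, Op.R, Op.B2, Op.R, Op.B3, Op.R, Op.R, Op.B2, Op.R, Op.B2, Op.R, Op.B2, Op.R, Op.B2, Op.R, Op.B2, Op.R, Op.B2, Op.R, Op.B2, Op.R, Op.B2, Op.R, Op.C, Op.L, Op.L, Op.L,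 Op.L, Op.L, Op.L, Op.L, Op.L, Op.L, Op.L, Op.L, Op.B2, Op.R, Op.B2, Op.R, Op.B2, Op.R, Op.B2, Op.R, Op.B2, Op.R, Op.B2, Op.L, Op.L, Op.L, Op.L, Op.L, Op.L, Op.B2, Op.R, Op.B2, Op.R, Op.B2, Op.R, Op.B2, Op.L, Op.L, Op.L, Op.L, Op.B2, Op.R, Op.B2, Op.R, Op.B2, Op.L, Op.L, Op.L, Op.B2, Op.R, Op.B2, Op.L, Op.L, Op.B2, Op.L, Op.L, Op.L, Op.L, Op.L, Op.L, Op.L, Op.L, Op.L, Op.L, Op.L, Op.L, Op.L, Op.L, Op.L, Op.L, Op.L, Op.L, Op.L, Op.L, Op.L, Op.L, Op.L, Op.L, Op.L, Op.L, Op.L, Op.L, Op.L, Op.L, Op.L, Op.B2, Op.R, Op.B2, Op.R, Op.B2, Op.R, Op.B2, Op.R, Op.B2, Op.R, Op.B2, Op.R, Op.B2, Op.R, Op.B2, Op.R, Op.B2, Op.R, Op.B2, Op.R, Op.B2, Op.R, Op.B2, Op.R, Op.B2, Op.R, Op.B2, Op.R, Op.B2, Op.R, Op.B2,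 Op.L, Op.L, Op.L, Op.L, Op.L, Op.L, Op.L, Op.L, Op.L, Op.L, Op.L, Op.L, Op.L, Op.L, Op.L, Op.L, Op.L, Op.B3, Op.R, Op.R, Op.B2, Op.R, Op.B2, Op.R, Op.B2, Op.R, Op.B2, Op.R, Op.B2, Op.R, Op.B2, Op.L, Op.L, Op.L, Op.L, Op.L, Op.L, Op.L, Op.L, Op.B2, Op.R, Op.B3, Op.R, Op.R, Op.B2, Op.R, Op.B2, Op.R, Op.B2, Op.R, Op.B2, Op.L, Op.L, Op.L, Op.L, Op.L, Op.L, Op.L, Op.B2, Op.R, Op.B2, Op.R, Op.B3, Op.R, Op.R, Op.B2, Op.R, Op.B2, Op.L, Op.L, Op.L, Op.L, Op.L, Op.L, Op.B2, Op.R, Op.B2, Op.R, Op.B2, Op.R, Op.B3, Op.L, Op.L, Op.L, Op.L, Op.B2, Op.R, Op.B2, Op.R, Op.B2, Op.L, Op.L, Op.L, Op.B2, Op.R, Op.B2, Op.L, Op.L, Op.B2, Op.L, Op.L, Op.L, Op.L, Op.L, Op.L, Op.L, Op.L, Op.L, Op.L, Op.L, Op.L, Op.L,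 Op.L, Op.L, Op.L, Op.L, Op.L, Op.L, Op.L, Op.L, Op.L, Op.L, Op.L, Op.L, Op.L, Op.L, Op.L, Op.L, Op.B2, Op.R, Op.B2, Op.R, Op.B2, Op.R, Op.B2, Op.R, Op.B2, Op.R, Op.B2, Op.R, Op.B2, Op.R, Op.B2, Op.R, Op.B2, Op.R, Op.B2, Op.R, Op.B2, Op.R, Op.B2, Op.R, Op.B2, Op.R, Op.B2, Op.R, Op.B2, Op.R, Op.B2, Op.R, Op.B3, Op.L, Op.L, Op.L, Op.L, Op.L, Op.L, Op.L, Op.L, Op.L, Op.L, Op.L, Op.L, Op.L, Op.L, Op.L, Op.L, Op.L, Op.B2, Op.R, Op.B2, Op.R, Op.B2, Op.R, Op.B2, Op.L, Op.L, Op.L, Op.L, Op.B2, Op.R, Op.B2, Op.R, Op.B2, Op.L, Op.L, Op.L, Op.B2, Op.R, Op.B2, Op.L, Op.L, Op.B2, Op.L, Op.L, Op.L, Op.L, Op.L, Op.L, Op.L, Op.L, Op.L, Op.L, Op.L, Op.L, Op.B2, Op.R, Op.B2, Op.R, Op.B2, Op.R, Op.B2, Op.R, Op.B2,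 Op.R, Op.B2, Op.L, Op.L, Op.L, Op.L, Op.L, Op.L, Op.B2, Op.L, Op.L, Op.L, Op.B2, Op.R, Op.B3, Op.R, Op.R, Op.B3, Op.R, Op.R, Op.B2, Op.R, Op.B2, Op.R, Op.B2, Op.R, Op.B2, Op.R, Op.B3, Op.R, Op.R, Op.B2, Op.R, Op.B2, Op.R, Op.B2, Op.R, Op.B3, Op.R, Op.R, Op.B3, Op.R, Op.R, Op.B3, Op.R, Op.R, Op.B3, Op.R, Op.R, Op.B3, Op.R, Op.R, Op.B2, Op.R, Op.B2, Op.R, Op.B2, Op.R, Op.B2, Op.R, Op.B2, Op.R, Op.B2, Op.R, Op.B2, Op.R, Op.B2, Op.R, Op.B2, Op.R, Op.B2, Op.R, Op.B3, Op.R, Op.R, Op.B2, Op.R, Op.B3, Op.R, Op.R, Op.B2, Op.R, Op.B2, Op.R, Op.B2, Op.R, Op.B2, Op.R, Op.B2, Op.R, Op.B2, Op.R, Op.B2, Op.R, Op.B2, Op.R, Op.B3, Op.R, Op.R, Op.B3, Op.R, Op.R, Op.B3, Op.R, Op.R, Op.B3, Op.R, Op.R, Op.B2,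 Op.R, Op.B3, Op.R, Op.R, Op.B3, Op.R, Op.R, Op.B3, Op.R, Op.R, Op.B3, Op.R, Op.R, Op.B2, Op.R, Op.B2, Op.R, Op.B2, Op.R, Op.B2, Op.R, Op.B2, Op.R, Op.B2, Op.R, Op.B2, Op.R, Op.B2, Op.R, Op.B3, Op.R, Op.R, Op.B2, Op.R, Op.B2, Op.R, Op.B2, Op.R, Op.B2, Op.R, Op.B2, Op.R, Op.B2, Op.R, Op.B2, Op.R, Op.B2, Op.R, Op.B2, Op.R, Op.B2, Op.R, Op.B2, Op.R, Op.B2, Op.R, Op.B3, Op.R, Op.R, Op.B3, Op.R, Op.R, Op.B3, Op.R, Op.R, Op.B3, Op.R, Op.R, Op.B3, Op.R, Op.R, Op.B2, Op.R, Op.B3, Op.R, Op.R, Op.B2, Op.R, Op.B2, Op.R, Op.B2, Op.R, Op.C, Op.L, Op.L, Op.L, Op.L, Op.L, Op.L, Op.B2, Op.R, Op.B2, Op.L, Op.L, Op.B2, Op.L, Op.L, Op.L, Op.L, Op.L, Op.L, Op.L, Op.L, Op.L, Op.L, Op.L, Op.L, Op.L, Op.L, Op.L,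 Op.L, Op.L, Op.L, Op.L, Op.L, Op.L, Op.L, Op.L, Op.L, Op.B2, Op.R, Op.B2, Op.R, Op.B2]
    [3, 4, 5, 6, 0, 2, 3, 4, 5, 1, 3, 4, 2, 3, 1, 7, 6, 5, 4, 3, 2, 4, 5, 6, 0, 2, 3, 4, 1, 3, 2, 0, 5, 4, 3, 2, 1, 3, 4, 7, 6, 5, 4, 3, 1, 2, 3, 4, 0, 2, 3, 1, 6, 5, 4, 3, 2, 4, 5, 7, 6, 5, 4, 3, 2, 1, 3, 4, 0, 2, 3, 1, 5, 4, 3, 2, 7, 6, 5, 4, 3, 1, 0, 2, 3, 4, 2, 7, 6, 5, 4, 3, 0, 2, 1, 3, 4, 1, 2, 3]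
    [1, 6, 2, 3, 4, 5, 6, 5, 6, 7, 0, 1, 2, 3, 4, 5, 6, 7, 0, 1, 2, 3, 4, 5, 6, 7, 0, 1, 2, 3, 4, 5, 6, 7, 0, 1, 2, 3, 4, 5, 6, 7, 0, 1, 2, 3, 4, 5, 6, 7, 0, 1, 2, 3, 4, 5, 6, 7, 0, 1, 2, 3, 4, 5, 6, 7, 0, 1, 2, 3, 4, 5, 6, 7, 0, 1, 2, 3, 4, 5, 6, 7, 0, 1, 2, 3, 4, 5, 6, 7, 0, 1, 2, 3, 4, 5, 6, 7, 0, 1, 2, 3, 4, 5, 6, 7, 0, 1, 2, 3, 4, 5, 6, 7] =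
    ([6, 7, 2, 3, 1, 4, 3, 2, 0, 5, 6, 4, 5, 3, 4, 2, 3, 1, 3, 2, 4, 3, 5, 4, 6, 5, 0, 2, 3, 4, 1, 3, 2, 4, 5, 6, 7, 6, 5, 4, 3, 1, 2, 3, 4, 0, 2, 3, 1, 5, 6, 4, 5, 3, 4, 2, 3, 0, 2, 1, 3, 4, 2, 0, 7, 6, 5, 4, 3, 2, 1, 3, 4, 3],
     [5, 0, 4, 2, 3, 1, 4, 3, 2, 5, 4, 3, 1, 6, 7, 5, 6, 4, 5, 3, 4, 2, 0, 3, 2, 1, 3, 4, 5, 1, 2, 3, 4, 5, 6, 7, 0, 1, 2, 3, 4, 5, 6, 7, 0, 1, 2, 3, 4, 5, 6, 7, 0, 1, 2, 3, 4, 5, 6, 7, 0, 1, 2, 3, 4, 5, 6, 7, 0, 1, 2, 3, 4, 5, 6, 7, 0, 1, 2, 3, 4, 5, 6, 7, 0, 1, 2, 3, 4, 5, 6, 7, 0, 1, 2, 3, 4, 5, 6, 7, 0, 1, 2, 3, 4, 5, 6, 7, 0, 1, 2, 3, 4, 5, 6, 7, 0, 1, 2, 3, 4, 5, 6, 7, 0, 1, 2, 3, 4, 5, 6, 7]) := by decide +kernel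

set_option maxRecDepth 1000000 in
theorem chunk16 : exec (Mt CoxeterMatrix.E₈) [Op.R, Op.B2, Op.L, Op.L, Op.L, Op.L, Op.B2, Op.R, Op.B2, Op.R, Op.B2, Op.R, Op.B2, Op.R, Op.B3, Op.R, Op.R, Op.B2, Op.R, Op.B2, Op.R, Op.B2, Op.R, Op.B2, Op.L, Op.L, Op.L, Op.L, Op.L, Op.L, Op.L, Op.L, Op.L, Op.L, Op.B2, Op.R, Op.B2, Op.R, Op.B2, Op.L, Op.L, Op.L, Op.L, Op.B2, Op.R, Op.B2, Op.R, Op.B2, Op.L, Op.L, Op.L, Op.L, Op.L, Op.L, Op.B2, Op.R, Op.B2, Op.R, Op.B2, Op.R, Op.B2, Op.R, Op.B2, Op.L, Op.L, Op.L, Op.L, Op.L, Op.B2, Op.R, Op.B2, Op.R, Op.B2, Op.R, Op.B2, Op.L, Op.L, Op.L, Op.L, Op.L, Op.L, Op.L, Op.L, Op.L, Op.L, Op.L, Op.L, Op.L, Op.L, Op.L, Op.L, Op.L, Op.L, Op.L, Op.L, Op.L, Op.L, Op.L, Op.L,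 Op.L, Op.L, Op.L, Op.L, Op.L, Op.L, Op.B3, Op.R, Op.R, Op.B2, Op.R, Op.B2, Op.R, Op.B2, Op.R, Op.B2, Op.R, Op.B2, Op.R, Op.B2, Op.R, Op.B2, Op.R, Op.B2, Op.R, Op.B2, Op.R, Op.B2, Op.L, Op.L, Op.L, Op.L, Op.L, Op.L, Op.L, Op.L, Op.L, Op.L, Op.L, Op.L, Op.B2, Op.R, Op.B3, Op.R, Op.R, Op.B2, Op.R, Op.B2, Op.R, Op.B2, Op.R, Op.B2, Op.R, Op.B2, Op.R, Op.B2, Op.R, Op.B2, Op.R, Op.B2, Op.L, Op.L, Op.L, Op.L, Op.L, Op.L, Op.L, Op.L, Op.L, Op.L, Op.L, Op.B2, Op.R, Op.B2, Op.R, Op.B3, Op.R, Op.R, Op.B2, Op.R, Op.B2, Op.R, Op.B2, Op.L, Op.L, Op.L, Op.B2, Op.L, Op.L, Op.L, Op.L, Op.B2, Op.R, Op.B2, Op.R, Op.B2, Op.L, Op.L, Op.L, Op.L, Op.B2, Op.R, Op.B2, Op.R, Op.B2, Op.R, Op.B2, Op.R, Op.B3, Op.R, Op.R,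 Op.B3, Op.R, Op.R, Op.B2, Op.R, Op.B3, Op.R, Op.R, Op.B2, Op.R, Op.B2, Op.R, Op.B2, Op.R, Op.B3, Op.R, Op.R, Op.B3, Op.R, Op.R, Op.B2, Op.R, Op.B2, Op.R, Op.B2, Op.R, Op.B2, Op.R, Op.B2, Op.R, Op.B2, Op.R, Op.B2, Op.R, Op.B2, Op.R, Op.B2, Op.R, Op.B2, Op.R, Op.B2, Op.R, Op.B2, Op.R, Op.B2, Op.R, Op.B2, Op.R, Op.B2, Op.R, Op.B2, Op.R, Op.B2, Op.R, Op.B3, Op.R, Op.R, Op.B3, Op.R, Op.R, Op.B3, Op.R, Op.R, Op.B3, Op.R, Op.R, Op.B2, Op.R, Op.B3, Op.R, Op.R, Op.B2, Op.R, Op.B2, Op.L, Op.L, Op.L, Op.L, Op.L, Op.L, Op.L, Op.L, Op.L, Op.L, Op.L, Op.L, Op.L, Op.B2, Op.R, Op.B2, Op.R, Op.B2, Op.R, Op.B2, Op.R, Op.B2, Op.R, Op.B2, Op.L, Op.L, Op.L, Op.L, Op.L, Op.L, Op.B2, Op.R, Op.B2, Op.R, Op.B2, Op.R,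 Op.B2, Op.L, Op.L, Op.L, Op.L, Op.L, Op.L, Op.B2, Op.R, Op.B2, Op.R, Op.B2, Op.R, Op.B2, Op.L, Op.L, Op.L, Op.L, Op.B2, Op.R, Op.B2, Op.L, Op.L, Op.L, Op.L, Op.L, Op.L, Op.L, Op.L, Op.L, Op.L, Op.L, Op.L, Op.L, Op.B2, Op.L, Op.L, Op.B2, Op.L, Op.L, Op.L, Op.L, Op.L, Op.L, Op.L, Op.L, Op.L, Op.L, Op.L, Op.L, Op.L, Op.L, Op.L, Op.B2, Op.R, Op.B2, Op.R, Op.B2, Op.L, Op.L, Op.L, Op.B2, Op.R, Op.B2, Op.R, Op.B2, Op.R, Op.B3, Op.R, Op.R, Op.B2, Op.R, Op.B2, Op.R, Op.B3, Op.R, Op.R, Op.B2, Op.R, Op.B3, Op.R, Op.R, Op.B2, Op.R, Op.B2, Op.R, Op.B2, Op.R, Op.B2, Op.R, Op.B3, Op.R, Op.R, Op.B3, Op.R, Op.R, Op.B2, Op.R, Op.B2, Op.R, Op.B2, Op.R, Op.B2, Op.R, Op.B2, Op.R, Op.B2, Op.R, Op.B2, Op.R, Op.B2,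 Op.R, Op.B2, Op.R, Op.B2, Op.R, Op.B2, Op.R, Op.B3, Op.R, Op.R, Op.B2, Op.R, Op.B3, Op.R, Op.R, Op.B2, Op.R, Op.B3, Op.R, Op.R, Op.B2, Op.R, Op.B3, Op.R, Op.R, Op.B2, Op.R, Op.B2, Op.R, Op.B2, Op.R, Op.B3, Op.L, Op.L, Op.L, Op.B2, Op.R, Op.B2, Op.L, Op.L, Op.B2, Op.L, Op.L, Op.L, Op.L, Op.L, Op.L, Op.L, Op.L, Op.L, Op.L, Op.L, Op.B2, Op.R, Op.B2, Op.R, Op.B2, Op.R, Op.B2, Op.R, Op.B2, Op.R, Op.B2, Op.L, Op.L, Op.L, Op.L, Op.L, Op.L, Op.L, Op.B2, Op.R, Op.B2, Op.R, Op.B2, Op.R, Op.B2, Op.L, Op.L, Op.L, Op.L, Op.B2, Op.L, Op.L, Op.L, Op.L, Op.L, Op.L, Op.L, Op.L, Op.B2, Op.L, Op.L, Op.B2, Op.L, Op.L, Op.L, Op.L, Op.L, Op.L, Op.L, Op.L, Op.L, Op.L, Op.L, Op.L, Op.B2, Op.L, Op.L, Op.L, Op.L, Op.L,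 Op.L, Op.B2, Op.R, Op.B2, Op.L, Op.L, Op.L, Op.L, Op.L, Op.L, Op.B2, Op.R, Op.B2, Op.R, Op.B2, Op.R, Op.B2, Op.R, Op.B2, Op.L, Op.L, Op.L, Op.L, Op.L, Op.B2, Op.R, Op.B2, Op.R, Op.B2, Op.R, Op.B2, Op.L, Op.L, Op.L, Op.L, Op.L, Op.L, Op.L, Op.L, Op.L, Op.L, Op.L, Op.L, Op.L, Op.L, Op.L, Op.L, Op.L, Op.B2, Op.R, Op.B2, Op.R, Op.B2, Op.R, Op.B2, Op.R, Op.B2, Op.R, Op.B2, Op.R, Op.B2, Op.R, Op.B2, Op.R, Op.B2, Op.R, Op.B2, Op.R, Op.B2, Op.R, Op.B2, Op.R, Op.B2, Op.R, Op.B2, Op.R, Op.B2, Op.R, Op.B2, Op.R, Op.B2, Op.R, Op.B3, Op.R, Op.R, Op.B3, Op.R, Op.R, Op.B3, Op.R, Op.R, Op.B2, Op.R, Op.B3, Op.R, Op.R, Op.B3, Op.R, Op.R, Op.B2, Op.R, Op.B2, Op.R, Op.B2, Op.R, Op.B3, Op.R, Op.R, Op.B2, Op.R,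 Op.B2, Op.R, Op.B2, Op.R, Op.B2, Op.R, Op.B2, Op.R, Op.B3, Op.R, Op.R, Op.B3, Op.R, Op.R, Op.B2, Op.R, Op.B2, Op.R, Op.B2, Op.R, Op.B2, Op.R, Op.B2, Op.R, Op.B2, Op.R, Op.B3, Op.R, Op.R, Op.B2, Op.R, Op.B2, Op.R, Op.B3, Op.R, Op.R, Op.B2, Op.R, Op.B2, Op.R, Op.B3, Op.R, Op.R, Op.B2, Op.R, Op.B2, Op.R, Op.B2, Op.L, Op.L, Op.L, Op.L, Op.L, Op.L, Op.L, Op.L, Op.L, Op.L, Op.L, Op.L, Op.L, Op.B2, Op.R, Op.B2, Op.R, Op.B2, Op.R, Op.B2, Op.R, Op.B2, Op.R, Op.B2, Op.R, Op.B2, Op.R, Op.B2, Op.L, Op.L, Op.L, Op.L, Op.L, Op.L, Op.L, Op.L, Op.B2, Op.R, Op.B2, Op.R, Op.B2, Op.R, Op.B2, Op.L, Op.L, Op.L, Op.L, Op.L, Op.L, Op.L, Op.L, Op.B2, Op.L, Op.L, Op.B2, Op.L, Op.L, Op.L, Op.L, Op.L, Op.L, Op.L, Op.L,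 Op.L, Op.L, Op.L, Op.L, Op.L, Op.L, Op.L, Op.L, Op.L, Op.L, Op.L, Op.L, Op.L, Op.L, Op.L, Op.B2, Op.R, Op.B2, Op.R, Op.B2, Op.R, Op.B2, Op.R, Op.B2, Op.R, Op.B2, Op.R, Op.B2, Op.R, Op.B2, Op.R, Op.B2, Op.L, Op.L, Op.L, Op.L, Op.L, Op.L, Op.L, Op.L, Op.L, Op.B2, Op.R, Op.B2, Op.R, Op.B2, Op.R, Op.B2, Op.R, Op.B2, Op.R, Op.B2, Op.R, Op.B2, Op.L, Op.L, Op.L, Op.L, Op.L, Op.L, Op.L, Op.B2, Op.R, Op.B2, Op.R, Op.B2, Op.R, Op.B2, Op.L, Op.L, Op.L, Op.L, Op.L, Op.B2, Op.R, Op.B2, Op.R, Op.B2, Op.L, Op.L, Op.L, Op.B2, Op.L, Op.L, Op.L, Op.L, Op.L, Op.L, Op.L, Op.L, Op.L, Op.L, Op.L, Op.L, Op.B2, Op.R, Op.B2, Op.R, Op.B2, Op.R, Op.B2, Op.R, Op.B2, Op.R, Op.B2, Op.R, Op.B2, Op.R, Op.B2, Op.R, Op.B2,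 Op.R, Op.B2, Op.R, Op.B2, Op.R, Op.B2, Op.R, Op.B3, Op.R, Op.R, Op.B2, Op.R, Op.B3, Op.R, Op.R, Op.B2, Op.R, Op.B3, Op.R, Op.R, Op.B2, Op.L, Op.L, Op.L, Op.L, Op.L, Op.L, Op.L, Op.L, Op.L, Op.B2, Op.R, Op.B2, Op.R, Op.B2, Op.R, Op.B2, Op.R, Op.B2, Op.R, Op.B2, Op.L, Op.L, Op.L, Op.L, Op.L, Op.L, Op.B2, Op.R, Op.B2, Op.R, Op.B2, Op.L, Op.L, Op.L, Op.L, Op.L, Op.L, Op.L, Op.L, Op.L, Op.L, Op.L, Op.L, Op.L, Op.B2, Op.R, Op.B2, Op.L, Op.L, Op.B2, Op.R, Op.B2, Op.R, Op.B3, Op.R, Op.R, Op.B2, Op.R, Op.B2, Op.R, Op.B2, Op.R, Op.B2, Op.R, Op.B2, Op.R, Op.B2, Op.R, Op.B3, Op.R, Op.R, Op.B2, Op.R, Op.B2, Op.R, Op.B3, Op.R, Op.R, Op.B2, Op.R, Op.B2, Op.R, Op.B3, Op.R, Op.R, Op.B2, Op.R, Op.B2, Op.R,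 Op.B3, Op.R, Op.R, Op.B3, Op.R, Op.R, Op.B2, Op.R, Op.B3, Op.R, Op.R, Op.B2, Op.R, Op.B2, Op.R]
    [6, 7, 2, 3, 1, 4, 3, 2, 0, 5, 6, 4, 5, 3, 4, 2, 3, 1, 3, 2, 4, 3, 5, 4, 6, 5, 0, 2, 3, 4, 1, 3, 2, 4, 5, 6, 7, 6, 5, 4, 3, 1, 2, 3, 4, 0, 2, 3, 1, 5, 6, 4, 5, 3, 4, 2, 3, 0, 2, 1, 3, 4, 2, 0, 7, 6, 5, 4, 3, 2, 1, 3, 4, 3]
    [5, 0, 4, 2, 3, 1, 4, 3, 2, 5, 4, 3, 1, 6, 7, 5, 6, 4, 5, 3, 4, 2, 0, 3, 2, 1, 3, 4, 5, 1, 2, 3, 4, 5, 6, 7, 0, 1, 2, 3, 4, 5, 6, 7, 0, 1, 2, 3, 4, 5, 6, 7, 0, 1, 2, 3, 4, 5, 6, 7, 0, 1, 2, 3, 4, 5, 6, 7, 0, 1, 2, 3, 4, 5, 6, 7, 0, 1, 2, 3, 4, 5, 6, 7, 0, 1, 2, 3, 4, 5, 6, 7, 0, 1, 2, 3, 4, 5, 6, 7, 0, 1, 2, 3, 4, 5, 6, 7, 0, 1, 2, 3, 4, 5, 6, 7, 0, 1, 2, 3, 4, 5, 6, 7,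 0, 1, 2, 3, 4, 5, 6, 7] =
    ([1, 3, 2, 0, 4, 3, 2, 1, 3, 5, 4, 3, 1, 6, 5, 4, 3, 7, 6, 5, 4, 2, 3, 0, 2, 1, 3, 4, 5, 2, 0, 3, 2, 1, 3, 4, 3],
     [0, 5, 4, 3, 2, 0, 6, 7, 5, 6, 4, 5, 3, 2, 4, 3, 1, 3, 4, 5, 6, 7, 2, 3, 4, 5, 6, 0, 2, 3, 4, 5, 1, 2, 0, 3, 2, 4, 3, 1, 3, 4, 2, 3, 0, 2, 5, 4, 3, 1, 6, 7, 5, 6, 4, 5, 3, 4, 2, 0, 3, 2, 1, 3, 4, 5, 1, 2, 3, 4, 5, 6, 7, 0, 1, 2, 3, 4, 5, 6, 7, 0, 1, 2, 3, 4, 5, 6, 7, 0, 1, 2, 3, 4, 5, 6, 7, 0, 1, 2, 3, 4, 5, 6, 7, 0, 1, 2, 3, 4, 5, 6, 7, 0, 1, 2, 3, 4, 5, 6, 7, 0, 1, 2, 3, 4, 5, 6, 7, 0, 1, 2, 3, 4, 5, 6, 7, 0, 1, 2, 3, 4, 5, 6, 7, 0, 1, 2, 3, 4, 5, 6, 7, 0, 1, 2, 3, 4, 5, 6, 7, 0, 1, 2, 3, 4, 5, 6, 7]) := by decide +kernel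

set_option maxRecDepth 1000000 in
theorem chunk17 : exec (Mt CoxeterMatrix.E₈) [Op.B2, Op.R, Op.B2, Op.R, Op.B2, Op.R, Op.B3, Op.R, Op.R, Op.B2, Op.R, Op.B2, Op.R, Op.B2, Op.R, Op.B2, Op.R, Op.B2, Op.R, Op.B2, Op.R, Op.B3, Op.R, Op.R, Op.B3, Op.R, Op.R, Op.B2, Op.R, Op.B3, Op.R, Op.R, Op.B2, Op.R, Op.B2, Op.R, Op.B2, Op.R, Op.B3, Op.R, Op.R, Op.B2, Op.R, Op.B2, Op.R, Op.B2, Op.R, Op.B3, Op.R, Op.R, Op.B2, Op.R, Op.B2, Op.R, Op.B2, Op.R, Op.B2, Op.R, Op.B3, Op.R, Op.R, Op.B3, Op.R, Op.R, Op.B3, Op.R, Op.R, Op.B2, Op.R, Op.B3, Op.R, Op.R, Op.B3, Op.R, Op.R, Op.B3, Op.R, Op.R, Op.B2, Op.R, Op.B2, Op.R, Op.B2, Op.R, Op.B2, Op.R, Op.B2, Op.R, Op.B2, Op.R, Op.B2, Op.R, Op.B2, Op.R, Op.B2, Op.R,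 Op.B2, Op.R, Op.B2, Op.R, Op.B2, Op.R, Op.B3, Op.R, Op.R, Op.B3, Op.R, Op.R, Op.B3, Op.R, Op.R, Op.B2, Op.R, Op.B2, Op.R, Op.C, Op.L, Op.L, Op.L, Op.L, Op.L, Op.B2, Op.L, Op.L, Op.L, Op.L, Op.L, Op.L, Op.L, Op.L, Op.L, Op.L, Op.L, Op.L, Op.B2, Op.R, Op.B2, Op.R, Op.B2, Op.R, Op.B2, Op.R, Op.B2, Op.R, Op.B2, Op.L, Op.L, Op.L, Op.L, Op.L, Op.L, Op.B2, Op.R, Op.B2, Op.R, Op.B2, Op.R, Op.B2, Op.L, Op.L, Op.L, Op.L, Op.B2, Op.R, Op.B2, Op.L, Op.L, Op.L, Op.L, Op.L, Op.L, Op.L, Op.L, Op.L, Op.L, Op.L, Op.L, Op.L, Op.L, Op.L, Op.L, Op.L, Op.L, Op.L, Op.L, Op.L, Op.L, Op.B2, Op.R, Op.B2, Op.R, Op.B2, Op.R, Op.B2, Op.L, Op.L, Op.L, Op.L, Op.B2, Op.R, Op.B2, Op.R, Op.B2, Op.L, Op.L, Op.L, Op.B2, Op.R,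 Op.B2, Op.L, Op.L, Op.B2, Op.L, Op.L, Op.L, Op.L, Op.L, Op.L, Op.L, Op.L, Op.L, Op.L, Op.L, Op.L, Op.L, Op.L, Op.L, Op.L, Op.L, Op.L, Op.B2, Op.R, Op.B2, Op.R, Op.B2, Op.R, Op.B2, Op.R, Op.B2, Op.R, Op.B2, Op.R, Op.B2, Op.L, Op.L, Op.L, Op.L, Op.L, Op.L, Op.L, Op.B2, Op.R, Op.B2, Op.R, Op.B2, Op.R, Op.B2, Op.R, Op.B2, Op.R, Op.B2, Op.L, Op.L, Op.L, Op.L, Op.L, Op.L, Op.B2, Op.R, Op.B2, Op.R, Op.B2, Op.R, Op.B2, Op.L, Op.L, Op.L, Op.L, Op.B2, Op.R, Op.B2, Op.L, Op.L, Op.L, Op.L, Op.L, Op.L, Op.L, Op.L, Op.L, Op.L, Op.L, Op.L, Op.L, Op.L, Op.L, Op.L, Op.B2, Op.R, Op.B2, Op.R, Op.B2, Op.L, Op.L, Op.L, Op.B2, Op.R, Op.B2, Op.L, Op.L, Op.B2, Op.L, Op.L, Op.L, Op.L, Op.L, Op.L, Op.L, Op.L, Op.L,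 Op.L, Op.B2, Op.R, Op.B2, Op.L, Op.L, Op.L, Op.L, Op.L, Op.B2, Op.R, Op.B2, Op.R, Op.B3, Op.R, Op.R, Op.B2, Op.R, Op.B3, Op.R, Op.R, Op.B2, Op.R, Op.B2, Op.R, Op.B2, Op.R, Op.B2, Op.R, Op.B2, Op.R, Op.B3, Op.R, Op.R, Op.B3, Op.R, Op.R, Op.B3, Op.R, Op.R, Op.B3, Op.R, Op.R, Op.B2, Op.R, Op.B2, Op.R, Op.B2, Op.R, Op.B2, Op.R, Op.B2, Op.R, Op.B2, Op.R, Op.B2, Op.R, Op.B2, Op.R, Op.B2, Op.R, Op.B3, Op.R, Op.R, Op.B2, Op.R, Op.B3, Op.R, Op.R, Op.B2, Op.R, Op.B3, Op.R, Op.R, Op.B2, Op.R, Op.B3, Op.R, Op.R, Op.B3, Op.R, Op.R, Op.B2, Op.R, Op.B2, Op.R, Op.B2, Op.R, Op.B2, Op.R, Op.B2, Op.R, Op.B2, Op.R, Op.B2, Op.R, Op.B2, Op.R, Op.B3, Op.R, Op.R, Op.B3, Op.R, Op.R, Op.B3, Op.R, Op.R, Op.B3, Op.R,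 Op.R, Op.B3, Op.R, Op.R, Op.B2, Op.R, Op.B2, Op.R, Op.B2, Op.R, Op.B2, Op.R, Op.B2, Op.R, Op.B2, Op.R, Op.B2, Op.R, Op.B2, Op.R, Op.B2, Op.R, Op.B2, Op.R, Op.B2, Op.R, Op.B2, Op.R, Op.B2, Op.R, Op.B2, Op.R, Op.B3, Op.R, Op.R, Op.B2, Op.R, Op.B3, Op.R, Op.R, Op.B2, Op.R, Op.B3, Op.R, Op.R, Op.B2, Op.R, Op.B3, Op.R, Op.R, Op.B2, Op.R, Op.B2, Op.R, Op.B2, Op.R, Op.B3, Op.R, Op.R, Op.B3, Op.R, Op.R, Op.B2, Op.R, Op.B2, Op.R, Op.C, Op.L, Op.L, Op.L, Op.L, Op.L, Op.L, Op.L, Op.L, Op.L, Op.B2, Op.R, Op.B2, Op.L, Op.L, Op.L, Op.L, Op.L, Op.L, Op.L, Op.L, Op.L, Op.L, Op.L, Op.L, Op.L, Op.B2, Op.R, Op.B2, Op.R, Op.B2, Op.R, Op.B2, Op.R, Op.B2, Op.R, Op.B2, Op.L, Op.L, Op.L, Op.L, Op.L, Op.L, Op.L, Op.B2,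 Op.R, Op.B2, Op.R, Op.B2, Op.R, Op.B2, Op.L, Op.L, Op.L, Op.L, Op.L, Op.B2, Op.R, Op.B2, Op.L, Op.L, Op.L, Op.L, Op.L, Op.L, Op.L, Op.L, Op.L, Op.L, Op.L, Op.B2, Op.R, Op.B2, Op.R, Op.B2, Op.R, Op.B2, Op.R, Op.B2, Op.L, Op.L, Op.L, Op.L, Op.L, Op.L, Op.B2, Op.R, Op.B2, Op.R, Op.B2, Op.R, Op.B2, Op.L, Op.L, Op.L, Op.L, Op.L, Op.B2, Op.R, Op.B2, Op.L, Op.L, Op.L, Op.L, Op.L, Op.L, Op.L, Op.L, Op.L, Op.L, Op.L, Op.L, Op.L, Op.B3, Op.R, Op.R, Op.B2, Op.R, Op.B2, Op.R, Op.B2, Op.R, Op.B2, Op.R, Op.B2, Op.R, Op.B2, Op.L, Op.L, Op.L, Op.L, Op.L, Op.L, Op.L, Op.L, Op.B2, Op.R, Op.B3, Op.R, Op.R, Op.B2, Op.R, Op.B2, Op.R, Op.B2, Op.L, Op.L, Op.L, Op.L, Op.L, Op.L, Op.B2, Op.L, Op.L, Op.B2, Op.L, Op.L,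 Op.L, Op.L, Op.L, Op.L, Op.L, Op.L, Op.L, Op.L, Op.L, Op.B2, Op.R, Op.B2, Op.R, Op.B2, Op.R, Op.B2, Op.R, Op.B2, Op.R, Op.B2, Op.L, Op.L, Op.L, Op.L, Op.L, Op.L, Op.B2, Op.R, Op.B2, Op.R, Op.B2, Op.L, Op.L, Op.L, Op.L, Op.L, Op.B2, Op.R, Op.B2, Op.L, Op.L, Op.L, Op.L, Op.L, Op.L, Op.B2, Op.R, Op.B2, Op.R, Op.B2, Op.R, Op.B2, Op.R, Op.B2, Op.R, Op.B2, Op.R, Op.B3, Op.R, Op.R, Op.B2, Op.R, Op.B2, Op.R, Op.B3, Op.R, Op.R, Op.B2, Op.R, Op.B2, Op.R, Op.B3, Op.R, Op.R, Op.B2, Op.R, Op.B2, Op.R, Op.B2, Op.R, Op.B2, Op.R, Op.B3, Op.R, Op.R, Op.B3, Op.R, Op.R, Op.B2, Op.R, Op.B2, Op.R, Op.B2, Op.R, Op.B2, Op.R, Op.B3, Op.R, Op.R, Op.B2, Op.R, Op.B3, Op.R, Op.R, Op.B2, Op.R, Op.B2, Op.R, Op.B2, Op.R,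 Op.B2, Op.R, Op.B3, Op.L, Op.L, Op.L, Op.L, Op.B2, Op.R, Op.B2, Op.R, Op.B2, Op.L, Op.L, Op.L, Op.L, Op.L, Op.L, Op.L, Op.L, Op.L, Op.L, Op.L, Op.L, Op.L, Op.L, Op.L, Op.L, Op.L, Op.L, Op.B2, Op.R, Op.B2, Op.R, Op.B2, Op.R, Op.B2, Op.R, Op.B2, Op.R, Op.B2, Op.R, Op.B3, Op.R, Op.R, Op.B2, Op.R, Op.B2, Op.L, Op.L, Op.L, Op.L, Op.L, Op.L, Op.L, Op.L, Op.L, Op.L, Op.B2, Op.R, Op.B2, Op.L, Op.L, Op.L, Op.L, Op.L, Op.L, Op.L, Op.L, Op.L, Op.L, Op.L, Op.L, Op.B2, Op.R, Op.B2, Op.R, Op.B2, Op.R, Op.B2, Op.L, Op.L, Op.L, Op.L, Op.L, Op.B2, Op.L, Op.L, Op.L, Op.L, Op.L, Op.B2, Op.L, Op.L, Op.B2, Op.R, Op.B2, Op.R, Op.B3, Op.R, Op.R, Op.B2, Op.R, Op.B2, Op.R, Op.B2, Op.R, Op.B3, Op.R, Op.R, Op.B2, Op.R,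 Op.B2, Op.R, Op.B2, Op.R, Op.B3, Op.R, Op.R, Op.B2, Op.R, Op.B2, Op.R, Op.B2, Op.R, Op.B2, Op.R, Op.B3, Op.R, Op.R, Op.B2, Op.R, Op.B3, Op.R, Op.R, Op.B2, Op.R, Op.B2, Op.R, Op.B3, Op.R, Op.R, Op.B2, Op.R, Op.B2, Op.R, Op.B2, Op.R, Op.B3, Op.R, Op.R, Op.B2, Op.R, Op.B2, Op.R, Op.B2, Op.R, Op.B3, Op.R, Op.R, Op.B2, Op.R, Op.B2, Op.R, Op.B3, Op.R, Op.R, Op.B2, Op.R, Op.B3, Op.R, Op.R, Op.B2, Op.R, Op.B3, Op.R, Op.R, Op.B2, Op.R, Op.B3, Op.R, Op.R, Op.B2, Op.R, Op.B2, Op.R, Op.B2, Op.R, Op.B2, Op.R, Op.B2, Op.R, Op.B3, Op.R, Op.R, Op.B2, Op.R, Op.B2, Op.R, Op.B3, Op.R, Op.R, Op.B2, Op.R, Op.B2, Op.R, Op.B3, Op.R, Op.R, Op.B2, Op.R, Op.B2, Op.R, Op.B2, Op.R, Op.B3, Op.R, Op.R, Op.B2, Op.R, Op.B3,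 Op.R, Op.R, Op.B2, Op.R, Op.B2, Op.R, Op.B3, Op.R, Op.R, Op.B2, Op.R, Op.C, Op.L, Op.L, Op.L, Op.L, Op.L]
    [1, 3, 2, 0, 4, 3, 2, 1, 3, 5, 4, 3, 1, 6, 5, 4, 3, 7, 6, 5, 4, 2, 3, 0, 2, 1, 3, 4, 5, 2, 0, 3, 2, 1, 3, 4, 3]
    [0, 5, 4, 3, 2, 0, 6, 7, 5, 6, 4, 5, 3, 2, 4, 3, 1, 3, 4, 5, 6, 7, 2, 3, 4, 5, 6, 0, 2, 3, 4, 5, 1, 2, 0, 3, 2, 4, 3, 1, 3, 4, 2, 3, 0, 2, 5, 4, 3, 1, 6, 7, 5, 6, 4, 5, 3, 4, 2, 0, 3, 2, 1, 3, 4, 5, 1, 2, 3, 4, 5, 6, 7, 0, 1, 2, 3, 4, 5, 6, 7, 0, 1, 2, 3, 4, 5, 6, 7, 0, 1, 2, 3, 4, 5, 6, 7, 0, 1, 2, 3, 4, 5, 6, 7, 0, 1, 2, 3, 4, 5, 6, 7, 0, 1, 2, 3, 4, 5, 6, 7, 0, 1, 2, 3, 4, 5, 6, 7, 0, 1, 2, 3, 4, 5, 6, 7, 0, 1, 2, 3, 4, 5, 6, 7, 0, 1, 2, 3, 4, 5, 6, 7, 0, 1, 2, 3,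 4, 5, 6, 7, 0, 1, 2, 3, 4, 5, 6, 7] =
    ([3, 4, 0, 2, 3, 1, 5, 4, 3, 2, 6, 5, 4, 3, 7, 6, 5, 4, 0, 2, 3, 1, 3, 4, 5, 2, 3, 4, 0, 2, 3, 1, 3, 2, 6, 5, 4, 3, 1, 0, 2, 3, 4, 7, 6, 5, 4, 3, 2, 1, 3, 4, 0, 2, 3, 1, 6, 5, 4, 3, 2, 7, 6, 5, 4, 3, 0, 2, 1, 3, 4, 6, 5, 4, 1, 3, 7, 6, 5, 4, 2, 3, 1, 0, 2, 3, 4, 5, 0, 3, 2, 1, 3, 4, 3],
     [1, 2, 3, 4, 5, 4, 5, 6, 7, 0, 1, 2, 3, 4, 5, 6, 7, 0, 1, 2, 3, 4, 5, 6, 7, 0, 1, 2, 3, 4, 5, 6, 7, 0, 1, 2, 3, 4, 5, 6, 7, 0, 1, 2, 3, 4, 5, 6, 7, 0, 1, 2, 3, 4, 5, 6, 7, 0, 1, 2, 3, 4, 5, 6, 7, 0, 1, 2, 3, 4, 5, 6, 7, 0, 1, 2, 3, 4, 5, 6, 7, 0, 1, 2, 3, 4, 5, 6, 7, 0, 1, 2, 3, 4, 5, 6, 7, 0, 1, 2, 3, 4, 5, 6, 7]) := by decide +kernel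

set_option maxRecDepth 1000000 in
theorem chunk18 : exec (Mt CoxeterMatrix.E₈) [Op.L, Op.L, Op.L, Op.L, Op.L, Op.L, Op.L, Op.B2, Op.R, Op.B2, Op.R, Op.B2, Op.R, Op.B2, Op.L, Op.L, Op.L, Op.L, Op.B2, Op.L, Op.L, Op.L, Op.L, Op.L, Op.L, Op.L, Op.L, Op.L, Op.L, Op.L, Op.L, Op.L, Op.L, Op.L, Op.B3, Op.R, Op.R, Op.B2, Op.R, Op.B2, Op.R, Op.B2, Op.R, Op.B2, Op.R, Op.B2, Op.R, Op.B2, Op.L, Op.L, Op.L, Op.L, Op.L, Op.L, Op.L, Op.L, Op.L, Op.L, Op.B2, Op.R, Op.B2, Op.R, Op.B2, Op.R, Op.B3, Op.R, Op.R, Op.B2, Op.L, Op.L, Op.L, Op.L, Op.B2, Op.L, Op.L, Op.B2, Op.L, Op.L, Op.L, Op.L, Op.L, Op.L, Op.B3, Op.R, Op.R, Op.B2, Op.R, Op.B2, Op.R, Op.B2, Op.R, Op.B2, Op.R, Op.B3, Op.R, Op.R, Op.B3, Op.R, Op.R,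 Op.B2, Op.R, Op.B2, Op.R, Op.B3, Op.R, Op.R, Op.B2, Op.R, Op.B2, Op.R, Op.B2, Op.R, Op.B3, Op.R, Op.R, Op.B2, Op.R, Op.B2, Op.R, Op.B2, Op.R, Op.B2, Op.R, Op.B3, Op.R, Op.R, Op.B3, Op.R, Op.R, Op.B2, Op.R, Op.B2, Op.R, Op.B3, Op.R, Op.R, Op.B2, Op.R, Op.B2, Op.R, Op.B2, Op.R, Op.B2, Op.R, Op.B3, Op.R, Op.R, Op.C, Op.L, Op.C, Op.L, Op.L, Op.L, Op.L, Op.L, Op.L, Op.L, Op.L, Op.L, Op.L, Op.L, Op.L, Op.L, Op.L, Op.L, Op.B2, Op.R, Op.B2, Op.R, Op.B2, Op.R, Op.B2, Op.R, Op.B2, Op.R, Op.B2, Op.R, Op.B2, Op.L, Op.L, Op.L, Op.L, Op.L, Op.L, Op.L, Op.B2, Op.R, Op.B2, Op.R, Op.B2, Op.L, Op.L, Op.L, Op.B2, Op.L, Op.L, Op.L, Op.L, Op.L, Op.L, Op.L, Op.L, Op.L, Op.L, Op.L, Op.L, Op.L, Op.L, Op.L, Op.L,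 Op.B2, Op.R, Op.B2, Op.R, Op.B2, Op.R, Op.B2, Op.R, Op.B2, Op.R, Op.B2, Op.R, Op.B3, Op.L, Op.L, Op.L, Op.L, Op.L, Op.L, Op.L, Op.B2, Op.R, Op.B2, Op.L, Op.L, Op.L, Op.L, Op.L, Op.L, Op.L, Op.L, Op.L, Op.L, Op.L, Op.L, Op.L, Op.L, Op.L, Op.L, Op.L, Op.L, Op.L, Op.L, Op.L, Op.L, Op.L, Op.L, Op.L, Op.L, Op.L, Op.B2, Op.R, Op.B2, Op.R, Op.B2, Op.R, Op.B2, Op.R, Op.B2, Op.R, Op.B2, Op.R, Op.B2, Op.R, Op.B2, Op.R, Op.B2, Op.R, Op.B2, Op.R, Op.B3, Op.R, Op.R, Op.B2, Op.L, Op.L, Op.L, Op.L, Op.L, Op.L, Op.L, Op.L, Op.L, Op.L, Op.L, Op.L, Op.L, Op.B2, Op.R, Op.B2, Op.R, Op.B2, Op.R, Op.B2, Op.L, Op.L, Op.L, Op.L, Op.B2, Op.L, Op.L, Op.L, Op.L, Op.L, Op.L, Op.L, Op.L, Op.L, Op.L, Op.B2, Op.R, Op.B2,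 Op.L, Op.L, Op.L, Op.L, Op.L, Op.L, Op.L, Op.L, Op.L, Op.L, Op.L, Op.L, Op.L, Op.B2, Op.R, Op.B2, Op.R, Op.B2, Op.R, Op.B2, Op.L, Op.L, Op.L, Op.L, Op.L, Op.L, Op.L, Op.L, Op.L, Op.L, Op.L, Op.L, Op.B2, Op.R, Op.B2, Op.R, Op.B3, Op.R, Op.R, Op.B2, Op.R, Op.B2, Op.R, Op.B2, Op.R, Op.B3, Op.R, Op.R, Op.B2, Op.R, Op.B2, Op.R, Op.B2, Op.R, Op.B3, Op.R, Op.R, Op.B2, Op.R, Op.B2, Op.R, Op.B2, Op.R, Op.B2, Op.R, Op.B2, Op.R, Op.B3, Op.R, Op.R, Op.B2, Op.R, Op.B3, Op.R, Op.R, Op.B2, Op.R, Op.B2, Op.R, Op.B2, Op.R, Op.B2, Op.R, Op.B2, Op.R, Op.B3, Op.R, Op.R, Op.B3, Op.R, Op.R, Op.B2, Op.R, Op.B2, Op.R, Op.B3, Op.R, Op.R, Op.B2, Op.R, Op.B2, Op.R, Op.B2, Op.R, Op.B2, Op.R, Op.B3, Op.R, Op.R, Op.B2,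 Op.R, Op.B2, Op.R, Op.B3, Op.R, Op.R, Op.B2, Op.R, Op.B2, Op.R, Op.B2, Op.R, Op.B2, Op.R, Op.B2, Op.R, Op.B3, Op.R, Op.R, Op.B2, Op.R, Op.B2, Op.R, Op.B2, Op.R, Op.B3, Op.R, Op.R, Op.B2, Op.R, Op.B3, Op.R, Op.R, Op.B2, Op.R, Op.B2, Op.R, Op.B3, Op.R, Op.R, Op.B2, Op.R, Op.B3, Op.R, Op.R, Op.B2, Op.R, Op.B2, Op.R, Op.B2, Op.R, Op.B2, Op.R, Op.B2, Op.R, Op.B3, Op.R, Op.R, Op.B3, Op.R, Op.R, Op.B2, Op.R, Op.B3, Op.R, Op.R, Op.B2, Op.R, Op.B2, Op.R, Op.B2, Op.R, Op.B3, Op.R, Op.R, Op.B2, Op.R, Op.B2, Op.R, Op.B2, Op.R, Op.B2, Op.R, Op.B2, Op.R, Op.B2, Op.R, Op.C, Op.L, Op.L, Op.L, Op.L, Op.L, Op.L, Op.L, Op.L, Op.L, Op.L, Op.L, Op.L, Op.L, Op.L, Op.L, Op.L, Op.L, Op.L, Op.L, Op.L, Op.B2, Op.R,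 Op.B2, Op.R, Op.B2, Op.R, Op.B2, Op.R, Op.B2, Op.R, Op.B2, Op.R, Op.B2, Op.R, Op.B2, Op.R, Op.B2, Op.R, Op.B2, Op.R, Op.B2, Op.L, Op.L, Op.L, Op.L, Op.L, Op.L, Op.L, Op.L, Op.L, Op.L, Op.L, Op.B2, Op.R, Op.B2, Op.R, Op.B2, Op.R, Op.B2, Op.R, Op.B2, Op.R, Op.B2, Op.L, Op.L, Op.L, Op.L, Op.L, Op.L, Op.B2, Op.R, Op.B2, Op.R, Op.B2, Op.L, Op.L, Op.L, Op.B2, Op.L, Op.L, Op.L, Op.L, Op.L, Op.L, Op.L, Op.B2, Op.L, Op.L, Op.L, Op.L, Op.L, Op.L, Op.L, Op.L, Op.L, Op.L, Op.L, Op.L, Op.L, Op.L, Op.L, Op.L, Op.L, Op.L, Op.L, Op.L, Op.L, Op.L, Op.L, Op.L, Op.L, Op.L, Op.L, Op.L, Op.L, Op.L, Op.L, Op.L, Op.L, Op.L, Op.L, Op.B2, Op.R, Op.B2, Op.R, Op.B2, Op.R, Op.B2, Op.R, Op.B2, Op.R, Op.B2, Op.R, Op.B2,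 Op.R, Op.B2, Op.R, Op.B2, Op.R, Op.B2, Op.R, Op.B2, Op.R, Op.B2, Op.R, Op.B2, Op.R, Op.B2, Op.R, Op.B2, Op.R, Op.B3, Op.L, Op.L, Op.L, Op.L, Op.L, Op.L, Op.L, Op.L, Op.L, Op.L, Op.L, Op.L, Op.L, Op.L, Op.L, Op.L, Op.B2, Op.R, Op.B2, Op.R, Op.B2, Op.R, Op.B2, Op.R, Op.B2, Op.R, Op.B2, Op.R, Op.B2, Op.L, Op.L, Op.L, Op.L, Op.L, Op.L, Op.L, Op.B2, Op.R, Op.B2, Op.R, Op.B2, Op.L, Op.L, Op.L, Op.B2, Op.L, Op.L, Op.L, Op.L, Op.L, Op.L, Op.L, Op.L, Op.L, Op.L, Op.L, Op.L, Op.L, Op.L, Op.L, Op.L, Op.L, Op.L, Op.L, Op.B2, Op.R, Op.B2, Op.R, Op.B2, Op.R, Op.B2, Op.R, Op.B2, Op.R, Op.B2, Op.L, Op.L, Op.L, Op.L, Op.L, Op.L, Op.B2, Op.L, Op.L, Op.L, Op.L, Op.L, Op.L, Op.B2, Op.R, Op.B2, Op.R, Op.B2, Op.R,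 Op.B2, Op.R, Op.B3, Op.R, Op.R, Op.B3, Op.R, Op.R, Op.B2, Op.R, Op.B2, Op.R, Op.B2, Op.R, Op.B2, Op.R, Op.B3, Op.R, Op.R, Op.B2, Op.R, Op.B2, Op.R, Op.B2, Op.R, Op.B2, Op.R, Op.B2, Op.R, Op.B2, Op.R, Op.B2, Op.R, Op.B3, Op.R, Op.R, Op.B2, Op.R, Op.B3, Op.R, Op.R, Op.B3, Op.R, Op.R, Op.B2, Op.R, Op.B3, Op.R, Op.R, Op.B2, Op.R, Op.B2, Op.R, Op.B2, Op.R, Op.B3, Op.R, Op.R, Op.B2, Op.R, Op.B2, Op.R, Op.B2, Op.R, Op.B2, Op.R, Op.B2, Op.R, Op.B2, Op.R, Op.B3, Op.R, Op.R, Op.B2, Op.R, Op.B3, Op.R, Op.R, Op.B2, Op.R, Op.B2, Op.R, Op.B2, Op.R, Op.B2, Op.R, Op.B2, Op.R, Op.B2, Op.R, Op.B2, Op.R, Op.B3, Op.R, Op.R, Op.B2, Op.R, Op.B2, Op.R, Op.B2, Op.R, Op.B3, Op.R, Op.R, Op.B2, Op.R, Op.B3, Op.R, Op.R,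 Op.B3, Op.R, Op.R, Op.B2, Op.R, Op.B2, Op.R, Op.B2, Op.R, Op.B3, Op.R, Op.R, Op.B3, Op.R, Op.R, Op.B2, Op.R, Op.B3, Op.R, Op.R, Op.B2, Op.R, Op.B2, Op.R, Op.B3, Op.R, Op.R, Op.B2, Op.R, Op.B2, Op.R, Op.B2, Op.R, Op.B2, Op.R, Op.B3, Op.R, Op.R, Op.B2, Op.R, Op.B2, Op.R, Op.B2, Op.R, Op.B2, Op.R, Op.B2, Op.R, Op.B2, Op.R, Op.B2, Op.R, Op.C, Op.L, Op.L, Op.L, Op.L, Op.L, Op.L, Op.L, Op.L, Op.L, Op.L, Op.B2, Op.R, Op.B2, Op.R, Op.B2, Op.R, Op.B2, Op.R, Op.B2, Op.R, Op.B2, Op.L, Op.L, Op.L, Op.L, Op.L, Op.L, Op.B2, Op.R, Op.B2, Op.R, Op.B2, Op.R, Op.B2, Op.L, Op.L, Op.L, Op.L, Op.B2, Op.R, Op.B2, Op.R, Op.B2, Op.L, Op.L, Op.L, Op.B2, Op.R, Op.B2, Op.L, Op.L, Op.B2, Op.L, Op.L, Op.L, Op.L, Op.L,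 Op.L, Op.L, Op.L, Op.L, Op.L, Op.L, Op.L, Op.L, Op.L, Op.L, Op.L, Op.L, Op.L, Op.L, Op.L]
    [3, 4, 0, 2, 3, 1, 5, 4, 3, 2, 6, 5, 4, 3, 7, 6, 5, 4, 0, 2, 3, 1, 3, 4, 5, 2, 3, 4, 0, 2, 3, 1, 3, 2, 6, 5, 4, 3, 1, 0, 2, 3, 4, 7, 6, 5, 4, 3, 2, 1, 3, 4, 0, 2, 3, 1, 6, 5, 4, 3, 2, 7, 6, 5, 4, 3, 0, 2, 1, 3, 4, 6, 5, 4, 1, 3, 7, 6, 5, 4, 2, 3, 1, 0, 2, 3, 4, 5, 0, 3, 2, 1, 3, 4, 3]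
    [1, 2, 3, 4, 5, 4, 5, 6, 7, 0, 1, 2, 3, 4, 5, 6, 7, 0, 1, 2, 3, 4, 5, 6, 7, 0, 1, 2, 3, 4, 5, 6, 7, 0, 1, 2, 3, 4, 5, 6, 7, 0, 1, 2, 3, 4, 5, 6, 7, 0, 1, 2, 3, 4, 5, 6, 7, 0, 1, 2, 3, 4, 5, 6, 7, 0, 1, 2, 3, 4, 5, 6, 7, 0, 1, 2, 3, 4, 5, 6, 7, 0, 1, 2, 3, 4, 5, 6, 7, 0, 1, 2, 3, 4, 5, 6, 7, 0, 1, 2, 3, 4, 5, 6, 7] =
    ([3, 1, 2, 6, 5, 4, 3, 1, 0, 2, 3, 4, 5, 6, 7, 6, 5, 4, 3, 2, 1, 3, 4, 5, 6, 0, 2, 3, 4, 5, 1, 3, 4, 2, 3, 1, 0, 2, 3, 4, 6, 5, 4, 1, 3, 2, 0, 7, 6, 5, 4, 3, 2, 1, 3, 4, 5, 0, 2, 3, 4, 3],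
     [4, 5, 2, 3, 4, 1, 3, 2, 0, 2, 3, 1, 4, 3, 2, 5, 4, 3, 1, 6, 7, 5, 6, 4, 5, 3, 4, 2, 3, 1, 0, 2, 3, 4, 0, 1, 2, 3, 4, 5, 6, 7, 0, 1, 2, 3, 4, 5, 6, 7, 0, 1, 2, 3, 4, 5, 6, 7, 0, 1, 2, 3, 4, 5, 6, 7, 0, 1, 2, 3, 4, 5, 6, 7, 0, 1, 2, 3, 4, 5, 6, 7, 0, 1, 2, 3, 4, 5, 6, 7, 0, 1, 2, 3, 4, 5, 6, 7, 0, 1, 2, 3, 4, 5, 6, 7, 0, 1, 2, 3, 4, 5, 6, 7, 0, 1, 2, 3, 4, 5, 6, 7, 0, 1, 2, 3, 4, 5, 6, 7]) := by decide +kernel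

set_option maxRecDepth 1000000 in
theorem chunk19 : exec (Mt CoxeterMatrix.E₈) [Op.L, Op.L, Op.L, Op.L, Op.L, Op.L, Op.L, Op.L, Op.L, Op.L, Op.L, Op.L, Op.L, Op.L, Op.L, Op.L, Op.B3, Op.R, Op.R, Op.B2, Op.R, Op.B2, Op.R, Op.B2, Op.R, Op.B2, Op.R, Op.B2, Op.R, Op.B2, Op.R, Op.B2, Op.R, Op.B2, Op.R, Op.B2, Op.L, Op.L, Op.L, Op.L, Op.L, Op.L, Op.L, Op.L, Op.L, Op.L, Op.L, Op.B2, Op.R, Op.B3, Op.R, Op.R, Op.B2, Op.R, Op.B2, Op.R, Op.B2, Op.R, Op.B2, Op.R, Op.B2, Op.R, Op.B2, Op.R, Op.B2, Op.L, Op.L, Op.L, Op.L, Op.L, Op.L, Op.L, Op.L, Op.L, Op.L, Op.B2, Op.R, Op.B2, Op.R, Op.B3, Op.R, Op.R, Op.B2, Op.R, Op.B2, Op.R, Op.B2, Op.R, Op.B2, Op.R, Op.B2, Op.L, Op.L, Op.L, Op.L, Op.L, Op.L, Op.L, Op.L,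 Op.L, Op.B2, Op.R, Op.B2, Op.R, Op.B2, Op.R, Op.B3, Op.R, Op.R, Op.B2, Op.R, Op.B2, Op.R, Op.B2, Op.L, Op.L, Op.L, Op.L, Op.L, Op.L, Op.L, Op.L, Op.B2, Op.R, Op.B2, Op.R, Op.B2, Op.R, Op.B2, Op.R, Op.B3, Op.R, Op.R, Op.B2, Op.L, Op.L, Op.L, Op.L, Op.L, Op.L, Op.L, Op.B2, Op.R, Op.B2, Op.R, Op.B2, Op.R, Op.B2, Op.L, Op.L, Op.L, Op.L, Op.B2, Op.R, Op.B2, Op.R, Op.B2, Op.L, Op.L, Op.L, Op.B2, Op.R, Op.B2, Op.L, Op.L, Op.B2, Op.L, Op.L, Op.L, Op.L, Op.L, Op.L, Op.L, Op.L, Op.L, Op.L, Op.L, Op.L, Op.L, Op.L, Op.L, Op.L, Op.L, Op.L, Op.L, Op.L, Op.L, Op.L, Op.L, Op.L, Op.B2, Op.R, Op.B2, Op.R, Op.B2, Op.R, Op.B2, Op.R, Op.B2, Op.R, Op.B2, Op.L, Op.L, Op.L, Op.L, Op.L, Op.L, Op.B2, Op.R, Op.B2, Op.R,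 Op.B2, Op.R, Op.B2, Op.R, Op.B2, Op.L, Op.L, Op.L, Op.L, Op.L, Op.B2, Op.R, Op.B2, Op.R, Op.B2, Op.R, Op.B2, Op.L, Op.L, Op.L, Op.L, Op.B2, Op.R, Op.B2, Op.L, Op.L, Op.B2, Op.L, Op.L, Op.L, Op.L, Op.L, Op.L, Op.B2, Op.R, Op.B2, Op.R, Op.B2, Op.R, Op.B2, Op.R, Op.B3, Op.R, Op.R, Op.B3, Op.R, Op.R, Op.B3, Op.R, Op.R, Op.B2, Op.R, Op.B3, Op.R, Op.R, Op.B3, Op.R, Op.R, Op.B3, Op.R, Op.R, Op.B2, Op.R, Op.B2, Op.R, Op.B2, Op.R, Op.B2, Op.R, Op.B2, Op.R, Op.B2, Op.R, Op.B2, Op.R, Op.B2, Op.R, Op.B2, Op.R, Op.B2, Op.R, Op.B2, Op.R, Op.B2, Op.R, Op.B2, Op.R, Op.B2, Op.R, Op.B2, Op.R, Op.B3, Op.R, Op.R, Op.B3, Op.R, Op.R, Op.B3, Op.R, Op.R, Op.B3, Op.R, Op.R, Op.B3, Op.R, Op.R, Op.B2, Op.R, Op.B2, Op.R,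 Op.B3, Op.R, Op.R, Op.B3, Op.R, Op.R, Op.B3, Op.R, Op.R, Op.B3, Op.R, Op.R, Op.B3, Op.R, Op.R, Op.B2, Op.R, Op.B2, Op.R, Op.B2, Op.R, Op.B2, Op.R, Op.B2, Op.R, Op.B2, Op.R, Op.B2, Op.R, Op.B2, Op.R, Op.B2, Op.R, Op.B2, Op.R, Op.B2, Op.R, Op.B2, Op.R, Op.B2, Op.R, Op.B2, Op.R, Op.B2, Op.R, Op.B2, Op.R, Op.B2, Op.R, Op.B2, Op.R, Op.B2, Op.R, Op.B2, Op.R, Op.B2, Op.R, Op.B2, Op.R, Op.B3, Op.R, Op.R, Op.B3, Op.R, Op.R, Op.B3, Op.R, Op.R, Op.B3, Op.R, Op.R, Op.B3, Op.R, Op.R, Op.B2, Op.R, Op.B3, Op.R, Op.R, Op.B2, Op.R, Op.B2, Op.R, Op.C, Op.L, Op.L, Op.L, Op.L, Op.L, Op.B2, Op.R, Op.B2, Op.L, Op.L, Op.B2, Op.L, Op.L, Op.L, Op.L, Op.L, Op.L, Op.L, Op.L, Op.L, Op.L, Op.L, Op.L, Op.L, Op.L, Op.L,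 Op.L, Op.L, Op.L, Op.L, Op.L, Op.L, Op.B3, Op.R, Op.R, Op.B2, Op.R, Op.B2, Op.R, Op.B2, Op.R, Op.B2, Op.L, Op.L, Op.L, Op.L, Op.L, Op.L, Op.B2, Op.R, Op.B3, Op.R, Op.R, Op.B2, Op.R, Op.B2, Op.L, Op.L, Op.L, Op.L, Op.L, Op.B2, Op.R, Op.B2, Op.R, Op.B3, Op.L, Op.L, Op.L, Op.B2, Op.R, Op.B2, Op.L, Op.L, Op.B2, Op.L, Op.L, Op.L, Op.L, Op.L, Op.L, Op.L, Op.L, Op.L, Op.L, Op.L, Op.L, Op.L, Op.L, Op.L, Op.L, Op.L, Op.B2, Op.R, Op.B2, Op.R, Op.B2, Op.R, Op.B2, Op.R, Op.B2, Op.R, Op.B2, Op.R, Op.B2, Op.R, Op.B2, Op.R, Op.B2, Op.R, Op.B2, Op.L, Op.L, Op.L, Op.L, Op.L, Op.L, Op.L, Op.L, Op.L, Op.L, Op.L, Op.B3, Op.R, Op.R, Op.B2, Op.R, Op.B2, Op.L, Op.L, Op.L, Op.L, Op.B2, Op.R, Op.B3, Op.L, Op.L, Op.B2,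 Op.L, Op.L, Op.L, Op.L, Op.L, Op.L, Op.L, Op.L, Op.L, Op.L, Op.L, Op.L, Op.L, Op.L, Op.L, Op.L, Op.L, Op.L, Op.L, Op.B2, Op.R, Op.B2, Op.L, Op.L, Op.B2, Op.L, Op.L, Op.L, Op.L, Op.L, Op.L, Op.L, Op.L, Op.L, Op.B2, Op.R, Op.B2, Op.R, Op.B2, Op.R, Op.B2, Op.R, Op.B2, Op.R, Op.B2, Op.R, Op.B2, Op.R, Op.B3, Op.R, Op.R, Op.B3, Op.R, Op.R, Op.B3, Op.R, Op.R, Op.B2, Op.R, Op.B2, Op.R, Op.B2, Op.R, Op.B2, Op.R, Op.B2, Op.R, Op.B2, Op.R, Op.B3, Op.R, Op.R, Op.B2, Op.R, Op.B2, Op.R, Op.B2, Op.R, Op.B2, Op.R, Op.B2, Op.R, Op.B2, Op.R, Op.B3, Op.R, Op.R, Op.B3, Op.R, Op.R, Op.B2, Op.R, Op.B3, Op.R, Op.R, Op.B3, Op.R, Op.R, Op.B2, Op.R, Op.B2, Op.R, Op.B2, Op.R, Op.B2, Op.R, Op.B2, Op.R, Op.B2, Op.R, Op.B3,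 Op.R, Op.R, Op.B2, Op.R, Op.B2, Op.R, Op.B2, Op.R, Op.B2, Op.R, Op.B3, Op.R, Op.R, Op.B3, Op.R, Op.R, Op.B3, Op.R, Op.R, Op.B2, Op.R, Op.B3, Op.R, Op.R, Op.B3, Op.R, Op.R, Op.B3, Op.R, Op.R, Op.B2, Op.R, Op.B2, Op.R, Op.B2, Op.R, Op.B2, Op.R, Op.B2, Op.R, Op.B2, Op.R, Op.B2, Op.R, Op.B2, Op.R, Op.B2, Op.R, Op.B2, Op.R, Op.B2, Op.R, Op.B2, Op.R, Op.B3, Op.R, Op.R, Op.B3, Op.R, Op.R, Op.B3, Op.R, Op.R, Op.B2, Op.R, Op.C, Op.L, Op.L, Op.L, Op.L, Op.B2, Op.L, Op.L, Op.L, Op.L, Op.L, Op.L, Op.L, Op.L, Op.L, Op.L, Op.L, Op.L, Op.B2, Op.R, Op.B2, Op.R, Op.B2, Op.R, Op.B2, Op.R, Op.B2, Op.R, Op.B2, Op.L, Op.L, Op.L, Op.L, Op.L, Op.L, Op.B2, Op.R, Op.B2, Op.R, Op.B2, Op.R, Op.B2, Op.L, Op.L, Op.L,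 Op.L, Op.B2, Op.R, Op.B2, Op.L, Op.L, Op.L, Op.L, Op.L, Op.L, Op.L, Op.L, Op.L, Op.L, Op.L, Op.L, Op.L, Op.L, Op.L, Op.L, Op.L, Op.L, Op.L, Op.L, Op.L, Op.L, Op.B2, Op.R, Op.B2, Op.R, Op.B2, Op.R, Op.B2, Op.R, Op.B2, Op.L, Op.L, Op.L, Op.L, Op.L, Op.L, Op.B2, Op.R, Op.B2, Op.R, Op.B2, Op.R, Op.B2, Op.R, Op.B2, Op.L, Op.L, Op.L, Op.L, Op.L, Op.L, Op.B2, Op.R, Op.B2, Op.R, Op.B2, Op.R, Op.B2, Op.R, Op.B2, Op.L, Op.L, Op.L, Op.L, Op.L, Op.L, Op.B2, Op.R, Op.B2, Op.R, Op.B2, Op.R, Op.B2, Op.L, Op.L, Op.L, Op.L, Op.B2, Op.R, Op.B2, Op.R, Op.B2, Op.L, Op.L, Op.L, Op.L, Op.L, Op.L, Op.L, Op.L, Op.L, Op.L, Op.L, Op.L, Op.L, Op.L, Op.L, Op.L, Op.B2, Op.R, Op.B2, Op.R, Op.B2, Op.R, Op.B2, Op.R, Op.B2,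 Op.R, Op.B2, Op.R, Op.B2, Op.L, Op.L, Op.L, Op.L, Op.L, Op.L, Op.L, Op.B2, Op.R, Op.B2, Op.R, Op.B2, Op.R, Op.B2, Op.R, Op.B2, Op.R, Op.B2, Op.L, Op.L, Op.L, Op.L, Op.L, Op.L, Op.B2, Op.R, Op.B2, Op.R, Op.B2, Op.R, Op.B2, Op.L, Op.L, Op.L, Op.L, Op.B2, Op.R, Op.B2, Op.L, Op.L, Op.L, Op.L, Op.L, Op.L, Op.L, Op.L, Op.L, Op.L, Op.L, Op.L, Op.L, Op.B2, Op.R, Op.B2, Op.R, Op.B2, Op.R, Op.B2, Op.R, Op.B2, Op.R, Op.B2, Op.R, Op.B2, Op.R, Op.B2, Op.R, Op.B2, Op.R, Op.B2, Op.R, Op.B3, Op.R, Op.R, Op.B2, Op.R, Op.B3, Op.R, Op.R, Op.B2, Op.R, Op.B3, Op.R, Op.R, Op.B2, Op.R, Op.B3, Op.R, Op.R, Op.B3, Op.R, Op.R, Op.B2, Op.R, Op.B2, Op.R, Op.B2, Op.R, Op.B2, Op.R, Op.B2, Op.R, Op.B2, Op.R, Op.B2, Op.R,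 Op.B2, Op.R, Op.B3, Op.R, Op.R, Op.B3, Op.L, Op.L, Op.L, Op.L, Op.L, Op.L, Op.L, Op.L]
    [3, 1, 2, 6, 5, 4, 3, 1, 0, 2, 3, 4, 5, 6, 7, 6, 5, 4, 3, 2, 1, 3, 4, 5, 6, 0, 2, 3, 4, 5, 1, 3, 4, 2, 3, 1, 0, 2, 3, 4, 6, 5, 4, 1, 3, 2, 0, 7, 6, 5, 4, 3, 2, 1, 3, 4, 5, 0, 2, 3, 4, 3]
    [4, 5, 2, 3, 4, 1, 3, 2, 0, 2, 3, 1, 4, 3, 2, 5, 4, 3, 1, 6, 7, 5, 6, 4, 5, 3, 4, 2, 3, 1, 0, 2, 3, 4, 0, 1, 2, 3, 4, 5, 6, 7, 0, 1, 2, 3, 4, 5, 6, 7, 0, 1, 2, 3, 4, 5, 6, 7, 0, 1, 2, 3, 4, 5, 6, 7, 0, 1, 2, 3, 4, 5, 6, 7, 0, 1, 2, 3, 4, 5, 6, 7, 0, 1, 2, 3, 4, 5, 6, 7, 0, 1, 2, 3, 4, 5, 6, 7, 0, 1, 2, 3, 4, 5, 6, 7, 0, 1, 2, 3, 4, 5, 6, 7, 0, 1, 2, 3, 4, 5, 6, 7, 0, 1, 2, 3, 4, 5, 6, 7] =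
    ([3, 4, 2, 0, 3, 2, 5, 4, 3, 6, 5, 4, 7, 6, 5, 1, 3, 4, 2, 0, 3, 2, 1, 3, 4, 7, 5, 6, 4, 5, 3, 4, 2, 3, 0, 2, 1, 3, 4, 5, 2, 3, 4, 3],
     [1, 3, 4, 5, 6, 7, 2, 0, 3, 2, 3, 1, 4, 3, 5, 4, 6, 5, 2, 0, 3, 2, 4, 3, 1, 3, 4, 2, 3, 0, 2, 5, 6, 7, 4, 5, 6, 3, 4, 5, 1, 3, 4, 2, 0, 3, 1, 2, 3, 4, 2, 3, 4, 5, 6, 7, 0, 1, 2, 3, 4, 5, 6, 7, 0, 1, 2, 3, 4, 5, 6, 7, 0, 1, 2, 3, 4, 5, 6, 7, 0, 1, 2, 3, 4, 5, 6, 7, 0, 1, 2, 3, 4, 5, 6, 7, 0, 1, 2, 3, 4, 5, 6, 7, 0, 1, 2, 3, 4, 5, 6, 7, 0, 1, 2, 3, 4, 5, 6, 7, 0, 1, 2, 3, 4, 5, 6, 7, 0, 1, 2, 3, 4, 5, 6, 7, 0, 1, 2, 3, 4, 5, 6, 7]) := by decide +kernel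

set_option maxRecDepth 1000000 in
theorem chunk20 : exec (Mt CoxeterMatrix.E₈) [Op.L, Op.B3, Op.R, Op.R, Op.B2, Op.R, Op.B2, Op.R, Op.B2, Op.R, Op.B2, Op.R, Op.B2, Op.R, Op.B2, Op.L, Op.L, Op.L, Op.L, Op.L, Op.L, Op.L, Op.L, Op.B2, Op.R, Op.B3, Op.R, Op.R, Op.B2, Op.R, Op.B2, Op.R, Op.B2, Op.L, Op.L, Op.L, Op.L, Op.L, Op.L, Op.B2, Op.L, Op.L, Op.B2, Op.L, Op.L, Op.L, Op.L, Op.L, Op.L, Op.L, Op.L, Op.L, Op.L, Op.L, Op.B2, Op.R, Op.B2, Op.R, Op.B2, Op.R, Op.B2, Op.R, Op.B2, Op.R, Op.B2, Op.L, Op.L, Op.L, Op.L, Op.L, Op.L, Op.B2, Op.R, Op.B2, Op.R, Op.B2, Op.L, Op.L, Op.L, Op.L, Op.L, Op.L, Op.L, Op.L, Op.L, Op.L, Op.L, Op.L, Op.B2, Op.L, Op.L, Op.B2, Op.R, Op.B2, Op.R, Op.B3, Op.R, Op.R, Op.B2,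 Op.R, Op.B2, Op.R, Op.B2, Op.R, Op.B2, Op.R, Op.B2, Op.R, Op.B2, Op.R, Op.B3, Op.R, Op.R, Op.B2, Op.R, Op.B2, Op.R, Op.B3, Op.R, Op.R, Op.B2, Op.R, Op.B2, Op.R, Op.B3, Op.R, Op.R, Op.B2, Op.R, Op.B2, Op.R, Op.B2, Op.R, Op.B2, Op.R, Op.B3, Op.R, Op.R, Op.B3, Op.R, Op.R, Op.B2, Op.R, Op.B2, Op.R, Op.B2, Op.R, Op.B2, Op.R, Op.B3, Op.R, Op.R, Op.B2, Op.R, Op.B3, Op.R, Op.R, Op.B2, Op.R, Op.B3, Op.R, Op.R, Op.B3, Op.R, Op.R, Op.B3, Op.R, Op.R, Op.B3, Op.R, Op.R, Op.B2, Op.R, Op.B2, Op.R, Op.B2, Op.R, Op.B2, Op.R, Op.B2, Op.R, Op.B2, Op.R, Op.B2, Op.R, Op.B2, Op.R, Op.B2, Op.R, Op.B2, Op.R, Op.B2, Op.R, Op.B2, Op.R, Op.B2, Op.R, Op.B3, Op.R, Op.R, Op.B2, Op.R, Op.B3, Op.R, Op.R, Op.B2, Op.R, Op.B3,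 Op.R, Op.R, Op.B2, Op.R, Op.B3, Op.R, Op.R, Op.B2, Op.R, Op.B2, Op.R, Op.B2, Op.R, Op.B3, Op.R, Op.R, Op.B3, Op.R, Op.R, Op.B2, Op.R, Op.C, Op.L, Op.L, Op.L, Op.L, Op.L, Op.L, Op.L, Op.L, Op.B2, Op.R, Op.B2, Op.L, Op.L, Op.L, Op.L, Op.L, Op.L, Op.L, Op.L, Op.L, Op.L, Op.L, Op.L, Op.L, Op.B2, Op.R, Op.B2, Op.R, Op.B2, Op.R, Op.B2, Op.R, Op.B2, Op.R, Op.B2, Op.L, Op.L, Op.L, Op.L, Op.L, Op.L, Op.L, Op.B2, Op.R, Op.B2, Op.R, Op.B2, Op.R, Op.B2, Op.L, Op.L, Op.L, Op.L, Op.L, Op.B2, Op.R, Op.B2, Op.L, Op.L, Op.L, Op.L, Op.L, Op.L, Op.L, Op.L, Op.L, Op.L, Op.B2, Op.R, Op.B2, Op.R, Op.B2, Op.R, Op.B2, Op.L, Op.L, Op.L, Op.L, Op.L, Op.B2, Op.R, Op.B2, Op.R, Op.B2, Op.L, Op.L, Op.L, Op.L, Op.B2, Op.R,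 Op.B2, Op.L, Op.L, Op.L, Op.L, Op.L, Op.L, Op.B3, Op.R, Op.R, Op.B2, Op.R, Op.B2, Op.R, Op.B2, Op.R, Op.B2, Op.R, Op.B3, Op.R, Op.R, Op.B2, Op.R, Op.B3, Op.R, Op.R, Op.B2, Op.R, Op.B3, Op.R, Op.R, Op.B2, Op.R, Op.B2, Op.R, Op.B2, Op.R, Op.B2, Op.R, Op.B2, Op.R, Op.B3, Op.R, Op.R, Op.B2, Op.R, Op.B2, Op.R, Op.B3, Op.R, Op.R, Op.B2, Op.R, Op.B2, Op.R, Op.B3, Op.R, Op.R, Op.B2, Op.R, Op.B2, Op.R, Op.B2, Op.R, Op.B3, Op.R, Op.R, Op.B2, Op.R, Op.B3, Op.R, Op.R, Op.B2, Op.R, Op.B2, Op.R, Op.B3, Op.R, Op.R, Op.C, Op.L, Op.C, Op.L, Op.L, Op.L, Op.L, Op.L, Op.L, Op.L, Op.L, Op.L, Op.L, Op.B2, Op.R, Op.B2, Op.R, Op.B2, Op.R, Op.B2, Op.L, Op.L, Op.L, Op.L, Op.B2, Op.L, Op.L, Op.L, Op.L, Op.L, Op.L, Op.L,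 Op.L, Op.L, Op.L, Op.L, Op.L, Op.L, Op.L, Op.L, Op.B3, Op.R, Op.R, Op.B2, Op.R, Op.B2, Op.R, Op.B2, Op.R, Op.B2, Op.R, Op.B2, Op.R, Op.B2, Op.L, Op.L, Op.L, Op.L, Op.L, Op.L, Op.L, Op.L, Op.L, Op.L, Op.B2, Op.R, Op.B2, Op.R, Op.B2, Op.R, Op.B3, Op.R, Op.R, Op.B2, Op.L, Op.L, Op.L, Op.L, Op.B2, Op.L, Op.L, Op.B2, Op.L, Op.L, Op.L, Op.L, Op.L, Op.L, Op.L, Op.L, Op.B2, Op.R, Op.B2, Op.R, Op.B2, Op.L, Op.L, Op.L, Op.L, Op.L, Op.L, Op.L, Op.L, Op.L, Op.L, Op.L, Op.L, Op.L, Op.L, Op.L, Op.L, Op.L, Op.L, Op.L, Op.B2, Op.R, Op.B2, Op.R, Op.B2, Op.R, Op.B2, Op.R, Op.B2, Op.R, Op.B2, Op.R, Op.B3, Op.R, Op.R, Op.B2, Op.R, Op.B2, Op.L, Op.L, Op.L, Op.L, Op.L, Op.L, Op.L, Op.L, Op.L, Op.L, Op.B2, Op.R,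 Op.B2, Op.L, Op.L, Op.L, Op.L, Op.L, Op.L, Op.L, Op.L, Op.L, Op.L, Op.L, Op.L, Op.B2, Op.R, Op.B2, Op.R, Op.B2, Op.R, Op.B2, Op.L, Op.L, Op.L, Op.L, Op.L, Op.B2, Op.L, Op.L, Op.L, Op.L, Op.L, Op.L, Op.L, Op.L, Op.L, Op.B2, Op.R, Op.B2, Op.R, Op.B2, Op.R, Op.B2, Op.R, Op.B3, Op.R, Op.R, Op.B2, Op.R, Op.B2, Op.R, Op.B2, Op.R, Op.B3, Op.R, Op.R, Op.B2, Op.R, Op.B2, Op.R, Op.B2, Op.R, Op.B3, Op.R, Op.R, Op.B2, Op.R, Op.B2, Op.R, Op.B2, Op.R, Op.B2, Op.R, Op.B3, Op.R, Op.R, Op.B2, Op.R, Op.B3, Op.R, Op.R, Op.B2, Op.R, Op.B2, Op.R, Op.B3, Op.R, Op.R, Op.B2, Op.R, Op.B2, Op.R, Op.B2, Op.R, Op.B3, Op.R, Op.R, Op.B2, Op.R, Op.B2, Op.R, Op.B2, Op.R, Op.B2, Op.R, Op.B3, Op.R, Op.R, Op.B2, Op.R, Op.B2,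 Op.R, Op.B3, Op.R, Op.R, Op.B2, Op.R, Op.B2, Op.R, Op.B2, Op.R, Op.B2, Op.R, Op.B3, Op.R, Op.R, Op.B3, Op.R, Op.R, Op.B2, Op.R, Op.B2, Op.R, Op.B3, Op.R, Op.R, Op.B2, Op.R, Op.B2, Op.R, Op.B2, Op.R, Op.B3, Op.R, Op.R, Op.B2, Op.R, Op.B2, Op.R, Op.B2, Op.R, Op.B2, Op.R, Op.B3, Op.R, Op.R, Op.B3, Op.R, Op.R, Op.B2, Op.R, Op.B2, Op.R, Op.B3, Op.R, Op.R, Op.B2, Op.R, Op.B2, Op.R, Op.B2, Op.R, Op.B2, Op.R, Op.C, Op.L, Op.L, Op.L, Op.L, Op.L, Op.L, Op.L, Op.L, Op.L, Op.L, Op.L, Op.L, Op.L, Op.L, Op.B2, Op.R, Op.B2, Op.R, Op.B2, Op.R, Op.B2, Op.R, Op.B2, Op.R, Op.B2, Op.R, Op.B2, Op.L, Op.L, Op.L, Op.L, Op.L, Op.L, Op.L, Op.B2, Op.R, Op.B2, Op.R, Op.B2, Op.L, Op.L, Op.L, Op.B2, Op.L, Op.L, Op.L,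 Op.L, Op.L, Op.L, Op.L, Op.L, Op.L, Op.L, Op.L, Op.L, Op.L, Op.L, Op.L, Op.L, Op.B2, Op.R, Op.B2, Op.R, Op.B2, Op.R, Op.B2, Op.R, Op.B2, Op.R, Op.B2, Op.R, Op.B3, Op.L, Op.L, Op.L, Op.L, Op.L, Op.L, Op.L, Op.B2, Op.R, Op.B2, Op.L, Op.L, Op.L, Op.L, Op.L, Op.L, Op.L, Op.L, Op.L, Op.L, Op.L, Op.L, Op.L, Op.L, Op.L, Op.L, Op.L, Op.L, Op.L, Op.L, Op.L, Op.L, Op.L, Op.L, Op.L, Op.L, Op.L, Op.B2, Op.R, Op.B2, Op.R, Op.B2, Op.R, Op.B2, Op.R, Op.B2, Op.R, Op.B2, Op.R, Op.B2, Op.R, Op.B2, Op.R, Op.B2, Op.R, Op.B2, Op.R, Op.B3, Op.R, Op.R, Op.B2, Op.L, Op.L, Op.L, Op.L, Op.L, Op.L, Op.L, Op.L, Op.L, Op.L, Op.L, Op.L, Op.L, Op.B2, Op.R, Op.B2, Op.R, Op.B2, Op.R, Op.B2, Op.L, Op.L, Op.L, Op.L, Op.B2,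 Op.L, Op.L, Op.L, Op.L, Op.L, Op.L, Op.L, Op.L, Op.L, Op.L, Op.B2, Op.R, Op.B2, Op.L, Op.L, Op.L, Op.L, Op.L, Op.L, Op.L, Op.L, Op.L, Op.B2, Op.R, Op.B2, Op.R, Op.B2, Op.R, Op.B2, Op.R, Op.B2, Op.R, Op.B2, Op.R, Op.B3, Op.R, Op.R, Op.B2, Op.R, Op.B3, Op.R, Op.R, Op.B2, Op.R, Op.B2, Op.R, Op.B2, Op.R, Op.B2, Op.R, Op.B2, Op.R, Op.B3, Op.R, Op.R, Op.B3, Op.R, Op.R, Op.B2, Op.R, Op.B2, Op.R, Op.B3, Op.R, Op.R, Op.B2, Op.R, Op.B2, Op.R, Op.B2, Op.R, Op.B2, Op.R, Op.B3, Op.R, Op.R, Op.B2, Op.R, Op.B2, Op.R, Op.B3, Op.R, Op.R, Op.B2, Op.R, Op.B2, Op.R, Op.B2, Op.R, Op.B2, Op.R, Op.B2, Op.R, Op.B2, Op.R, Op.B3, Op.R, Op.R, Op.B2, Op.R, Op.B2, Op.R, Op.B3, Op.R, Op.R, Op.B2, Op.R, Op.B3, Op.R, Op.R,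 Op.B2, Op.R, Op.B2, Op.R, Op.B3, Op.R, Op.R, Op.B2, Op.R, Op.B3, Op.R, Op.R, Op.B2, Op.R, Op.B2]
    [3, 4, 2, 0, 3, 2, 5, 4, 3, 6, 5, 4, 7, 6, 5, 1, 3, 4, 2, 0, 3, 2, 1, 3, 4, 7, 5, 6, 4, 5, 3, 4, 2, 3, 0, 2, 1, 3, 4, 5, 2, 3, 4, 3]
    [1, 3, 4, 5, 6, 7, 2, 0, 3, 2, 3, 1, 4, 3, 5, 4, 6, 5, 2, 0, 3, 2, 4, 3, 1, 3, 4, 2, 3, 0, 2, 5, 6, 7, 4, 5, 6, 3, 4, 5, 1, 3, 4, 2, 0, 3, 1, 2, 3, 4, 2, 3, 4, 5, 6, 7, 0, 1, 2, 3, 4, 5, 6, 7, 0, 1, 2, 3, 4, 5, 6, 7, 0, 1, 2, 3, 4, 5, 6, 7, 0, 1, 2, 3, 4, 5, 6, 7, 0, 1, 2, 3, 4, 5, 6, 7, 0, 1, 2, 3, 4, 5, 6, 7, 0, 1, 2, 3, 4, 5, 6, 7, 0, 1, 2, 3, 4, 5, 6, 7, 0, 1, 2, 3, 4, 5, 6, 7, 0, 1, 2, 3, 4, 5, 6, 7, 0, 1, 2, 3, 4, 5, 6, 7] =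
    ([4, 3, 2, 0, 2, 3, 4, 1, 3, 2, 5, 4, 3, 1, 6, 5, 4, 3, 2, 1, 0, 2, 3, 4, 5, 7, 6, 5, 4, 3, 2, 1, 3, 4, 5, 0, 2, 3, 4, 1, 3, 2, 7, 6, 5, 4, 3, 1, 0, 2, 3, 4, 5, 7, 6, 5, 4, 3, 0, 2, 1, 3, 4, 5, 2, 3, 4, 3],
     [5, 2, 6, 7, 1, 3, 2, 4, 3, 1, 5, 4, 3, 2, 0, 6, 5, 4, 3, 1, 2, 3, 6, 7, 0, 1, 2, 3, 4, 5, 6, 7, 0, 1, 2, 3, 4, 5, 6, 7, 0, 1, 2, 3, 4, 5, 6, 7, 0, 1, 2, 3, 4, 5, 6, 7, 0, 1, 2, 3, 4, 5, 6, 7, 0, 1, 2, 3, 4, 5, 6, 7, 0, 1, 2, 3, 4, 5, 6, 7, 0, 1, 2, 3, 4, 5, 6, 7, 0, 1, 2, 3, 4, 5, 6, 7, 0, 1, 2, 3, 4, 5, 6, 7, 0, 1, 2, 3, 4, 5, 6, 7]) := by decide +kernel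

set_option maxRecDepth 1000000 in
theorem chunk21 : exec (Mt CoxeterMatrix.E₈) [Op.R, Op.B2, Op.R, Op.B2, Op.R, Op.B2, Op.R, Op.B3, Op.R, Op.R, Op.B3, Op.R, Op.R, Op.B2, Op.R, Op.B3, Op.R, Op.R, Op.B2, Op.R, Op.B2, Op.R, Op.B2, Op.R, Op.B3, Op.R, Op.R, Op.B2, Op.R, Op.B2, Op.R, Op.B2, Op.R, Op.B2, Op.R, Op.B2, Op.R, Op.C, Op.L, Op.L, Op.L, Op.L, Op.L, Op.L, Op.L, Op.L, Op.L, Op.L, Op.L, Op.L, Op.L, Op.L, Op.L, Op.L, Op.L, Op.L, Op.L, Op.B2, Op.R, Op.B2, Op.R, Op.B2, Op.R, Op.B2, Op.R, Op.B2, Op.R, Op.B2, Op.R, Op.B2, Op.R, Op.B2, Op.R, Op.B2, Op.R, Op.B2, Op.R, Op.B2, Op.L, Op.L, Op.L, Op.L, Op.L, Op.L, Op.L, Op.L, Op.L, Op.L, Op.L, Op.B2, Op.R, Op.B2, Op.R, Op.B2, Op.R, Op.B2, Op.R, Op.B2,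 Op.R, Op.B2, Op.L, Op.L, Op.L, Op.L, Op.L, Op.L, Op.B2, Op.R, Op.B2, Op.R, Op.B2, Op.L, Op.L, Op.L, Op.B2, Op.L, Op.L, Op.L, Op.L, Op.L, Op.L, Op.L, Op.B2, Op.L, Op.L, Op.L, Op.L, Op.L, Op.L, Op.L, Op.L, Op.L, Op.L, Op.L, Op.L, Op.L, Op.L, Op.L, Op.L, Op.L, Op.L, Op.L, Op.L, Op.L, Op.L, Op.L, Op.L, Op.L, Op.L, Op.L, Op.L, Op.L, Op.L, Op.L, Op.L, Op.L, Op.L, Op.L, Op.B2, Op.R, Op.B2, Op.R, Op.B2, Op.R, Op.B2, Op.R, Op.B2, Op.R, Op.B2, Op.R, Op.B2, Op.R, Op.B2, Op.R, Op.B2, Op.R, Op.B2, Op.R, Op.B2, Op.R, Op.B2, Op.R, Op.B2, Op.R, Op.B2, Op.R, Op.B2, Op.R, Op.B3, Op.L, Op.L, Op.L, Op.L, Op.L, Op.L, Op.L, Op.L, Op.L, Op.L, Op.L, Op.L, Op.L, Op.L, Op.L, Op.L, Op.B2, Op.R, Op.B2, Op.R, Op.B2, Op.R,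 Op.B2, Op.R, Op.B2, Op.R, Op.B2, Op.R, Op.B2, Op.L, Op.L, Op.L, Op.L, Op.L, Op.L, Op.L, Op.B2, Op.R, Op.B2, Op.R, Op.B2, Op.L, Op.L, Op.L, Op.B2, Op.L, Op.L, Op.L, Op.L, Op.L, Op.L, Op.L, Op.L, Op.L, Op.L, Op.L, Op.L, Op.L, Op.B2, Op.R, Op.B2, Op.R, Op.B2, Op.R, Op.B2, Op.R, Op.B2, Op.R, Op.B2, Op.R, Op.B2, Op.R, Op.B2, Op.R, Op.B3, Op.R, Op.R, Op.B2, Op.R, Op.B3, Op.R, Op.R, Op.B3, Op.R, Op.R, Op.B2, Op.R, Op.B3, Op.R, Op.R, Op.B2, Op.R, Op.B2, Op.R, Op.B2, Op.R, Op.B3, Op.R, Op.R, Op.B2, Op.R, Op.B2, Op.R, Op.B2, Op.R, Op.B2, Op.R, Op.B2, Op.R, Op.B2, Op.R, Op.B3, Op.R, Op.R, Op.B2, Op.R, Op.B3, Op.R, Op.R, Op.B2, Op.R, Op.B2, Op.R, Op.B2, Op.R, Op.B2, Op.R, Op.B2, Op.R, Op.B2, Op.R, Op.B2,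 Op.R, Op.B2, Op.R, Op.B3, Op.R, Op.R, Op.B2, Op.R, Op.B2, Op.R, Op.B3, Op.R, Op.R, Op.B2, Op.R, Op.B3, Op.R, Op.R, Op.B3, Op.R, Op.R, Op.B2, Op.R, Op.B2, Op.R, Op.B2, Op.R, Op.B3, Op.R, Op.R, Op.B3, Op.R, Op.R, Op.B2, Op.R, Op.B3, Op.R, Op.R, Op.B2, Op.R, Op.B2, Op.R, Op.B3, Op.R, Op.R, Op.B2, Op.R, Op.B2, Op.R, Op.B2, Op.R, Op.B2, Op.R, Op.B3, Op.R, Op.R, Op.B2, Op.R, Op.B2, Op.R, Op.B2, Op.R, Op.B2, Op.R, Op.B2, Op.R, Op.B2, Op.R, Op.C, Op.L, Op.L, Op.L, Op.L, Op.L, Op.L, Op.L, Op.L, Op.L, Op.B2, Op.R, Op.B2, Op.R, Op.B2, Op.R, Op.B2, Op.R, Op.B2, Op.R, Op.B2, Op.L, Op.L, Op.L, Op.L, Op.L, Op.L, Op.B2, Op.R, Op.B2, Op.R, Op.B2, Op.R, Op.B2, Op.L, Op.L, Op.L, Op.L, Op.B2, Op.R, Op.B2, Op.R,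 Op.B2, Op.L, Op.L, Op.L, Op.B2, Op.R, Op.B2, Op.L, Op.L, Op.B2, Op.L, Op.L, Op.L, Op.L, Op.L, Op.L, Op.L, Op.L, Op.L, Op.L, Op.L, Op.L, Op.L, Op.L, Op.L, Op.L, Op.L, Op.L, Op.L, Op.L, Op.L, Op.L, Op.L, Op.L, Op.L, Op.L, Op.L, Op.L, Op.L, Op.L, Op.L, Op.L, Op.L, Op.L, Op.L, Op.L, Op.B3, Op.R, Op.R, Op.B2, Op.R, Op.B2, Op.R, Op.B2, Op.R, Op.B2, Op.R, Op.B2, Op.R, Op.B2, Op.R, Op.B2, Op.R, Op.B2, Op.R, Op.B2, Op.R, Op.B2, Op.L, Op.L, Op.L, Op.L, Op.L, Op.L, Op.L, Op.L, Op.L, Op.L, Op.L, Op.L, Op.B2, Op.R, Op.B3, Op.R, Op.R, Op.B2, Op.R, Op.B2, Op.R, Op.B2, Op.R, Op.B2, Op.R, Op.B2, Op.R, Op.B2, Op.R, Op.B2, Op.R, Op.B2, Op.L, Op.L, Op.L, Op.L, Op.L, Op.L, Op.L, Op.L, Op.L, Op.L, Op.L, Op.B2,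 Op.R, Op.B2, Op.R, Op.B3, Op.R, Op.R, Op.B2, Op.R, Op.B2, Op.R, Op.B2, Op.R, Op.B2, Op.R, Op.B2, Op.R, Op.B2, Op.L, Op.L, Op.L, Op.L, Op.L, Op.L, Op.L, Op.L, Op.L, Op.L, Op.B2, Op.R, Op.B2, Op.R, Op.B2, Op.R, Op.B3, Op.R, Op.R, Op.B2, Op.R, Op.B2, Op.R, Op.B2, Op.R, Op.B2, Op.L, Op.L, Op.L, Op.L, Op.L, Op.L, Op.L, Op.L, Op.L, Op.B2, Op.R, Op.B2, Op.R, Op.B2, Op.R, Op.B2, Op.R, Op.B3, Op.R, Op.R, Op.B2, Op.L, Op.L, Op.L, Op.L, Op.L, Op.L, Op.L, Op.B2, Op.R, Op.B2, Op.R, Op.B2, Op.R, Op.B2, Op.L, Op.L, Op.L, Op.L, Op.B2, Op.R, Op.B2, Op.R, Op.B2, Op.L, Op.L, Op.L, Op.B2, Op.R, Op.B2, Op.L, Op.L, Op.B2, Op.L, Op.L, Op.L, Op.L, Op.L, Op.L, Op.L, Op.L, Op.L, Op.L, Op.L, Op.L, Op.L, Op.L, Op.L,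 Op.L, Op.L, Op.L, Op.B2, Op.R, Op.B2, Op.R, Op.B2, Op.R, Op.B2, Op.R, Op.B2, Op.R, Op.B2, Op.R, Op.B2, Op.R, Op.B2, Op.R, Op.B2, Op.R, Op.B2, Op.R, Op.B2, Op.R, Op.B2, Op.R, Op.B2, Op.R, Op.B2, Op.R, Op.B2, Op.R, Op.B2, Op.R, Op.B3, Op.R, Op.R, Op.B3, Op.R, Op.R, Op.B3, Op.R, Op.R, Op.B3, Op.R, Op.R, Op.B3, Op.R, Op.R, Op.B2, Op.R, Op.B2, Op.R, Op.B3, Op.L, Op.L, Op.L, Op.L, Op.L, Op.L, Op.L, Op.L, Op.L, Op.L, Op.L, Op.L, Op.L, Op.B2, Op.R, Op.B2, Op.R, Op.B2, Op.R, Op.B2, Op.R, Op.B2, Op.R, Op.B2, Op.R, Op.B2, Op.R, Op.B2, Op.R, Op.B2, Op.R, Op.B2, Op.R, Op.B3, Op.L, Op.L, Op.L, Op.L, Op.L, Op.L, Op.L, Op.L, Op.L, Op.L, Op.L, Op.B2, Op.R, Op.B2, Op.R, Op.B2, Op.R, Op.B2, Op.R, Op.B2, Op.R,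 Op.B2, Op.L, Op.L, Op.L, Op.L, Op.L, Op.L, Op.B2, Op.R, Op.B2, Op.R, Op.B2, Op.R, Op.B2, Op.L, Op.L, Op.L, Op.L, Op.B2, Op.R, Op.B2, Op.L, Op.L, Op.L, Op.L, Op.L, Op.L, Op.L, Op.L, Op.L, Op.L, Op.L, Op.L, Op.L, Op.L, Op.L, Op.B3, Op.R, Op.R, Op.B2, Op.R, Op.B2, Op.R, Op.B2, Op.R, Op.B2, Op.R, Op.B2, Op.R, Op.B2, Op.R, Op.B2, Op.R, Op.B2, Op.R, Op.B2, Op.R, Op.B2, Op.R, Op.B3, Op.R, Op.R, Op.B2, Op.R, Op.B3, Op.R, Op.R, Op.B2, Op.R, Op.B3, Op.R, Op.R, Op.B2, Op.R, Op.B3, Op.R, Op.R, Op.B2, Op.R, Op.B2, Op.R, Op.B3, Op.R, Op.R, Op.B2, Op.R, Op.B3, Op.R, Op.R, Op.B2, Op.R, Op.B3, Op.R, Op.R, Op.B3, Op.R, Op.R, Op.B3, Op.R, Op.R, Op.B3, Op.R, Op.R, Op.B3, Op.R, Op.R, Op.B2, Op.R, Op.B2, Op.R,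 Op.B2, Op.R, Op.B2, Op.R, Op.B2, Op.R, Op.B2, Op.R, Op.B2, Op.R, Op.B2, Op.R, Op.B2, Op.R, Op.B2, Op.R, Op.B2, Op.R, Op.B2, Op.R, Op.B2, Op.R, Op.B2, Op.R, Op.B2, Op.R, Op.B2, Op.R, Op.B2, Op.R, Op.B2, Op.R, Op.B2, Op.R, Op.B2, Op.R, Op.B2, Op.R, Op.B3, Op.R, Op.R, Op.B3, Op.R, Op.R, Op.B3, Op.R, Op.R, Op.B3, Op.R, Op.R, Op.B3, Op.R, Op.R, Op.B2, Op.R, Op.B3, Op.R, Op.R, Op.B2, Op.R, Op.C, Op.L, Op.L, Op.L, Op.L, Op.B2, Op.R, Op.B2, Op.L, Op.L, Op.B2, Op.L, Op.L, Op.L, Op.L, Op.L, Op.L, Op.L, Op.L, Op.L, Op.L, Op.L, Op.L, Op.L, Op.L, Op.L, Op.L, Op.L, Op.L, Op.L, Op.L, Op.L, Op.B3, Op.R, Op.R, Op.B2, Op.R, Op.B2, Op.R, Op.B2, Op.R, Op.B2, Op.L, Op.L, Op.L, Op.L, Op.L, Op.L, Op.B2, Op.R, Op.B3,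 Op.R, Op.R, Op.B2, Op.R, Op.B2, Op.L, Op.L, Op.L, Op.L, Op.L, Op.B2, Op.R, Op.B2, Op.R, Op.B3]
    [4, 3, 2, 0, 2, 3, 4, 1, 3, 2, 5, 4, 3, 1, 6, 5, 4, 3, 2, 1, 0, 2, 3, 4, 5, 7, 6, 5, 4, 3, 2, 1, 3, 4, 5, 0, 2, 3, 4, 1, 3, 2, 7, 6, 5, 4, 3, 1, 0, 2, 3, 4, 5, 7, 6, 5, 4, 3, 0, 2, 1, 3, 4, 5, 2, 3, 4, 3]
    [5, 2, 6, 7, 1, 3, 2, 4, 3, 1, 5, 4, 3, 2, 0, 6, 5, 4, 3, 1, 2, 3, 6, 7, 0, 1, 2, 3, 4, 5, 6, 7, 0, 1, 2, 3, 4, 5, 6, 7, 0, 1, 2, 3, 4, 5, 6, 7, 0, 1, 2, 3, 4, 5, 6, 7, 0, 1, 2, 3, 4, 5, 6, 7, 0, 1, 2, 3, 4, 5, 6, 7, 0, 1, 2, 3, 4, 5, 6, 7, 0, 1, 2, 3, 4, 5, 6, 7, 0, 1, 2, 3, 4, 5, 6, 7, 0, 1, 2, 3, 4, 5, 6, 7, 0, 1, 2, 3, 4, 5, 6, 7] =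
    ([2, 0, 4, 3, 2, 5, 4, 3, 1, 6, 7, 5, 6, 4, 5, 3, 4, 2, 3, 1, 3, 2, 0, 2, 3, 1, 4, 3, 2, 5, 4, 3, 6, 5, 4, 7, 6, 5, 1, 3, 4, 2, 3, 1, 0, 2, 3, 4, 5, 6, 4, 3, 2, 1, 3, 4, 5, 2, 3, 4, 3],
     [3, 1, 3, 4, 2, 3, 0, 2, 5, 4, 3, 1, 6, 7, 5, 6, 4, 5, 3, 4, 2, 0, 3, 2, 1, 3, 1, 2, 3, 4, 5, 6, 7, 0, 1, 2, 3, 4, 5, 6, 7, 0, 1, 2, 3, 4, 5, 6, 7, 0, 1, 2, 3, 4, 5, 6, 7, 0, 1, 2, 3, 4, 5, 6, 7, 0, 1, 2, 3, 4, 5, 6, 7, 0, 1, 2, 3, 4, 5, 6, 7, 0, 1, 2, 3, 4, 5, 6, 7, 0, 1, 2, 3, 4, 5, 6, 7, 0, 1, 2, 3, 4, 5, 6, 7, 0, 1, 2, 3, 4, 5, 6, 7]) := by decide +kernel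

set_option maxRecDepth 1000000 in
theorem chunk22 : exec (Mt CoxeterMatrix.E₈) [Op.L, Op.L, Op.L, Op.B2, Op.R, Op.B2, Op.L, Op.L, Op.B2, Op.L, Op.L, Op.L, Op.L, Op.L, Op.L, Op.L, Op.L, Op.L, Op.L, Op.L, Op.L, Op.L, Op.L, Op.L, Op.L, Op.L, Op.L, Op.L, Op.L, Op.B3, Op.R, Op.R, Op.B2, Op.R, Op.B2, Op.R, Op.B2, Op.L, Op.L, Op.L, Op.L, Op.L, Op.B2, Op.R, Op.B3, Op.R, Op.R, Op.B2, Op.L, Op.L, Op.L, Op.L, Op.B2, Op.R, Op.B2, Op.R, Op.B3, Op.R, Op.R, Op.B3, Op.R, Op.R, Op.B3, Op.R, Op.R, Op.B2, Op.R, Op.B2, Op.R, Op.B2, Op.R, Op.B2, Op.R, Op.B2, Op.R, Op.B2, Op.R, Op.B2, Op.R, Op.B2, Op.R, Op.B2, Op.R, Op.B2, Op.R, Op.B2, Op.R, Op.B2, Op.R, Op.B3, Op.R, Op.R, Op.B3, Op.R, Op.R, Op.B3, Op.R, Op.R,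 Op.B2, Op.R, Op.B3, Op.R, Op.R, Op.B3, Op.R, Op.R, Op.B3, Op.R, Op.R, Op.B2, Op.R, Op.B2, Op.R, Op.B2, Op.R, Op.B2, Op.R, Op.B2, Op.R, Op.B2, Op.R, Op.B2, Op.R, Op.B2, Op.R, Op.B2, Op.R, Op.B2, Op.R, Op.B2, Op.R, Op.B2, Op.R, Op.B3, Op.R, Op.R, Op.B3, Op.R, Op.R, Op.B3, Op.R, Op.R, Op.C, Op.L, Op.L, Op.L, Op.B2, Op.L, Op.L, Op.L, Op.L, Op.L, Op.L, Op.L, Op.L, Op.L, Op.L, Op.L, Op.L, Op.B2, Op.R, Op.B2, Op.R, Op.B2, Op.R, Op.B2, Op.R, Op.B2, Op.R, Op.B2, Op.L, Op.L, Op.L, Op.L, Op.L, Op.L, Op.B2, Op.R, Op.B2, Op.R, Op.B2, Op.R, Op.B2, Op.L, Op.L, Op.L, Op.L, Op.B2, Op.R, Op.B2, Op.L, Op.L, Op.L, Op.L, Op.L, Op.L, Op.L, Op.L, Op.L, Op.L, Op.L, Op.L, Op.L, Op.L, Op.L, Op.L, Op.L, Op.L, Op.L,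 Op.L, Op.B2, Op.R, Op.B2, Op.R, Op.B2, Op.L, Op.L, Op.L, Op.L, Op.B2, Op.R, Op.B2, Op.R, Op.B2, Op.L, Op.L, Op.L, Op.L, Op.B2, Op.R, Op.B2, Op.R, Op.B2, Op.L, Op.L, Op.L, Op.L, Op.B2, Op.R, Op.B2, Op.R, Op.B2, Op.L, Op.L, Op.L, Op.L, Op.L, Op.L, Op.L, Op.L, Op.B2, Op.L, Op.L, Op.B3, Op.R, Op.R, Op.B3, Op.R, Op.R, Op.B2, Op.R, Op.B2, Op.R, Op.B2, Op.R, Op.B2, Op.R, Op.B2, Op.R, Op.B2, Op.R, Op.B3, Op.R, Op.R, Op.B3, Op.R, Op.R, Op.B3, Op.R, Op.R, Op.B3, Op.R, Op.R, Op.B2, Op.R, Op.B2, Op.R, Op.B2, Op.R, Op.B2, Op.R, Op.B2, Op.R, Op.B2, Op.R, Op.B2, Op.R, Op.B2, Op.R, Op.B2, Op.R, Op.B2, Op.R, Op.B2, Op.R, Op.B2, Op.R, Op.B2, Op.R, Op.B3, Op.R, Op.R, Op.B2, Op.R, Op.B3, Op.R, Op.R, Op.B2, Op.R,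 Op.B3, Op.R, Op.R, Op.B2, Op.R, Op.B3, Op.R, Op.R, Op.B2, Op.R, Op.B2, Op.R, Op.B2, Op.R, Op.B3, Op.R, Op.R, Op.B3, Op.R, Op.R, Op.C, Op.L, Op.C, Op.L, Op.L, Op.L, Op.L, Op.L, Op.L, Op.B2, Op.R, Op.B2, Op.L, Op.L, Op.L, Op.L, Op.L, Op.L, Op.L, Op.L, Op.L, Op.L, Op.L, Op.L, Op.L, Op.B2, Op.R, Op.B2, Op.R, Op.B2, Op.R, Op.B2, Op.R, Op.B2, Op.R, Op.B2, Op.L, Op.L, Op.L, Op.L, Op.L, Op.L, Op.L, Op.B2, Op.R, Op.B2, Op.R, Op.B2, Op.R, Op.B2, Op.L, Op.L, Op.L, Op.L, Op.L, Op.B2, Op.R, Op.B2, Op.L, Op.L, Op.L, Op.L, Op.L, Op.L, Op.L, Op.L, Op.L, Op.L, Op.B2, Op.R, Op.B2, Op.R, Op.B2, Op.R, Op.B2, Op.L, Op.L, Op.L, Op.L, Op.L, Op.B2, Op.R, Op.B2, Op.R, Op.B2, Op.L, Op.L, Op.L, Op.L, Op.B2, Op.R, Op.B2,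 Op.L, Op.L, Op.L, Op.L, Op.L, Op.L, Op.L, Op.L, Op.L, Op.B2, Op.R, Op.B2, Op.R, Op.B2, Op.R, Op.B2, Op.L, Op.L, Op.L, Op.L, Op.L, Op.B2, Op.L, Op.L, Op.L, Op.L, Op.L, Op.B2, Op.L, Op.B2, Op.R, Op.B3, Op.R, Op.R, Op.B2, Op.R, Op.B2, Op.R, Op.B2, Op.R, Op.B3, Op.R, Op.R, Op.B2, Op.R, Op.B2, Op.R, Op.B2, Op.R, Op.B3, Op.R, Op.R, Op.B2, Op.R, Op.B2, Op.R, Op.B2, Op.R, Op.B2, Op.R, Op.B3, Op.R, Op.R, Op.B2, Op.R, Op.B3, Op.R, Op.R, Op.B2, Op.R, Op.B3, Op.R, Op.R, Op.B2, Op.R, Op.B2, Op.R, Op.B2, Op.R, Op.B2, Op.R, Op.B2, Op.R, Op.B3, Op.R, Op.R, Op.B2, Op.R, Op.B2, Op.R, Op.B3, Op.R, Op.R, Op.B2, Op.R, Op.B2, Op.R, Op.B3, Op.R, Op.R, Op.B2, Op.R, Op.B2, Op.R, Op.B2, Op.R, Op.B3, Op.R, Op.R, Op.B2,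 Op.R, Op.B3, Op.R, Op.R, Op.B2, Op.R, Op.B2, Op.R, Op.C, Op.L, Op.L, Op.L, Op.L, Op.L, Op.L, Op.L, Op.L, Op.L, Op.B2, Op.R, Op.B2, Op.R, Op.B2, Op.R, Op.B2, Op.L, Op.L, Op.L, Op.L, Op.B2, Op.L, Op.L, Op.L, Op.L, Op.L, Op.L, Op.L, Op.L, Op.L, Op.L, Op.L, Op.L, Op.L, Op.L, Op.L, Op.B3, Op.R, Op.R, Op.B2, Op.R, Op.B2, Op.R, Op.B2, Op.R, Op.B2, Op.R, Op.B2, Op.R, Op.B2, Op.L, Op.L, Op.L, Op.L, Op.L, Op.L, Op.L, Op.L, Op.L, Op.L, Op.B2, Op.R, Op.B2, Op.R, Op.B2, Op.R, Op.B3, Op.R, Op.R, Op.B2, Op.L, Op.L, Op.L, Op.L, Op.B2, Op.L, Op.L, Op.B2, Op.L, Op.L, Op.L, Op.L, Op.L, Op.L, Op.L, Op.L, Op.B2, Op.R, Op.B2, Op.R, Op.B2, Op.L, Op.L, Op.L, Op.L, Op.L, Op.L, Op.L, Op.L, Op.L, Op.L, Op.L, Op.L, Op.L,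 Op.L, Op.L, Op.L, Op.L, Op.B2, Op.R, Op.B2, Op.L, Op.L, Op.B2, Op.R, Op.B2, Op.R, Op.B3, Op.R, Op.R, Op.B2, Op.R, Op.B2, Op.R, Op.B2, Op.R, Op.B2, Op.R, Op.B2, Op.R, Op.B3, Op.R, Op.R, Op.B2, Op.R, Op.B2, Op.R, Op.B2, Op.R, Op.B3, Op.R, Op.R, Op.B2, Op.R, Op.B2, Op.R, Op.B3, Op.R, Op.R, Op.B2, Op.R, Op.B2, Op.R, Op.B2, Op.R, Op.B2, Op.R, Op.B3, Op.R, Op.R, Op.B3, Op.R, Op.R, Op.B2, Op.R, Op.B2, Op.R, Op.B3, Op.R, Op.R, Op.B2, Op.R, Op.B2, Op.R, Op.B2, Op.R, Op.B3, Op.R, Op.R, Op.B2, Op.R, Op.B2, Op.R, Op.B2, Op.R, Op.B2, Op.R, Op.B3, Op.R, Op.R, Op.B3, Op.R, Op.R, Op.B2, Op.R, Op.B2, Op.R, Op.B3, Op.R, Op.R, Op.B2, Op.R, Op.B2, Op.R, Op.B2, Op.R, Op.C, Op.L, Op.L, Op.L, Op.L, Op.L, Op.L, Op.L,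 Op.L, Op.L, Op.L, Op.L, Op.L, Op.L, Op.B2, Op.R, Op.B2, Op.R, Op.B2, Op.R, Op.B2, Op.R, Op.B2, Op.R, Op.B2, Op.R, Op.B2, Op.L, Op.L, Op.L, Op.L, Op.L, Op.L, Op.L, Op.B2, Op.R, Op.B2, Op.R, Op.B2, Op.L, Op.L, Op.L, Op.B2, Op.L, Op.L, Op.L, Op.L, Op.L, Op.L, Op.L, Op.L, Op.L, Op.L, Op.L, Op.L, Op.L, Op.L, Op.L, Op.L, Op.B2, Op.R, Op.B2, Op.R, Op.B2, Op.R, Op.B2, Op.R, Op.B2, Op.R, Op.B2, Op.R, Op.B3, Op.L, Op.L, Op.L, Op.L, Op.L, Op.L, Op.L, Op.B2, Op.R, Op.B2, Op.L, Op.L, Op.L, Op.L, Op.L, Op.L, Op.L, Op.L, Op.L, Op.L, Op.L, Op.L, Op.L, Op.L, Op.L, Op.L, Op.L, Op.L, Op.L, Op.L, Op.L, Op.L, Op.L, Op.B2, Op.R, Op.B2, Op.R, Op.B2, Op.L, Op.L, Op.L, Op.B2, Op.R, Op.B2, Op.R, Op.B2, Op.R, Op.B3,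 Op.R, Op.R, Op.B2, Op.R, Op.B2, Op.R, Op.B2, Op.R, Op.B2, Op.R, Op.B2, Op.R, Op.B2, Op.R, Op.B2, Op.R, Op.B3, Op.R, Op.R, Op.B2, Op.R, Op.B2, Op.R, Op.B2, Op.R, Op.B3, Op.R, Op.R, Op.B2, Op.R, Op.B2, Op.R, Op.B3, Op.R, Op.R, Op.B2, Op.R, Op.B3, Op.R, Op.R, Op.B2, Op.R, Op.B2, Op.R, Op.B3, Op.R, Op.R, Op.B2, Op.R, Op.B3, Op.R, Op.R, Op.B2, Op.R, Op.B2, Op.R, Op.B2, Op.R, Op.B2, Op.R, Op.B2, Op.R, Op.B3, Op.R, Op.R, Op.B3, Op.R, Op.R, Op.B2, Op.R, Op.B3, Op.R, Op.R, Op.B2, Op.R, Op.B2, Op.R, Op.B2, Op.R, Op.B3, Op.R, Op.R, Op.B2, Op.R, Op.B2, Op.R, Op.B2, Op.R, Op.B2, Op.R, Op.C, Op.L, Op.L, Op.L, Op.L, Op.L, Op.L, Op.L, Op.L, Op.L, Op.L, Op.L, Op.L, Op.L, Op.L, Op.L, Op.L, Op.L, Op.L, Op.B2,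 Op.R, Op.B2, Op.R, Op.B2, Op.R, Op.B2, Op.R, Op.B2, Op.R, Op.B2, Op.R, Op.B2, Op.R, Op.B2]
    [2, 0, 4, 3, 2, 5, 4, 3, 1, 6, 7, 5, 6, 4, 5, 3, 4, 2, 3, 1, 3, 2, 0, 2, 3, 1, 4, 3, 2, 5, 4, 3, 6, 5, 4, 7, 6, 5, 1, 3, 4, 2, 3, 1, 0, 2, 3, 4, 5, 6, 4, 3, 2, 1, 3, 4, 5, 2, 3, 4, 3]
    [3, 1, 3, 4, 2, 3, 0, 2, 5, 4, 3, 1, 6, 7, 5, 6, 4, 5, 3, 4, 2, 0, 3, 2, 1, 3, 1, 2, 3, 4, 5, 6, 7, 0, 1, 2, 3, 4, 5, 6, 7, 0, 1, 2, 3, 4, 5, 6, 7, 0, 1, 2, 3, 4, 5, 6, 7, 0, 1, 2, 3, 4, 5, 6, 7, 0, 1, 2, 3, 4, 5, 6, 7, 0, 1, 2, 3, 4, 5, 6, 7, 0, 1, 2, 3, 4, 5, 6, 7, 0, 1, 2, 3, 4, 5, 6, 7, 0, 1, 2, 3, 4, 5, 6, 7, 0, 1, 2, 3, 4, 5, 6, 7] =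
    ([5, 1, 3, 4, 2, 3, 1, 6, 5, 4, 3, 2, 0, 2, 3, 4, 1, 3, 2, 5, 4, 3, 1, 6, 5, 4, 3, 2, 7, 6, 5, 4, 3, 0, 1, 2, 3, 4, 5, 6, 0, 2, 3, 4, 7, 6, 5, 1, 3, 4, 2, 3, 1, 0, 2, 3, 4, 5, 6, 4, 3, 2, 1, 3, 4, 5, 2, 3, 4, 3],
     [4, 7, 3, 2, 0, 6, 5, 4, 3, 1, 2, 7, 0, 1, 2, 3, 4, 5, 6, 7, 0, 1, 2, 3, 4, 5, 6, 7, 0, 1, 2, 3, 4, 5, 6, 7, 0, 1, 2, 3, 4, 5, 6, 7, 0, 1, 2, 3, 4, 5, 6, 7, 0, 1, 2, 3, 4, 5, 6, 7, 0, 1, 2, 3, 4, 5, 6, 7, 0, 1, 2, 3, 4, 5, 6, 7, 0, 1, 2, 3, 4, 5, 6, 7, 0, 1, 2, 3, 4, 5, 6, 7]) := by decide +kernel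

set_option maxRecDepth 1000000 in
theorem chunk23 : exec (Mt CoxeterMatrix.E₈) [Op.R, Op.B2, Op.R, Op.B2, Op.R, Op.B2, Op.L, Op.L, Op.L, Op.L, Op.L, Op.L, Op.L, Op.L, Op.L, Op.L, Op.L, Op.B2, Op.R, Op.B2, Op.R, Op.B2, Op.R, Op.B2, Op.R, Op.B2, Op.R, Op.B2, Op.L, Op.L, Op.L, Op.L, Op.L, Op.L, Op.B2, Op.R, Op.B2, Op.R, Op.B2, Op.L, Op.L, Op.L, Op.B2, Op.L, Op.L, Op.L, Op.L, Op.L, Op.L, Op.L, Op.B2, Op.L, Op.L, Op.L, Op.L, Op.L, Op.L, Op.L, Op.L, Op.L, Op.L, Op.L, Op.L, Op.L, Op.L, Op.L, Op.L, Op.L, Op.L, Op.L, Op.L, Op.L, Op.L, Op.L, Op.L, Op.L, Op.L, Op.L, Op.L, Op.B2, Op.R, Op.B2, Op.R, Op.B2, Op.R, Op.B2, Op.L, Op.L, Op.L, Op.L, Op.B2, Op.R, Op.B2, Op.R, Op.B2, Op.R, Op.B2, Op.R, Op.B3,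 Op.R, Op.R, Op.B2, Op.R, Op.B2, Op.R, Op.B2, Op.R, Op.B2, Op.R, Op.B2, Op.R, Op.B2, Op.R, Op.B2, Op.R, Op.B2, Op.R, Op.B2, Op.R, Op.B3, Op.R, Op.R, Op.B2, Op.R, Op.B2, Op.R, Op.B2, Op.R, Op.B3, Op.R, Op.R, Op.B2, Op.R, Op.B2, Op.R, Op.B3, Op.R, Op.R, Op.B2, Op.R, Op.B3, Op.R, Op.R, Op.B3, Op.R, Op.R, Op.B2, Op.R, Op.B2, Op.R, Op.B2, Op.R, Op.B3, Op.R, Op.R, Op.B3, Op.R, Op.R, Op.B2, Op.R, Op.B3, Op.R, Op.R, Op.B2, Op.R, Op.B2, Op.R, Op.B3, Op.R, Op.R, Op.B2, Op.R, Op.B2, Op.R, Op.B2, Op.R, Op.B2, Op.R, Op.B3, Op.R, Op.R, Op.B2, Op.R, Op.B2, Op.R, Op.B2, Op.R, Op.B2, Op.R, Op.B2, Op.R, Op.C, Op.L, Op.L, Op.L, Op.L, Op.L, Op.L, Op.L, Op.L, Op.B2, Op.R, Op.B2, Op.R, Op.B2, Op.R, Op.B2, Op.R,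 Op.B2, Op.R, Op.B2, Op.L, Op.L, Op.L, Op.L, Op.L, Op.L, Op.B2, Op.R, Op.B2, Op.R, Op.B2, Op.R, Op.B2, Op.L, Op.L, Op.L, Op.L, Op.B2, Op.R, Op.B2, Op.R, Op.B2, Op.L, Op.L, Op.L, Op.B2, Op.R, Op.B2, Op.L, Op.L, Op.B2, Op.L, Op.L, Op.L, Op.L, Op.L, Op.L, Op.L, Op.L, Op.L, Op.L, Op.L, Op.L, Op.L, Op.L, Op.L, Op.L, Op.L, Op.L, Op.L, Op.L, Op.L, Op.L, Op.L, Op.L, Op.L, Op.L, Op.L, Op.L, Op.B2, Op.R, Op.B2, Op.R, Op.B2, Op.R, Op.B2, Op.L, Op.L, Op.L, Op.L, Op.B2, Op.R, Op.B2, Op.R, Op.B2, Op.L, Op.L, Op.L, Op.B2, Op.R, Op.B2, Op.L, Op.L, Op.B2, Op.L, Op.L, Op.L, Op.L, Op.B2, Op.L, Op.L, Op.L, Op.L, Op.L, Op.L, Op.B2, Op.R, Op.B2, Op.R, Op.B2, Op.R, Op.B2, Op.R, Op.B2, Op.R, Op.B2, Op.R, Op.B3, Op.R,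 Op.R, Op.B3, Op.R, Op.R, Op.B3, Op.R, Op.R, Op.B3, Op.R, Op.R, Op.B3, Op.R, Op.R, Op.B3, Op.R, Op.R, Op.B2, Op.R, Op.B2, Op.R, Op.B2, Op.R, Op.B2, Op.R, Op.B2, Op.R, Op.B2, Op.R, Op.B2, Op.R, Op.B2, Op.R, Op.B2, Op.R, Op.B2, Op.R, Op.B2, Op.R, Op.B2, Op.R, Op.B2, Op.R, Op.B2, Op.R, Op.B2, Op.R, Op.B2, Op.R, Op.B2, Op.R, Op.B2, Op.R, Op.B2, Op.R, Op.B2, Op.R, Op.B2, Op.R, Op.B3, Op.R, Op.R, Op.B3, Op.R, Op.R, Op.B3, Op.R, Op.R, Op.B3, Op.R, Op.R, Op.B3, Op.R, Op.R, Op.B2, Op.R, Op.B3, Op.R, Op.R, Op.C, Op.L, Op.L, Op.L, Op.B2, Op.R, Op.B2, Op.R, Op.C, Op.L, Op.C, Op.L, Op.L, Op.B2, Op.R, Op.C, Op.L, Op.L, Op.L, Op.B2, Op.R, Op.B2, Op.R, Op.C, Op.L, Op.L, Op.L, Op.L, Op.B2, Op.R, Op.B2, Op.R,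 Op.B2, Op.R, Op.C, Op.L, Op.L, Op.L, Op.L, Op.L, Op.B2, Op.R, Op.B2, Op.R, Op.B2, Op.R, Op.B2, Op.R, Op.C, Op.L, Op.L, Op.L, Op.L, Op.L, Op.L, Op.B2, Op.R, Op.B2, Op.R, Op.B2, Op.R, Op.B2, Op.R, Op.B2, Op.R, Op.C, Op.L, Op.C, Op.L, Op.L, Op.L, Op.L, Op.L, Op.L, Op.B2, Op.R, Op.B2, Op.R, Op.B2, Op.L, Op.L, Op.L, Op.B2, Op.R, Op.B2, Op.L, Op.L, Op.B2, Op.L, Op.L, Op.L, Op.L, Op.L, Op.L, Op.L, Op.L, Op.L, Op.L, Op.L, Op.L, Op.L, Op.L, Op.L, Op.L, Op.L, Op.L, Op.L, Op.B2, Op.R, Op.B2, Op.R, Op.B2, Op.L, Op.L, Op.L, Op.L, Op.B2, Op.R, Op.B2, Op.R, Op.B2, Op.L, Op.L, Op.L, Op.L, Op.B2, Op.R, Op.B2, Op.R, Op.B2, Op.L, Op.L, Op.L, Op.L, Op.B2, Op.R, Op.B2, Op.R, Op.B2, Op.L, Op.L, Op.L, Op.L, Op.L,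 Op.L, Op.L, Op.L, Op.B2, Op.R, Op.B2, Op.L, Op.L, Op.L, Op.L, Op.L, Op.L, Op.L, Op.B2, Op.R, Op.B2, Op.R, Op.B2, Op.R, Op.B2, Op.R, Op.B3, Op.R, Op.R, Op.B2, Op.R, Op.B3, Op.R, Op.R, Op.B2, Op.R, Op.B2, Op.R, Op.B2, Op.R, Op.B2, Op.R, Op.B2, Op.R, Op.B3, Op.R, Op.R, Op.B3, Op.R, Op.R, Op.B3, Op.R, Op.R, Op.B3, Op.R, Op.R, Op.B2, Op.R, Op.B2, Op.R, Op.B2, Op.R, Op.B2, Op.R, Op.B2, Op.R, Op.B2, Op.R, Op.B2, Op.R, Op.B2, Op.R, Op.B2, Op.R, Op.B2, Op.R, Op.B2, Op.R, Op.B2, Op.R, Op.B2, Op.R, Op.B3, Op.R, Op.R, Op.B3, Op.R, Op.R, Op.B3, Op.R, Op.R, Op.B3, Op.R, Op.R, Op.B2, Op.R, Op.C, Op.L, Op.C, Op.L, Op.C, Op.L, Op.L, Op.B2, Op.R, Op.C, Op.L, Op.L, Op.L, Op.B2, Op.R, Op.B2, Op.R, Op.C, Op.L,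 Op.L, Op.L, Op.L, Op.B2, Op.R, Op.B2, Op.R, Op.B2, Op.R, Op.C, Op.L, Op.L, Op.L, Op.L, Op.L, Op.L, Op.L, Op.L, Op.L, Op.L, Op.L, Op.L, Op.L, Op.L, Op.L, Op.L, Op.L, Op.L, Op.L, Op.L, Op.L, Op.L, Op.L, Op.L, Op.L, Op.L, Op.B2, Op.R, Op.B2, Op.R, Op.B2, Op.R, Op.B2, Op.R, Op.B2, Op.R, Op.B2, Op.L, Op.L, Op.L, Op.L, Op.L, Op.L, Op.B2, Op.R, Op.B2, Op.R, Op.B2, Op.R, Op.B2, Op.L, Op.L, Op.L, Op.L, Op.B2, Op.R, Op.B2, Op.L, Op.L, Op.L, Op.L, Op.L, Op.L, Op.L, Op.L, Op.L, Op.L, Op.L, Op.L, Op.L, Op.L, Op.L, Op.L, Op.L, Op.L, Op.L, Op.L, Op.L, Op.L, Op.B2, Op.R, Op.B2, Op.L, Op.L, Op.B2, Op.L, Op.L, Op.L, Op.L, Op.L, Op.L, Op.L, Op.L, Op.B2, Op.L, Op.L, Op.L, Op.L, Op.B2, Op.R, Op.B2, Op.R, Op.B3,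 Op.R, Op.R, Op.B3, Op.R, Op.R, Op.B2, Op.R, Op.B2, Op.R, Op.B2, Op.R, Op.B2, Op.R, Op.B3, Op.R, Op.R, Op.B3, Op.R, Op.R, Op.B3, Op.R, Op.R, Op.B2, Op.R, Op.B2, Op.R, Op.B2, Op.R, Op.B2, Op.R, Op.B2, Op.R, Op.B2, Op.R, Op.B2, Op.R, Op.B2, Op.R, Op.B2, Op.R, Op.B2, Op.R, Op.B2, Op.R, Op.B3, Op.R, Op.R, Op.B2, Op.R, Op.B3, Op.R, Op.R, Op.B3, Op.R, Op.R, Op.B2, Op.R, Op.B3, Op.R, Op.R, Op.B2, Op.R, Op.B3, Op.R, Op.R, Op.B2, Op.R, Op.B3, Op.R, Op.R, Op.B2, Op.R, Op.B2, Op.R, Op.B2, Op.R, Op.B2, Op.R, Op.B2, Op.R, Op.B2, Op.R, Op.B2, Op.R, Op.B2, Op.R, Op.B2, Op.R, Op.B2, Op.R, Op.B2, Op.R, Op.B2, Op.R, Op.B2, Op.R, Op.B2, Op.R, Op.B2, Op.R, Op.B2, Op.R, Op.B2, Op.R, Op.B2, Op.R, Op.C, Op.L, Op.L,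 Op.L, Op.L, Op.L, Op.L, Op.L, Op.L, Op.L, Op.L, Op.L, Op.L, Op.B3, Op.R, Op.R, Op.B2, Op.R, Op.B2, Op.R, Op.B2, Op.R, Op.B2, Op.L, Op.L, Op.L, Op.L, Op.L, Op.L, Op.B2, Op.R, Op.B3, Op.R, Op.R, Op.B2, Op.R, Op.B2, Op.L, Op.L, Op.L, Op.L, Op.L, Op.B2, Op.R, Op.B2, Op.R, Op.B3, Op.L, Op.L, Op.L, Op.B2, Op.R, Op.B2, Op.L, Op.L, Op.B2, Op.L, Op.L, Op.L, Op.L, Op.L, Op.L, Op.L, Op.L, Op.L, Op.L, Op.L, Op.L, Op.L, Op.L, Op.L, Op.L, Op.L, Op.B2, Op.R, Op.B2, Op.L, Op.L, Op.B2, Op.L, Op.L, Op.L, Op.L, Op.L, Op.L, Op.L, Op.L, Op.L, Op.B2, Op.R, Op.B2, Op.L, Op.L, Op.B2, Op.L, Op.L, Op.L, Op.L, Op.L, Op.L, Op.L, Op.L, Op.L, Op.L, Op.L, Op.B2, Op.R, Op.B3, Op.R, Op.R, Op.B2, Op.R, Op.B2, Op.R, Op.B2,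 Op.R, Op.B2, Op.R, Op.B2, Op.R, Op.B2, Op.R, Op.B3, Op.R, Op.R, Op.B3, Op.R, Op.R, Op.B3]
    [5, 1, 3, 4, 2, 3, 1, 6, 5, 4, 3, 2, 0, 2, 3, 4, 1, 3, 2, 5, 4, 3, 1, 6, 5, 4, 3, 2, 7, 6, 5, 4, 3, 0, 1, 2, 3, 4, 5, 6, 0, 2, 3, 4, 7, 6, 5, 1, 3, 4, 2, 3, 1, 0, 2, 3, 4, 5, 6, 4, 3, 2, 1, 3, 4, 5, 2, 3, 4, 3]
    [4, 7, 3, 2, 0, 6, 5, 4, 3, 1, 2, 7, 0, 1, 2, 3, 4, 5, 6, 7, 0, 1, 2, 3, 4, 5, 6, 7, 0, 1, 2, 3, 4, 5, 6, 7, 0, 1, 2, 3, 4, 5, 6, 7, 0, 1, 2, 3, 4, 5, 6, 7, 0, 1, 2, 3, 4, 5, 6, 7, 0, 1, 2, 3, 4, 5, 6, 7, 0, 1, 2, 3, 4, 5, 6, 7, 0, 1, 2, 3, 4, 5, 6, 7, 0, 1, 2, 3, 4, 5, 6, 7] =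
    ([4, 3, 5, 4, 2, 0, 3, 2, 1, 3, 4, 5, 6, 3, 1, 2, 3, 4, 5, 3, 4, 3],
     [1, 3, 1, 7, 6, 5, 4, 3, 1, 2, 3, 0, 2, 4, 3, 1, 5, 4, 3, 6, 5, 4, 7, 6, 5, 2, 0, 3, 2, 4, 3, 1, 3, 4, 2, 3, 0, 2, 5, 4, 3, 1, 0, 1, 2, 3, 4, 5, 6, 7, 0, 1, 2, 3, 4, 5, 6, 7, 0, 1, 2, 3, 4, 5, 6, 7, 0, 1, 2, 3, 4, 5, 6, 7, 0, 1, 2, 3, 4, 5, 6, 7, 0, 1, 2, 3, 4, 5, 6, 7, 0, 1, 2, 3, 4, 5, 6, 7, 0, 1, 2, 3, 4, 5, 6, 7]) := by decide +kernel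

set_option maxRecDepth 1000000 in
theorem chunk24 : exec (Mt CoxeterMatrix.E₈) [Op.R, Op.R, Op.B2, Op.R, Op.B2, Op.R, Op.B2, Op.R, Op.B2, Op.R, Op.B3, Op.R, Op.R, Op.B3, Op.R, Op.R, Op.B3, Op.R, Op.R, Op.B2, Op.R, Op.B2, Op.R, Op.B2, Op.R, Op.B2, Op.R, Op.B2, Op.R, Op.B2, Op.R, Op.B2, Op.R, Op.B2, Op.R, Op.B2, Op.R, Op.B2, Op.R, Op.B2, Op.R, Op.B2, Op.R, Op.B3, Op.R, Op.R, Op.B3, Op.R, Op.R, Op.B3, Op.R, Op.R, Op.B2, Op.R, Op.B3, Op.R, Op.R, Op.B3, Op.R, Op.R, Op.B3, Op.R, Op.R, Op.B2, Op.R, Op.B2, Op.R, Op.B2, Op.R, Op.B2, Op.R, Op.C, Op.L, Op.C, Op.L, Op.L, Op.L, Op.L, Op.B2, Op.R, Op.B2, Op.L, Op.L, Op.L, Op.B2, Op.R, Op.B2, Op.L, Op.L, Op.L, Op.B2, Op.R, Op.B2, Op.L, Op.L, Op.L, Op.L,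 Op.L, Op.L, Op.L, Op.L, Op.L, Op.L, Op.B2, Op.R, Op.B2, Op.R, Op.B2, Op.R, Op.B2, Op.L, Op.L, Op.L, Op.L, Op.L, Op.L, Op.B2, Op.R, Op.B2, Op.R, Op.B2, Op.R, Op.B2, Op.L, Op.L, Op.L, Op.L, Op.L, Op.L, Op.B2, Op.R, Op.B2, Op.R, Op.B2, Op.R, Op.B2, Op.L, Op.L, Op.L, Op.L, Op.L, Op.L, Op.L, Op.L, Op.L, Op.B2, Op.L, Op.L, Op.B2, Op.L, Op.L, Op.L, Op.L, Op.L, Op.L, Op.L, Op.L, Op.B2, Op.R, Op.B2, Op.R, Op.B2, Op.R, Op.B3, Op.R, Op.R, Op.B2, Op.R, Op.B2, Op.R, Op.B2, Op.R, Op.B3, Op.R, Op.R, Op.B3, Op.R, Op.R, Op.B2, Op.R, Op.B2, Op.R, Op.B2, Op.R, Op.B2, Op.R, Op.B2, Op.R, Op.B2, Op.R, Op.B2, Op.R, Op.B3, Op.R, Op.R, Op.B2, Op.R, Op.B3, Op.R, Op.R, Op.B2, Op.R, Op.B3, Op.R, Op.R, Op.B2, Op.R, Op.B2,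 Op.R, Op.B2, Op.R, Op.B2, Op.R, Op.B2, Op.R, Op.B3, Op.R, Op.R, Op.B3, Op.R, Op.R, Op.B3, Op.R, Op.R, Op.C, Op.L, Op.C, Op.L, Op.L, Op.B2, Op.R, Op.C, Op.L, Op.L, Op.L, Op.B2, Op.R, Op.B2, Op.R, Op.C, Op.L, Op.L, Op.L, Op.L, Op.L, Op.L, Op.L, Op.L, Op.L, Op.L, Op.L, Op.L, Op.L, Op.L, Op.L, Op.L, Op.L, Op.B2, Op.R, Op.B2, Op.R, Op.B2, Op.R, Op.B2, Op.R, Op.B2, Op.R, Op.B2, Op.L, Op.L, Op.L, Op.L, Op.L, Op.L, Op.L, Op.B2, Op.R, Op.B2, Op.R, Op.B2, Op.R, Op.B2, Op.L, Op.L, Op.L, Op.L, Op.L, Op.B2, Op.R, Op.B2, Op.L, Op.L, Op.L, Op.L, Op.L, Op.L, Op.L, Op.L, Op.L, Op.L, Op.B2, Op.R, Op.B2, Op.L, Op.L, Op.L, Op.L, Op.L, Op.L, Op.L, Op.L, Op.L, Op.L, Op.L, Op.L, Op.B2, Op.R, Op.B2, Op.L, Op.L, Op.L,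 Op.B2, Op.L, Op.L, Op.L, Op.L, Op.L, Op.L, Op.L, Op.B2, Op.R, Op.B2, Op.R, Op.B3, Op.R, Op.R, Op.B2, Op.R, Op.B2, Op.R, Op.B2, Op.R, Op.B3, Op.R, Op.R, Op.B2, Op.R, Op.B3, Op.R, Op.R, Op.B2, Op.R, Op.B2, Op.R, Op.B2, Op.R, Op.B2, Op.R, Op.B2, Op.R, Op.B2, Op.R, Op.B3, Op.R, Op.R, Op.B2, Op.R, Op.B3, Op.R, Op.R, Op.B2, Op.R, Op.B2, Op.R, Op.B3, Op.R, Op.R, Op.B2, Op.R, Op.B2, Op.R, Op.B2, Op.R, Op.B3, Op.R, Op.R, Op.B2, Op.R, Op.B2, Op.R, Op.B3, Op.R, Op.R, Op.B2, Op.R, Op.B2, Op.R, Op.B3, Op.R, Op.R, Op.B2, Op.R, Op.B2, Op.R, Op.B2, Op.R, Op.B2, Op.R, Op.B2, Op.R, Op.B2, Op.R, Op.B2, Op.R, Op.B2, Op.R, Op.B2, Op.R, Op.C, Op.L, Op.L, Op.L, Op.L, Op.L, Op.L, Op.L, Op.L, Op.L, Op.L, Op.L, Op.L,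 Op.L, Op.L, Op.L, Op.L, Op.L, Op.L, Op.L, Op.L, Op.B2, Op.R, Op.B2, Op.R, Op.B2, Op.R, Op.B2, Op.R, Op.B2, Op.R, Op.B2, Op.R, Op.B2, Op.R, Op.B2, Op.L, Op.L, Op.L, Op.L, Op.L, Op.L, Op.L, Op.L, Op.B2, Op.R, Op.B2, Op.R, Op.B2, Op.R, Op.B2, Op.L, Op.L, Op.L, Op.L, Op.L, Op.L, Op.L, Op.L, Op.B2, Op.L, Op.L, Op.L, Op.L, Op.L, Op.L, Op.L, Op.L, Op.L, Op.L, Op.L, Op.L, Op.L, Op.L, Op.L, Op.L, Op.L, Op.B2, Op.R, Op.B2, Op.R, Op.B2, Op.L, Op.L, Op.L, Op.L, Op.L, Op.L, Op.L, Op.L, Op.L, Op.B2, Op.R, Op.B2, Op.R, Op.B2, Op.R, Op.B3, Op.R, Op.R, Op.B3, Op.R, Op.R, Op.B2, Op.R, Op.B2, Op.R, Op.B3, Op.R, Op.R, Op.B2, Op.R, Op.B2, Op.R, Op.B2, Op.R, Op.B2, Op.R, Op.B2, Op.R, Op.B2, Op.R, Op.B2, Op.R, Op.B2,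 Op.R, Op.B3, Op.R, Op.R, Op.B2, Op.R, Op.B3, Op.R, Op.R, Op.B3, Op.R, Op.R, Op.B2, Op.R, Op.B3, Op.R, Op.R, Op.B2, Op.R, Op.B2, Op.R, Op.B2, Op.R, Op.B3, Op.R, Op.R, Op.B2, Op.R, Op.B2, Op.R, Op.B2, Op.R, Op.B3, Op.R, Op.R, Op.B2, Op.R, Op.B2, Op.R, Op.B2, Op.R, Op.B2, Op.R, Op.B2, Op.R, Op.B2, Op.R, Op.B2, Op.R, Op.B2, Op.R, Op.B2, Op.R, Op.B2, Op.R, Op.C, Op.L, Op.L, Op.L, Op.L, Op.B2, Op.R, Op.B2, Op.L, Op.L, Op.B2, Op.L, Op.L, Op.L, Op.L, Op.L, Op.L, Op.L, Op.L, Op.L, Op.L, Op.L, Op.L, Op.L, Op.L, Op.L, Op.L, Op.L, Op.L, Op.L, Op.L, Op.L, Op.L, Op.L, Op.L, Op.B2, Op.R, Op.B2, Op.L, Op.L, Op.B2, Op.L, Op.L, Op.L, Op.L, Op.L, Op.L, Op.B2, Op.R, Op.B2, Op.R, Op.B2, Op.R, Op.B2, Op.R, Op.B3,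 Op.R, Op.R, Op.B3, Op.R, Op.R, Op.B3, Op.R, Op.R, Op.B2, Op.R, Op.B2, Op.R, Op.B2, Op.R, Op.B2, Op.R, Op.B2, Op.R, Op.B2, Op.R, Op.B3, Op.R, Op.R, Op.B2, Op.R, Op.B2, Op.R, Op.B2, Op.R, Op.B3, Op.R, Op.R, Op.B2, Op.R, Op.B2, Op.R, Op.B2, Op.R, Op.B3, Op.R, Op.R, Op.B2, Op.R, Op.B3, Op.R, Op.R, Op.B3, Op.R, Op.R, Op.B3, Op.R, Op.R, Op.C, Op.L, Op.L, Op.L, Op.L, Op.L, Op.L, Op.L, Op.L, Op.B3, Op.R, Op.R, Op.B2, Op.R, Op.B2, Op.L, Op.L, Op.L, Op.L, Op.B2, Op.R, Op.B3, Op.L, Op.L, Op.L, Op.L, Op.L, Op.B2, Op.R, Op.B2, Op.R, Op.B2, Op.R, Op.B2, Op.L, Op.L, Op.L, Op.L, Op.B2, Op.R, Op.B2, Op.R, Op.B2, Op.L, Op.L, Op.L, Op.L, Op.L, Op.L, Op.L, Op.L, Op.L, Op.L, Op.L, Op.B2, Op.R, Op.B2, Op.L, Op.L,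 Op.B2, Op.L, Op.L, Op.L, Op.L, Op.L, Op.L, Op.L, Op.L, Op.L, Op.L, Op.L, Op.L, Op.B2, Op.R, Op.B2, Op.R, Op.B3, Op.R, Op.R, Op.B2, Op.R, Op.B2, Op.R, Op.B2, Op.R, Op.B2, Op.R, Op.B2, Op.R, Op.B2, Op.R, Op.B3, Op.R, Op.R, Op.B3, Op.R, Op.R, Op.B3, Op.R, Op.R, Op.B2, Op.R, Op.B2, Op.R, Op.B2, Op.R, Op.B2, Op.R, Op.B2, Op.R, Op.B2, Op.R, Op.B2, Op.R, Op.B2, Op.R, Op.B3, Op.R, Op.R, Op.B3, Op.R, Op.R, Op.B2, Op.R, Op.B3, Op.R, Op.R, Op.B3, Op.R, Op.R, Op.B2, Op.R, Op.B2, Op.R, Op.C, Op.L, Op.C, Op.L, Op.L, Op.B2, Op.R, Op.C, Op.L, Op.L, Op.L, Op.L, Op.L, Op.L, Op.B3, Op.R, Op.R, Op.B2, Op.R, Op.B2, Op.R, Op.B2, Op.R, Op.C, Op.L, Op.L, Op.L, Op.L, Op.L, Op.L, Op.L, Op.L, Op.L, Op.B2, Op.R, Op.B2,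 Op.R, Op.B2, Op.L, Op.L, Op.L, Op.L, Op.L, Op.B2, Op.R, Op.B2, Op.L, Op.L, Op.L, Op.L, Op.L, Op.L, Op.L, Op.L, Op.L, Op.L, Op.L, Op.L, Op.B2, Op.R, Op.B2, Op.L, Op.L, Op.L, Op.B2, Op.L, Op.L, Op.L, Op.L, Op.L, Op.L, Op.L, Op.L, Op.B2, Op.R, Op.B2, Op.R, Op.B2, Op.R, Op.B3, Op.R, Op.R, Op.B2, Op.R, Op.B2, Op.R, Op.B2, Op.R, Op.B3, Op.R, Op.R, Op.B2, Op.R, Op.B3, Op.R, Op.R, Op.B2, Op.R, Op.B2, Op.R, Op.B3, Op.R, Op.R, Op.B2, Op.R, Op.B2, Op.R, Op.B2, Op.R, Op.B2, Op.R, Op.B2, Op.R, Op.B3, Op.R, Op.R, Op.B2, Op.R, Op.B2, Op.R, Op.B3, Op.R, Op.R, Op.B2, Op.R, Op.B2, Op.R, Op.B2, Op.R, Op.B2, Op.R, Op.C, Op.L, Op.L, Op.L, Op.L, Op.L, Op.L, Op.L, Op.L, Op.L, Op.L, Op.L, Op.B2, Op.R, Op.B2, Op.R,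 Op.B2, Op.R, Op.B2, Op.L, Op.L, Op.L, Op.L, Op.L, Op.B2, Op.L, Op.L, Op.L, Op.L]
    [4, 3, 5, 4, 2, 0, 3, 2, 1, 3, 4, 5, 6, 3, 1, 2, 3, 4, 5, 3, 4, 3]
    [1, 3, 1, 7, 6, 5, 4, 3, 1, 2, 3, 0, 2, 4, 3, 1, 5, 4, 3, 6, 5, 4, 7, 6, 5, 2, 0, 3, 2, 4, 3, 1, 3, 4, 2, 3, 0, 2, 5, 4, 3, 1, 0, 1, 2, 3, 4, 5, 6, 7, 0, 1, 2, 3, 4, 5, 6, 7, 0, 1, 2, 3, 4, 5, 6, 7, 0, 1, 2, 3, 4, 5, 6, 7, 0, 1, 2, 3, 4, 5, 6, 7, 0, 1, 2, 3, 4, 5, 6, 7, 0, 1, 2, 3, 4, 5, 6, 7, 0, 1, 2, 3, 4, 5, 6, 7] =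
    ([1, 4, 3, 2, 5, 4, 3, 0, 2, 1, 3, 4, 5, 6, 7, 2, 0, 5, 4, 3, 2, 1, 3, 4, 5, 6, 2, 3, 4, 5, 3, 4, 3],
     [3, 2, 0, 6, 7, 5, 4, 3, 1, 2, 6, 5, 4, 3, 2, 1, 0, 6, 7, 0, 1, 2, 3, 4, 5, 6, 7, 0, 1, 2, 3, 4, 5, 6, 7, 0, 1, 2, 3, 4, 5, 6, 7, 0, 1, 2, 3, 4, 5, 6, 7, 0, 1, 2, 3, 4, 5, 6, 7, 0, 1, 2, 3, 4, 5, 6, 7]) := by decide +kernel

set_option maxRecDepth 1000000 in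
theorem chunk25 : exec (Mt CoxeterMatrix.E₈) [Op.L, Op.L, Op.B2, Op.L, Op.L, Op.L, Op.L, Op.L, Op.L, Op.L, Op.L, Op.B2, Op.R, Op.B2, Op.L, Op.L, Op.L, Op.L, Op.L, Op.L, Op.L, Op.B2, Op.R, Op.B2, Op.R, Op.B2, Op.R, Op.B2, Op.R, Op.B3, Op.R, Op.R, Op.B2, Op.R, Op.B3, Op.R, Op.R, Op.B2, Op.R, Op.B2, Op.R, Op.B2, Op.R, Op.B3, Op.R, Op.R, Op.B3, Op.R, Op.R, Op.B2, Op.R, Op.B2, Op.R, Op.B2, Op.R, Op.B2, Op.R, Op.B3, Op.R, Op.R, Op.B2, Op.R, Op.B2, Op.R, Op.B2, Op.R, Op.B3, Op.R, Op.R, Op.B2, Op.R, Op.B2, Op.R, Op.B2, Op.R, Op.B2, Op.R, Op.B2, Op.R, Op.C, Op.L, Op.L, Op.L, Op.L, Op.L, Op.L, Op.L, Op.L, Op.L, Op.L, Op.L, Op.L, Op.L, Op.B2, Op.R, Op.B2, Op.R, Op.B2, Op.R, Op.B2, Op.R, Op.B2, Op.L,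 Op.L, Op.L, Op.L, Op.L, Op.L, Op.L, Op.L, Op.L, Op.L, Op.L, Op.L, Op.L, Op.B2, Op.R, Op.B2, Op.R, Op.B2, Op.L, Op.L, Op.L, Op.B2, Op.L, Op.L, Op.L, Op.L, Op.L, Op.L, Op.L, Op.L, Op.L, Op.L, Op.B2, Op.R, Op.B2, Op.R, Op.B2, Op.R, Op.B2, Op.R, Op.B2, Op.R, Op.B3, Op.R, Op.R, Op.B2, Op.R, Op.B3, Op.R, Op.R, Op.B3, Op.R, Op.R, Op.B2, Op.R, Op.B3, Op.R, Op.R, Op.B2, Op.R, Op.B2, Op.R, Op.B2, Op.R, Op.B3, Op.R, Op.R, Op.B2, Op.R, Op.B2, Op.R, Op.B2, Op.R, Op.B2, Op.R, Op.B3, Op.R, Op.R, Op.B2, Op.R, Op.B2, Op.R, Op.B2, Op.R, Op.B2, Op.R, Op.B2, Op.R, Op.B2, Op.R, Op.C, Op.L, Op.C, Op.L, Op.C, Op.L, Op.C, Op.L, Op.C, Op.L, Op.C, Op.L, Op.C, Op.L, Op.C, Op.L, Op.C, Op.L, Op.L, Op.L, Op.L, Op.L, Op.L,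 Op.L, Op.B2, Op.R, Op.B2, Op.R, Op.B2, Op.R, Op.B2, Op.R, Op.B2, Op.L, Op.L, Op.L, Op.L, Op.L, Op.B2, Op.R, Op.B2, Op.R, Op.B2, Op.L, Op.L, Op.L, Op.B2, Op.R, Op.B2, Op.L, Op.L, Op.B2, Op.L, Op.L, Op.L, Op.L, Op.L, Op.L, Op.L, Op.L, Op.L, Op.L, Op.L, Op.L, Op.L, Op.L, Op.L, Op.B2, Op.R, Op.B3, Op.R, Op.R, Op.B2, Op.R, Op.B2, Op.R, Op.B2, Op.R, Op.B2, Op.R, Op.B2, Op.R, Op.B2, Op.R, Op.B2, Op.R, Op.B2, Op.R, Op.B2, Op.R, Op.B2, Op.R, Op.B3, Op.R, Op.R, Op.B3, Op.R, Op.R, Op.B3, Op.R, Op.R, Op.B3, Op.R, Op.R, Op.B2, Op.R, Op.B3, Op.R, Op.R, Op.C, Op.L, Op.L, Op.L, Op.B2, Op.R, Op.B2, Op.R, Op.C, Op.L, Op.C, Op.L, Op.L, Op.B2, Op.R, Op.C, Op.L, Op.L, Op.L, Op.B2, Op.R, Op.B2, Op.R, Op.C, Op.L,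 Op.L, Op.L, Op.L, Op.B2, Op.R, Op.B2, Op.R, Op.B2, Op.R, Op.C, Op.L, Op.L, Op.L, Op.L, Op.L, Op.B2, Op.R, Op.B2, Op.R, Op.B2, Op.R, Op.B2, Op.R, Op.C, Op.L, Op.L, Op.L, Op.L, Op.L, Op.L, Op.L, Op.L, Op.L, Op.L, Op.L, Op.L, Op.L, Op.L, Op.L, Op.L, Op.L, Op.L, Op.L, Op.L, Op.L, Op.L, Op.L, Op.L, Op.L, Op.L, Op.L, Op.L, Op.L, Op.L, Op.L, Op.L, Op.L, Op.B3, Op.R, Op.R, Op.B3, Op.R, Op.R, Op.B2, Op.R, Op.B2, Op.R, Op.B3, Op.R, Op.R, Op.B2, Op.R, Op.B2, Op.R, Op.B2, Op.R, Op.B2, Op.R, Op.B2, Op.R, Op.B2, Op.R, Op.B3, Op.R, Op.R, Op.B2, Op.R, Op.B2, Op.R, Op.B2, Op.R, Op.B2, Op.R, Op.B2, Op.R, Op.B2, Op.R, Op.B2, Op.R, Op.B2, Op.R, Op.B2, Op.R, Op.B2, Op.R, Op.B2, Op.R, Op.B2, Op.R, Op.B2, Op.R,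 Op.B2, Op.R, Op.B2, Op.R, Op.B2, Op.R, Op.C, Op.L, Op.C, Op.L, Op.L, Op.L, Op.L, Op.L, Op.B2, Op.R, Op.B2, Op.L, Op.L, Op.B2, Op.L, Op.L, Op.L, Op.L, Op.L, Op.L, Op.L, Op.L, Op.L, Op.L, Op.L, Op.L, Op.B2, Op.R, Op.B2, Op.R, Op.B3, Op.R, Op.R, Op.B2, Op.R, Op.B2, Op.R, Op.B2, Op.R, Op.B2, Op.R, Op.B2, Op.R, Op.B2, Op.R, Op.B3, Op.R, Op.R, Op.B3, Op.R, Op.R, Op.B3, Op.R, Op.R, Op.B2, Op.R, Op.C, Op.L, Op.C, Op.L, Op.C, Op.L, Op.L, Op.B2, Op.R, Op.C, Op.L, Op.L, Op.L, Op.B2, Op.R, Op.B2, Op.R, Op.C, Op.L, Op.L, Op.L, Op.L, Op.L, Op.L, Op.L, Op.L, Op.L, Op.L, Op.L, Op.L, Op.L, Op.L, Op.L, Op.L, Op.L, Op.L, Op.L, Op.L, Op.L, Op.L, Op.L, Op.L, Op.L, Op.B2, Op.R, Op.B3, Op.R, Op.R, Op.B2, Op.R, Op.B2,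 Op.R, Op.B3, Op.R, Op.R, Op.B2, Op.R, Op.B2, Op.R, Op.B2, Op.R, Op.B2, Op.R, Op.B2, Op.R, Op.B3, Op.R, Op.R, Op.B2, Op.R, Op.B2, Op.R, Op.B2, Op.R, Op.B2, Op.R, Op.B2, Op.R, Op.B2, Op.R, Op.B2, Op.R, Op.B2, Op.R, Op.B2, Op.R, Op.B2, Op.R, Op.C, Op.L, Op.L, Op.L, Op.L, Op.L, Op.L, Op.L, Op.L, Op.L, Op.L, Op.L, Op.L, Op.L, Op.L, Op.L, Op.L, Op.L, Op.L, Op.L, Op.L, Op.L, Op.L, Op.L, Op.L, Op.L, Op.B3, Op.R, Op.R, Op.B2, Op.R, Op.B2, Op.R, Op.B3, Op.R, Op.R, Op.B2, Op.R, Op.B2, Op.R, Op.B2, Op.R, Op.B2, Op.R, Op.B2, Op.R, Op.B3, Op.R, Op.R, Op.B2, Op.R, Op.B2, Op.R, Op.B2, Op.R, Op.B2, Op.R, Op.B2, Op.R, Op.B2, Op.R, Op.B2, Op.R, Op.B2, Op.R, Op.B2, Op.R, Op.B2, Op.R, Op.B2, Op.R, Op.C, Op.L,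 Op.L, Op.L, Op.L, Op.L, Op.L, Op.L, Op.B2, Op.R, Op.B2, Op.L, Op.L, Op.B2, Op.L, Op.L, Op.L, Op.L, Op.L, Op.L, Op.L, Op.L, Op.B2, Op.L, Op.L, Op.L, Op.L, Op.L, Op.B2, Op.R, Op.B2, Op.R, Op.B2, Op.R, Op.B3, Op.R, Op.R, Op.B3, Op.R, Op.R, Op.B2, Op.R, Op.B2, Op.R, Op.B2, Op.R, Op.B2, Op.R, Op.B3, Op.R, Op.R, Op.B3, Op.R, Op.R, Op.B3, Op.R, Op.R, Op.B2, Op.R, Op.B2, Op.R, Op.B2, Op.R, Op.C, Op.L, Op.C, Op.L, Op.L, Op.L, Op.B2, Op.L, Op.L, Op.B2, Op.L, Op.L, Op.L, Op.L, Op.L, Op.L, Op.L, Op.L, Op.B2, Op.R, Op.B2, Op.R, Op.B2, Op.R, Op.B3, Op.R, Op.R, Op.B2, Op.R, Op.B2, Op.R, Op.B2, Op.R, Op.B3, Op.R, Op.R, Op.B3, Op.R, Op.R, Op.C, Op.L, Op.C, Op.L, Op.L, Op.B2, Op.R, Op.C, Op.L, Op.L, Op.L, Op.L,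 Op.L, Op.L, Op.L, Op.L, Op.L, Op.L, Op.L, Op.L, Op.L, Op.L, Op.L, Op.L, Op.L, Op.B2, Op.R, Op.B2, Op.R, Op.B3, Op.R, Op.R, Op.B2, Op.R, Op.B2, Op.R, Op.B2, Op.R, Op.B2, Op.R, Op.B3, Op.R, Op.R, Op.B2, Op.R, Op.B2, Op.R, Op.B2, Op.R, Op.B2, Op.R, Op.B2, Op.R, Op.B2, Op.R, Op.C, Op.L, Op.L, Op.L, Op.L, Op.L, Op.L, Op.L, Op.L, Op.L, Op.L, Op.L, Op.L, Op.L, Op.L, Op.L, Op.L, Op.L, Op.B2, Op.R, Op.B3, Op.R, Op.R, Op.B2, Op.R, Op.B2, Op.R, Op.B2, Op.R, Op.B2, Op.R, Op.B3, Op.R, Op.R, Op.B2, Op.R, Op.B2, Op.R, Op.B2, Op.R, Op.B2, Op.R, Op.B2, Op.R, Op.B2, Op.R, Op.B2, Op.R, Op.C, Op.L, Op.L, Op.L, Op.L, Op.L, Op.L, Op.L, Op.L, Op.L, Op.L, Op.L, Op.L, Op.L, Op.L, Op.L, Op.L, Op.L, Op.B3, Op.R, Op.R,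 Op.B2, Op.R, Op.B2, Op.R, Op.B2, Op.R, Op.B2, Op.R, Op.B3, Op.R, Op.R, Op.B2, Op.R, Op.B2, Op.R, Op.B2, Op.R, Op.B2, Op.R, Op.B2, Op.R, Op.B2, Op.R, Op.B2, Op.R, Op.B2, Op.R, Op.C, Op.L, Op.L, Op.L, Op.B2, Op.L, Op.L, Op.L, Op.L, Op.L, Op.L, Op.L, Op.L, Op.B2, Op.R, Op.B2, Op.R, Op.B2, Op.R, Op.B2, Op.R, Op.B3, Op.R, Op.R, Op.B3, Op.R, Op.R, Op.B3, Op.R, Op.R, Op.C, Op.L, Op.L, Op.L, Op.L, Op.L, Op.B2, Op.L, Op.L, Op.L, Op.L, Op.L, Op.L, Op.B2, Op.R, Op.B2, Op.R, Op.B2, Op.R, Op.B2, Op.R, Op.B3, Op.R, Op.R, Op.B3, Op.R, Op.R, Op.B2, Op.R, Op.B2, Op.R, Op.C, Op.L, Op.C, Op.L, Op.L, Op.B2, Op.R, Op.C, Op.L, Op.L, Op.L, Op.L, Op.L, Op.L, Op.L, Op.L, Op.L, Op.B2, Op.R, Op.B2, Op.R, Op.B2, Op.R,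 Op.B3, Op.R, Op.R, Op.B2, Op.R]
    [1, 4, 3, 2, 5, 4, 3, 0, 2, 1, 3, 4, 5, 6, 7, 2, 0, 5, 4, 3, 2, 1, 3, 4, 5, 6, 2, 3, 4, 5, 3, 4, 3]
    [3, 2, 0, 6, 7, 5, 4, 3, 1, 2, 6, 5, 4, 3, 2, 1, 0, 6, 7, 0, 1, 2, 3, 4, 5, 6, 7, 0, 1, 2, 3, 4, 5, 6, 7, 0, 1, 2, 3, 4, 5, 6, 7, 0, 1, 2, 3, 4, 5, 6, 7, 0, 1, 2, 3, 4, 5, 6, 7, 0, 1, 2, 3, 4, 5, 6, 7] =
    ([2, 3, 4, 5, 6, 7, 4, 5, 6],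
     [4, 1, 0, 4, 5, 6, 7, 0, 1, 2, 3, 4, 5, 6, 7]) := by decide +kernel

set_option maxRecDepth 1000000 in
theorem chunk26 : exec (Mt CoxeterMatrix.E₈) [Op.B2, Op.R, Op.B2, Op.R, Op.C, Op.L, Op.L, Op.L, Op.L, Op.L, Op.L, Op.L, Op.L, Op.L, Op.B2, Op.R, Op.B2, Op.R, Op.B3, Op.R, Op.R, Op.B2, Op.R, Op.B2, Op.R, Op.B2, Op.R, Op.B2, Op.R, Op.C, Op.L, Op.L, Op.L, Op.L, Op.L, Op.L, Op.L, Op.L, Op.L, Op.B2, Op.R, Op.B3, Op.R, Op.R, Op.B2, Op.R, Op.B2, Op.R, Op.B2, Op.R, Op.B2, Op.R, Op.B2, Op.R, Op.C, Op.L, Op.L, Op.L, Op.L, Op.L, Op.L, Op.L, Op.L, Op.L, Op.B3, Op.R, Op.R, Op.B2, Op.R, Op.B2, Op.R, Op.B2, Op.R, Op.B2, Op.R, Op.B2, Op.R, Op.B2, Op.R, Op.C, Op.L, Op.C, Op.L, Op.C, Op.L, Op.C, Op.L,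 Op.C, Op.L, Op.C, Op.L, Op.C, Op.L, Op.C, Op.L, Op.C]
    [2, 3, 4, 5, 6, 7, 4, 5, 6]
    [4, 1, 0, 4, 5, 6, 7, 0, 1, 2, 3, 4, 5, 6, 7] =
    ([],
     []) := by decide +kernel

set_option maxRecDepth 100000 in
theorem upper : ((List.finRange 8).map CoxeterMatrix.E₈.simple).prod ^ 30 = 1 :=
  pow_eq_one_of_exec CoxeterMatrix.E₈ 30 [0, 1, 2, 3, 4, 5, 6, 7, 0, 1, 2, 3, 4, 5, 6, 7, 0, 1, 2, 3, 4, 5, 6, 7, 0, 1, 2, 3, 4, 5, 6, 7, 0, 1, 2, 3, 4, 5, 6, 7, 0, 1, 2, 3, 4, 5, 6, 7, 0, 1, 2, 3, 4, 5, 6, 7, 0, 1, 2, 3, 4, 5, 6, 7, 0, 1, 2, 3, 4, 5, 6, 7, 0, 1, 2, 3, 4, 5, 6, 7, 0, 1, 2, 3, 4, 5, 6, 7, 0, 1, 2, 3, 4, 5, 6, 7, 0, 1, 2, 3, 4, 5, 6, 7, 0, 1, 2, 3, 4, 5, 6, 7, 0, 1, 2, 3, 4, 5, 6, 7, 0, 1,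 2, 3, 4, 5, 6, 7, 0, 1, 2, 3, 4, 5, 6, 7, 0, 1, 2, 3, 4, 5, 6, 7, 0, 1, 2, 3, 4, 5, 6, 7, 0, 1, 2, 3, 4, 5, 6, 7, 0, 1, 2, 3, 4, 5, 6, 7, 0, 1, 2, 3, 4, 5, 6, 7, 0, 1, 2, 3, 4, 5, 6, 7, 0, 1, 2, 3, 4, 5, 6, 7, 0, 1, 2, 3, 4, 5, 6, 7, 0, 1, 2, 3, 4, 5, 6, 7, 0, 1, 2, 3, 4, 5, 6, 7, 0, 1, 2, 3, 4, 5, 6, 7, 0, 1, 2, 3, 4, 5, 6, 7, 0, 1, 2, 3, 4, 5, 6, 7] (by decide +kernel)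
    ((val_eq_of_exec _ _ _ _ _ _ chunk0).trans
    ((val_eq_of_exec _ _ _ _ _ _ chunk1).trans
    ((val_eq_of_exec _ _ _ _ _ _ chunk2).trans
    ((val_eq_of_exec _ _ _ _ _ _ chunk3).trans
    ((val_eq_of_exec _ _ _ _ _ _ chunk4).trans
    ((val_eq_of_exec _ _ _ _ _ _ chunk5).trans
    ((val_eq_of_exec _ _ _ _ _ _ chunk6).trans
    ((val_eq_of_exec _ _ _ _ _ _ chunk7).trans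
    ((val_eq_of_exec _ _ _ _ _ _ chunk8).trans
    ((val_eq_of_exec _ _ _ _ _ _ chunk9).trans
    ((val_eq_of_exec _ _ _ _ _ _ chunk10).trans
    ((val_eq_of_exec _ _ _ _ _ _ chunk11).trans
    ((val_eq_of_exec _ _ _ _ _ _ chunk12).trans
    ((val_eq_of_exec _ _ _ _ _ _ chunk13).trans
    ((val_eq_of_exec _ _ _ _ _ _ chunk14).trans
    ((val_eq_of_exec _ _ _ _ _ _ chunk15).trans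
    ((val_eq_of_exec _ _ _ _ _ _ chunk16).trans
    ((val_eq_of_exec _ _ _ _ _ _ chunk17).trans
    ((val_eq_of_exec _ _ _ _ _ _ chunk18).trans
    ((val_eq_of_exec _ _ _ _ _ _ chunk19).trans
    ((val_eq_of_exec _ _ _ _ _ _ chunk20).trans
    ((val_eq_of_exec _ _ _ _ _ _ chunk21).trans
    ((val_eq_of_exec _ _ _ _ _ _ chunk22).trans
    ((val_eq_of_exec _ _ _ _ _ _ chunk23).trans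
    ((val_eq_of_exec _ _ _ _ _ _ chunk24).trans
    ((val_eq_of_exec _ _ _ _ _ _ chunk25).trans
    (val_eq_of_exec _ _ _ _ _ _ chunk26)))))))))))))))))))))))))))

set_option maxRecDepth 100000 in
theorem order : orderOf ((List.finRange 8).map CoxeterMatrix.E₈.simple).prod = 30 :=
  order_coxeter CoxeterMatrix.E₈ S liftable 30 [15, 10, 6] (by norm_num) upper (by decide +kernel) (by decide +kernel)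

end Cfsg.Agent.H24.Cox.E8
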