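import Cfsg.Agent.H91.TTFischer
import Cfsg.Agent.H91.TTRank3
import Cfsg.Agent.S2530
import Cfsg.Agent.H27.ZStarHyp

/-!
# Fischer's lemma `O(⟨D_x⟩) ≰ Z(⟨D_x⟩) ⟹ G ≅ S₅` : basic tools (helper24)

`Qs z` is `O₃(C_G(z))` as a subgroup of `G`, `Zs z` its centre.  We record their basic properties
(3-group, normalised by `C_G(z)`, equivariance), a cancellation lemma `c1`, and homomorphisms
from `S₄`, `S₅` to a group generated by involutions satisfying the Coxeter relations of a path.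
-/

set_option autoImplicit false
open Cfsg

namespace Cfsg.Agent.H24.F5

open Cfsg.Agent.H91

universe u

section basics

variable {G : Type u} [Group G]

/-- `O₃` of the centraliser of `z`, as a subgroup of `G` -/
def Qs (z : G) : Subgroup G :=
  (pCore 3 ↥(Subgroup.centralizer ({z} : Set G))).map (Subgroup.centralizer ({z} : Set G)).subtype

/-- the centre of `Qs z` -/
def Zs (z : G) : Subgroup G := Qs z ⊓ Subgroup.centralizer (Qs z : Set G)

theorem mem_cent_singleton {z g : G} : g ∈ Subgroup.centralizer ({z} : Set G) ↔ Commute z g := by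
  rw [Subgroup.mem_centralizer_iff]
  constructor
  · intro h; exact h z rfl
  · intro h y hy; rw [Set.mem_singleton_iff] at hy; subst hy; exact h.eq

theorem Qs_commute {z q : G} (hq : q ∈ Qs z) : Commute z q := by
  obtain ⟨q', -, rfl⟩ := hq
  exact mem_cent_singleton.mp q'.2

theorem Qs_isPGroup [Finite G] (z : G) : IsPGroup 3 (Qs z) := by
  have : Fact (Nat.Prime 3) := ⟨Nat.prime_three⟩
  exact (Cfsg.Agent.H91.pCore_isPGroup (G := ↥(Subgroup.centralizer ({z} : Set G))) 3).map _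

theorem Qs_normal {z g q : G} (hg : Commute z g) (hq : q ∈ Qs z) : g * q * g⁻¹ ∈ Qs z := by
  obtain ⟨q', hq', rfl⟩ := hq
  have hgC : g ∈ Subgroup.centralizer ({z} : Set G) := mem_cent_singleton.mpr hg
  have hn : (pCore 3 ↥(Subgroup.centralizer ({z} : Set G))).Normal := inferInstance
  exact ⟨⟨g, hgC⟩ * q' * ⟨g, hgC⟩⁻¹, hn.conj_mem q' hq' ⟨g, hgC⟩, rfl⟩

theorem le_Qs [Finite G] {z : G} {P : Subgroup G} (hP : IsPGroup 3 P)
    (hPC : ∀ p ∈ P, Commute z p)
    (hN : ∀ g : G, Commute z g → ∀ p ∈ P, g * p * g⁻¹ ∈ P) : P ≤ Qs z := by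
  intro p hp
  have hpC : p ∈ Subgroup.centralizer ({z} : Set G) := mem_cent_singleton.mpr (hPC p hp)
  have hn : (P.subgroupOf (Subgroup.centralizer ({z} : Set G))).Normal := by
    refine ⟨fun n hn g => ?_⟩
    rw [Subgroup.mem_subgroupOf] at hn ⊢
    exact hN g (mem_cent_singleton.mp g.2) n hn
  have hp3 : IsPGroup 3 ↥(P.subgroupOf (Subgroup.centralizer ({z} : Set G))) := hP.comap_subtype
  have hle : P.subgroupOf (Subgroup.centralizer ({z} : Set G)) ≤
      pCore 3 ↥(Subgroup.centralizer ({z} : Set G)) := le_sSup ⟨hn, hp3⟩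
  exact ⟨⟨p, hpC⟩, hle (by rw [Subgroup.mem_subgroupOf]; exact hp), rfl⟩

theorem Qs_conj [Finite G] {z q : G} (g : G) (hq : q ∈ Qs z) :
    g * q * g⁻¹ ∈ Qs (g * z * g⁻¹) := by
  have hle : (Qs z).map (MulAut.conj g).toMonoidHom ≤ Qs (g * z * g⁻¹) := by
    apply le_Qs ((Qs_isPGroup z).map _)
    · rintro _ ⟨q, hq, rfl⟩
      have h := (Qs_commute hq).eq
      show (g * z * g⁻¹) * (g * q * g⁻¹) = (g * q * g⁻¹) * (g * z * g⁻¹)
      calc (g * z * g⁻¹) * (g * q * g⁻¹) = g * (z * q) * g⁻¹ := by group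
        _ = g * (q * z) * g⁻¹ := by rw [h]
        _ = (g * q * g⁻¹) * (g * z * g⁻¹) := by group
    · rintro h hh _ ⟨q, hq, rfl⟩
      have hc : Commute z (g⁻¹ * h * g) := by
        have h' : (g * z * g⁻¹) * h = h * (g * z * g⁻¹) := hh.eq
        show z * (g⁻¹ * h * g) = (g⁻¹ * h * g) * z
        calc z * (g⁻¹ * h * g) = g⁻¹ * ((g * z * g⁻¹) * h) * g := by group
          _ = g⁻¹ * (h * (g * z * g⁻¹)) * g := by rw [h']
          _ = (g⁻¹ * h * g) * z := by group
      refine ⟨(g⁻¹ * h * g) * q * (g⁻¹ * h * g)⁻¹, Qs_normal hc hq, ?_⟩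
      show g * ((g⁻¹ * h * g) * q * (g⁻¹ * h * g)⁻¹) * g⁻¹ = h * (g * q * g⁻¹) * h⁻¹
      group
  exact hle ⟨q, hq, rfl⟩

theorem Zs_le_Qs (z : G) : Zs z ≤ Qs z := inf_le_left

theorem Zs_comm {z a b : G} (ha : a ∈ Zs z) (hb : b ∈ Qs z) : Commute a b := by
  have h1 : a ∈ Subgroup.centralizer (Qs z : Set G) := ha.2
  exact (Subgroup.mem_centralizer_iff.mp h1 b hb).symm

theorem Zs_conj [Finite G] {z ζ : G} (g : G) (h : ζ ∈ Zs z) :
    g * ζ * g⁻¹ ∈ Zs (g * z * g⁻¹) := by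
  refine ⟨Qs_conj g h.1, ?_⟩
  show g * ζ * g⁻¹ ∈ Subgroup.centralizer (Qs (g * z * g⁻¹) : Set G)
  rw [Subgroup.mem_centralizer_iff]
  intro q hq
  have h1 : g⁻¹ * q * g⁻¹⁻¹ ∈ Qs (g⁻¹ * (g * z * g⁻¹) * g⁻¹⁻¹) := Qs_conj g⁻¹ hq
  have e1 : g⁻¹ * (g * z * g⁻¹) * g⁻¹⁻¹ = z := by group
  rw [e1] at h1
  have h3 : ζ * (g⁻¹ * q * g⁻¹⁻¹) = (g⁻¹ * q * g⁻¹⁻¹) * ζ := (Zs_comm h h1).eq
  calc q * (g * ζ * g⁻¹) = g * ((g⁻¹ * q * g⁻¹⁻¹) * ζ) * g⁻¹ := by group
    _ = g * (ζ * (g⁻¹ * q * g⁻¹⁻¹)) * g⁻¹ := by rw [h3]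
    _ = g * ζ * g⁻¹ * q := by group

theorem Zs_normal [Finite G] {z g ζ : G} (hg : Commute z g) (h : ζ ∈ Zs z) :
    g * ζ * g⁻¹ ∈ Zs z := by
  have h1 := Zs_conj g h
  have e : g * z * g⁻¹ = z := by
    rw [← hg.eq, mul_assoc, mul_inv_cancel, mul_one]
  rwa [e] at h1

/-- conjugation by an involution commuting with `z` -/
theorem Zs_normal' [Finite G] {z g ζ : G} (hg : Commute z g) (hg2 : g * g = 1) (h : ζ ∈ Zs z) :
    g * ζ * g ∈ Zs z := by
  have h1 := Zs_normal hg h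
  rwa [inv_eq_of_mul_eq_one_right hg2] at h1

theorem Qs_normal' {z g q : G} (hg : Commute z g) (hg2 : g * g = 1) (hq : q ∈ Qs z) :
    g * q * g ∈ Qs z := by
  have h1 := Qs_normal hg hq
  rwa [inv_eq_of_mul_eq_one_right hg2] at h1

theorem exists_Zs_ne_one [Finite G] {z q : G} (hq : q ∈ Qs z) (hq1 : q ≠ 1) :
    ∃ ζ ∈ Zs z, ζ ≠ 1 := by
  have : Fact (Nat.Prime 3) := ⟨Nat.prime_three⟩
  have hnt : Nontrivial ↥(Qs z) := ⟨⟨⟨q, hq⟩, 1, fun h => hq1 (congrArg Subtype.val h)⟩⟩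
  have hc := (Qs_isPGroup z).center_nontrivial
  obtain ⟨c, hc1⟩ := exists_ne (1 : ↥(Subgroup.center ↥(Qs z)))
  refine ⟨((c : ↥(Qs z)) : G), ⟨(c : ↥(Qs z)).2, ?_⟩, ?_⟩
  · show ((c : ↥(Qs z)) : G) ∈ Subgroup.centralizer (Qs z : Set G)
    rw [Subgroup.mem_centralizer_iff]
    intro h hh
    have := Subgroup.mem_center_iff.mp c.2 ⟨h, hh⟩
    exact congrArg Subtype.val this
  · intro h
    apply hc1
    ext
    exact h

/-- an element of a 3-group squaring to one is trivial -/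
theorem eq_one_of_sq {N : Subgroup G} (hN : IsPGroup 3 N) {n : G} (hn : n ∈ N)
    (h2 : n * n = 1) : n = 1 := by
  obtain ⟨k, hk⟩ := hN ⟨n, hn⟩
  have hk' : n ^ 3 ^ k = 1 := by simpa using congrArg Subtype.val hk
  have h1 : orderOf n ∣ 3 ^ k := orderOf_dvd_of_pow_eq_one hk'
  have h2' : orderOf n ∣ 2 := orderOf_dvd_of_pow_eq_one (by rw [pow_two]; exact h2)
  have hcop : Nat.Coprime 2 (3 ^ k) := Nat.Coprime.pow_right k (by norm_num)
  exact orderOf_eq_one_iff.mp (Nat.eq_one_of_dvd_coprimes hcop h2' h1)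

/-- cancellation: `y` commutes with `d`, `(y e)³ = 1`, `d e` in a subgroup without involutions
normalised by `y d`: then `y = d`. -/
theorem c1 {N : Subgroup G} (hN : ∀ n ∈ N, n * n = 1 → n = 1) {y d e : G} (hy : y * y = 1)
    (hd : d * d = 1) (hyd : Commute y d) (hye : (y * e) ^ 3 = 1) (hde : d * e ∈ N)
    (hc : (y * d) * (d * e) * (y * d) ∈ N) : y = d := by
  have hv2 : (y * d) * (y * d) = 1 := by
    calc (y * d) * (y * d) = y * (d * y) * d := by group
      _ = y * (y * d) * d := by rw [hyd.eq]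
      _ = (y * y) * (d * d) := by group
      _ = 1 := by rw [hy, hd, one_mul]
  have hcube : (y * d) * (d * e) * ((y * d) * (d * e)) * ((y * d) * (d * e)) = 1 := by
    have : (y * d) * (d * e) = y * e := by
      calc (y * d) * (d * e) = y * (d * d) * e := by group
        _ = y * e := by rw [hd, mul_one]
    rw [this, ← pow_two, ← pow_succ]; exact hye
  have h1 : ((y * d) * (d * e) * (y * d)) * (d * e) * (y * d) * (d * e) = 1 := by
    rw [← hcube]; group
  have hv : y * d = (d * e)⁻¹ * ((y * d) * (d * e) * (y * d))⁻¹ * (d * e)⁻¹ := by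
    calc y * d = (d * e)⁻¹ * ((y * d) * (d * e) * (y * d))⁻¹ *
          (((y * d) * (d * e) * (y * d)) * (d * e) * (y * d) * (d * e)) * (d * e)⁻¹ := by group
      _ = _ := by rw [h1, mul_one]
  have hvN : y * d ∈ N := by
    rw [hv]
    exact N.mul_mem (N.mul_mem (N.inv_mem hde) (N.inv_mem hc)) (N.inv_mem hde)
  have h2 := hN _ hvN hv2
  calc y = (y * d) * d := by rw [mul_assoc, hd, mul_one]
    _ = d := by rw [h2, one_mul]

/-! ### Homomorphisms from symmetric groups -/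

theorem cube_swap {a b : G} (h : (a * b) ^ 3 = 1) : (b * a) ^ 3 = 1 := by
  have h' : (a * b) * (a * b) * (a * b) = 1 := by rw [← pow_two, ← pow_succ]; exact h
  rw [pow_succ, pow_two]
  calc (b * a) * (b * a) * (b * a) = a⁻¹ * ((a * b) * (a * b) * (a * b)) * a := by group
    _ = 1 := by rw [h']; group

theorem sq_of_commute {a c : G} (ha : a * a = 1) (hc : c * c = 1) (hac : Commute a c) :
    (a * c) ^ 2 = 1 := by
  rw [pow_two]
  calc (a * c) * (a * c) = a * (c * a) * c := by group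
    _ = a * (a * c) * c := by rw [hac.eq]
    _ = (a * a) * (c * c) := by group
    _ = 1 := by rw [ha, hc, one_mul]

theorem hom4 {a b c : G} (ha : a * a = 1) (hb : b * b = 1) (hc : c * c = 1)
    (hab : (a * b) ^ 3 = 1) (hbc : (b * c) ^ 3 = 1) (hac : Commute a c) :
    ∃ φ : Equiv.Perm (Fin 4) →* G, φ (Equiv.swap 0 1) = a ∧ φ (Equiv.swap 1 2) = b ∧
      φ (Equiv.swap 2 3) = c := by
  obtain ⟨cs, hcs⟩ := Cfsg.Agent.S2530.result 3
  have hl : CoxeterMatrix.IsLiftable (CoxeterMatrix.A 3) ![a, b, c] := by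
    intro i j
    fin_cases i <;> fin_cases j
    · show (a * a) ^ 1 = 1
      rw [pow_one, ha]
    · show (a * b) ^ 3 = 1
      exact hab
    · show (a * c) ^ 2 = 1
      exact sq_of_commute ha hc hac
    · show (b * a) ^ 3 = 1
      exact cube_swap hab
    · show (b * b) ^ 1 = 1
      rw [pow_one, hb]
    · show (b * c) ^ 3 = 1
      exact hbc
    · show (c * a) ^ 2 = 1
      exact sq_of_commute hc ha hac.symm
    · show (c * b) ^ 3 = 1
      exact cube_swap hbc
    · show (c * c) ^ 1 = 1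
      rw [pow_one, hc]
  refine ⟨cs.lift ⟨_, hl⟩, ?_, ?_, ?_⟩
  · have := cs.lift_apply_simple hl 0
    rw [hcs 0] at this
    exact this
  · have := cs.lift_apply_simple hl 1
    rw [hcs 1] at this
    exact this
  · have := cs.lift_apply_simple hl 2
    rw [hcs 2] at this
    exact this

theorem hom5 {a b c d : G} (ha : a * a = 1) (hb : b * b = 1) (hc : c * c = 1) (hd : d * d = 1)
    (hab : (a * b) ^ 3 = 1) (hbc : (b * c) ^ 3 = 1) (hcd : (c * d) ^ 3 = 1)
    (hac : Commute a c) (had : Commute a d) (hbd : Commute b d) :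
    ∃ φ : Equiv.Perm (Fin 5) →* G, φ (Equiv.swap 0 1) = a ∧ φ (Equiv.swap 1 2) = b ∧
      φ (Equiv.swap 2 3) = c ∧ φ (Equiv.swap 3 4) = d := by
  obtain ⟨cs, hcs⟩ := Cfsg.Agent.S2530.result 4
  have hl : CoxeterMatrix.IsLiftable (CoxeterMatrix.A 4) ![a, b, c, d] := by
    intro i j
    fin_cases i <;> fin_cases j
    · show (a * a) ^ 1 = 1
      rw [pow_one, ha]
    · show (a * b) ^ 3 = 1
      exact hab
    · show (a * c) ^ 2 = 1
      exact sq_of_commute ha hc hac
    · show (a * d) ^ 2 = 1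
      exact sq_of_commute ha hd had
    · show (b * a) ^ 3 = 1
      exact cube_swap hab
    · show (b * b) ^ 1 = 1
      rw [pow_one, hb]
    · show (b * c) ^ 3 = 1
      exact hbc
    · show (b * d) ^ 2 = 1
      exact sq_of_commute hb hd hbd
    · show (c * a) ^ 2 = 1
      exact sq_of_commute hc ha hac.symm
    · show (c * b) ^ 3 = 1
      exact cube_swap hbc
    · show (c * c) ^ 1 = 1
      rw [pow_one, hc]
    · show (c * d) ^ 3 = 1
      exact hcd
    · show (d * a) ^ 2 = 1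
      exact sq_of_commute hd ha had.symm
    · show (d * b) ^ 2 = 1
      exact sq_of_commute hd hb hbd.symm
    · show (d * c) ^ 3 = 1
      exact cube_swap hcd
    · show (d * d) ^ 1 = 1
      rw [pow_one, hd]
  refine ⟨cs.lift ⟨_, hl⟩, ?_, ?_, ?_, ?_⟩
  · have := cs.lift_apply_simple hl 0
    rw [hcs 0] at this
    exact this
  · have := cs.lift_apply_simple hl 1
    rw [hcs 1] at this
    exact this
  · have := cs.lift_apply_simple hl 2
    rw [hcs 2] at this
    exact this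
  · have := cs.lift_apply_simple hl 3
    rw [hcs 3] at this
    exact this

end basics

end Cfsg.Agent.H24.F5
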