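import Cfsg.Agent.H24.F5a

/-!
# Fischer's `S₅` lemma: the orbit lemma (helper24)

In the configuration `d, e ∈ D_x`, `d e ∈ Zs x`, `b ∈ D` commuting with `d` but not with `e`, the
members `u` of `D_x` with `d u ∈ Zs x` are `d`, `e`, `d e d`.
-/

set_option autoImplicit false
open Cfsg

namespace Cfsg.Agent.H24.F5

open Cfsg.Agent.H91

universe u

section orbit

variable {G : Type u} [Group G]

theorem cube_of_not_commute {D : Set G} (hset : IsThreeTranspositionSet D) {a b : G}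
    (ha : a ∈ D) (hb : b ∈ D) (h : ¬ Commute a b) : (a * b) ^ 3 = 1 := by
  rcases hset.2 a ha b hb with h2 | h3
  · exact absurd (commute_of_sq (sq_one (hset.1 a ha)) (sq_one (hset.1 b hb)) h2) h
  · exact h3

/-- two distinct members of `D` whose product lies in `Qs x` do not commute -/
theorem not_commute_of_Qs [Finite G] {D : Set G} (hset : IsThreeTranspositionSet D)
    {x d e : G} (hd : d ∈ D) (he : e ∈ D) (hde : d ≠ e) (hw : d * e ∈ Qs x) : ¬ Commute d e := by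
  intro hc
  have hd2 := sq_one (hset.1 d hd)
  have he2 := sq_one (hset.1 e he)
  have h2 : (d * e) * (d * e) = 1 := by rw [← pow_two]; exact sq_of_commute hd2 he2 hc
  have h1 := eq_one_of_sq (Qs_isPGroup x) hw h2
  apply hde
  calc d = d * (e * e) := by rw [he2, mul_one]
    _ = (d * e) * e := by group
    _ = e := by rw [h1, one_mul]

/-- (C1) a member of `D_x` commuting with one end of a `Qs x`-line and different from it commutes
with the other end -/
theorem c1' [Finite G] {D : Set G} (hset : IsThreeTranspositionSet D) {x d e y : G}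
    (hd : d ∈ Dd D x) (he : e ∈ Dd D x) (hy : y ∈ Dd D x) (hw : d * e ∈ Qs x)
    (hyd : Commute y d) (hne : y ≠ d) : Commute y e := by
  by_contra hye
  have hy2 := sq_one (hset.1 y hy.1)
  have hd2 := sq_one (hset.1 d hd.1)
  have h3 := cube_of_not_commute hset hy.1 he.1 hye
  apply hne
  refine c1 (N := Qs x) (fun n hn h2 => eq_one_of_sq (Qs_isPGroup x) hn h2) hy2 hd2 hyd h3 hw ?_
  have hc : Commute x (y * d) := hy.2.2.mul_right hd.2.2
  have h2 : (y * d) * (y * d) = 1 := by rw [← pow_two]; exact sq_of_commute hy2 hd2 hyd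
  exact Qs_normal' hc h2 hw

/-- (T) a member `u ≠ d` of `D_x` with `d u ∈ Zs x` does not commute with `b` -/
theorem not_commute_b [Finite G] {D : Set G} (hset : IsThreeTranspositionSet D)
    {x d e b u : G} (hd : d ∈ Dd D x) (he : e ∈ Dd D x) (hde : d ≠ e) (hw : d * e ∈ Zs x)
    (hb : b ∈ D) (hbd : Commute b d) (hbe : ¬ Commute b e)
    (hu : u ∈ Dd D x) (hρ : d * u ∈ Zs x) (hud : u ≠ d) : ¬ Commute b u := by
  intro hbu
  have hd2 := sq_one (hset.1 d hd.1)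
  have he2 := sq_one (hset.1 e he.1)
  have hb2 := sq_one (hset.1 b hb)
  have hde3 : (e * d) ^ 3 = 1 := cube_swap (cube_of_not_commute hset hd.1 he.1
    (not_commute_of_Qs hset hd.1 he.1 hde (Zs_le_Qs x hw)))
  have hbe3 : (b * e) ^ 3 = 1 := cube_of_not_commute hset hb he.1 hbe
  obtain ⟨φ, h1, h2, h3⟩ := hom4 hb2 he2 hd2 hbe3 hde3 hbd
  have hρb : Commute (d * u) b := hbd.symm.mul_left hbu.symm
  have hρw : Commute (d * u) (d * e) := Zs_comm hρ (Zs_le_Qs x hw)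
  have key : φ (Equiv.swap 2 3) = φ (((Equiv.swap 2 3 * Equiv.swap 1 2) * Equiv.swap 0 1 *
      (Equiv.swap 2 3 * Equiv.swap 1 2)⁻¹) * ((Equiv.swap 2 3 * Equiv.swap 1 2)⁻¹ *
      Equiv.swap 0 1 * (Equiv.swap 2 3 * Equiv.swap 1 2)) * ((Equiv.swap 2 3 * Equiv.swap 1 2) *
      Equiv.swap 0 1 * (Equiv.swap 2 3 * Equiv.swap 1 2)⁻¹)) := congrArg φ (by decide)
  simp only [map_mul, map_inv, h1, h2, h3] at key
  have hwi : Commute (d * u) (d * e)⁻¹ := hρw.inv_right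
  have hρd : Commute (d * u) (((d * e) * b * (d * e)⁻¹) * ((d * e)⁻¹ * b * (d * e)) *
      ((d * e) * b * (d * e)⁻¹)) :=
    (((hρw.mul_right hρb).mul_right hwi).mul_right ((hwi.mul_right hρb).mul_right hρw)).mul_right
      ((hρw.mul_right hρb).mul_right hwi)
  rw [← key] at hρd
  have hcud : Commute d u := by
    have h := hρd.eq
    show d * u = u * d
    calc d * u = d⁻¹ * (d * (d * u)) := by group
      _ = d⁻¹ * (d * u * d) := by rw [h]
      _ = u * d := by group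
  exact not_commute_of_Qs hset hd.1 hu.1 (Ne.symm hud) (Zs_le_Qs x hρ) hcud

/-- the Klein four-group relation in the image of `S₄` -/
theorem klein {b p d : G} (hb : b * b = 1) (hp : p * p = 1) (hd : d * d = 1)
    (hbp : (b * p) ^ 3 = 1) (hpd : (p * d) ^ 3 = 1) (hbd : Commute b d) :
    (b * d) * ((d * p) * (b * d) * (d * p)⁻¹) * ((d * p)⁻¹ * (b * d) * (d * p)) = 1 := by
  obtain ⟨φ, h1, h2, h3⟩ := hom4 hb hp hd hbp hpd hbd
  have key : φ ((Equiv.swap 0 1 * Equiv.swap 2 3) * ((Equiv.swap 2 3 * Equiv.swap 1 2) *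
      (Equiv.swap 0 1 * Equiv.swap 2 3) * (Equiv.swap 2 3 * Equiv.swap 1 2)⁻¹) *
      ((Equiv.swap 2 3 * Equiv.swap 1 2)⁻¹ * (Equiv.swap 0 1 * Equiv.swap 2 3) *
      (Equiv.swap 2 3 * Equiv.swap 1 2))) = φ 1 := congrArg φ (by decide)
  simp only [map_mul, map_inv, map_one, h1, h2, h3] at key
  exact key

theorem lemmaA_aux {v a₁ a₂ a₃ a₄ a₅ a₆ : G} (hv : v * v = 1) (e1 : v * a₁ * a₂ = 1)
    (e2 : v * a₃ * a₄ = 1) (e3 : v * a₅ * a₆ = 1) (e4 : a₁ * a₃ * a₆ = 1)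
    (e5 : a₂ * a₅ * a₄ = 1) : v = 1 := by
  have ha2 : a₂ = (v * a₁)⁻¹ := eq_inv_of_mul_eq_one_right e1
  have ha4 : a₄ = (v * a₃)⁻¹ := eq_inv_of_mul_eq_one_right e2
  have ha6 : a₆ = (v * a₅)⁻¹ := eq_inv_of_mul_eq_one_right e3
  rw [ha6] at e4
  rw [ha2, ha4] at e5
  have h45 : a₁ * a₃ = v * a₅ := by
    calc a₁ * a₃ = (a₁ * a₃ * (v * a₅)⁻¹) * (v * a₅) := by group
      _ = v * a₅ := by rw [e4, one_mul]
  have h5 : a₅ = (v * a₁) * (v * a₃) := by
    calc a₅ = (v * a₁) * ((v * a₁)⁻¹ * a₅ * (v * a₃)⁻¹) * (v * a₃) := by group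
      _ = (v * a₁) * (v * a₃) := by rw [e5, mul_one]
  rw [h5] at h45
  have h6 : a₁ * a₃ = a₁ * v * a₃ := by
    calc a₁ * a₃ = v * ((v * a₁) * (v * a₃)) := h45
      _ = (v * v) * a₁ * v * a₃ := by group
      _ = a₁ * v * a₃ := by rw [hv, one_mul]
  calc v = a₁⁻¹ * (a₁ * v * a₃) * a₃⁻¹ := by group
    _ = a₁⁻¹ * (a₁ * a₃) * a₃⁻¹ := by rw [← h6]
    _ = 1 := by group

/-- Lemma A: an involution `v` whose conjugates under the four subgroups of order 3 of an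
elementary abelian group `⟨w, ρ⟩` satisfy the Klein relation is trivial. -/
theorem lemmaA {v w ρ : G} (hv : v * v = 1) (hc : Commute w ρ)
    (h1 : v * (ρ * v * ρ⁻¹) * (ρ⁻¹ * v * ρ) = 1)
    (h2 : v * ((w * ρ) * v * (w * ρ)⁻¹) * ((w * ρ)⁻¹ * v * (w * ρ)) = 1)
    (h3 : v * ((w * ρ⁻¹) * v * (w * ρ⁻¹)⁻¹) * ((w * ρ⁻¹)⁻¹ * v * (w * ρ⁻¹)) = 1)
    (h4 : v * (w * v * w⁻¹) * (w⁻¹ * v * w) = 1) : v = 1 := by
  have e4 : (ρ * v * ρ⁻¹) * ((w * ρ) * v * (w * ρ)⁻¹) * ((w * ρ⁻¹)⁻¹ * v * (w * ρ⁻¹)) = 1 := by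
    calc (ρ * v * ρ⁻¹) * ((w * ρ) * v * (w * ρ)⁻¹) * ((w * ρ⁻¹)⁻¹ * v * (w * ρ⁻¹))
        = (ρ * v * ρ⁻¹) * ((ρ * w) * v * (ρ * w)⁻¹) * ((w * ρ⁻¹)⁻¹ * v * (w * ρ⁻¹)) := by
          rw [hc.eq]
      _ = ρ * (v * (w * v * w⁻¹) * (w⁻¹ * v * w)) * ρ⁻¹ := by group
      _ = 1 := by rw [h4]; group
  have e5 : (ρ⁻¹ * v * ρ) * ((w * ρ⁻¹) * v * (w * ρ⁻¹)⁻¹) * ((w * ρ)⁻¹ * v * (w * ρ)) = 1 := by
    calc (ρ⁻¹ * v * ρ) * ((w * ρ⁻¹) * v * (w * ρ⁻¹)⁻¹) * ((w * ρ)⁻¹ * v * (w * ρ))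
        = (ρ⁻¹ * v * ρ) * ((ρ⁻¹ * w) * v * (ρ⁻¹ * w)⁻¹) * ((w * ρ)⁻¹ * v * (w * ρ)) := by
          rw [hc.inv_right.eq]
      _ = ρ⁻¹ * (v * (w * v * w⁻¹) * (w⁻¹ * v * w)) * ρ := by group
      _ = 1 := by rw [h4]; group
  exact lemmaA_aux hv h1 h2 h3 e4 e5

/-- the Klein relation for the point `d τ` of the block of `d` -/
theorem pointR [Finite G] {D : Set G} (hset : IsThreeTranspositionSet D)
    (hconj : ∀ g : G, ∀ d ∈ D, g * d * g⁻¹ ∈ D)
    {x d b τ : G} (hd : d ∈ Dd D x) (hb : b ∈ D) (hbd : Commute b d)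
    (hT : ∀ u ∈ Dd D x, d * u ∈ Zs x → u ≠ d → ¬ Commute b u)
    (hτ : τ ∈ Zs x) (hτ1 : τ ≠ 1) (hinv : d * τ * d = τ⁻¹) (hτ3 : τ ^ 3 = 1) :
    (b * d) * (τ * (b * d) * τ⁻¹) * (τ⁻¹ * (b * d) * τ) = 1 := by
  have hd2 := sq_one (hset.1 d hd.1)
  have hb2 := sq_one (hset.1 b hb)
  have h0 : d * τ = τ⁻¹ * d := by
    rw [← hinv, mul_assoc (d * τ) d d, hd2, mul_one]
  have h1 : d * τ⁻¹ = τ * d := by
    calc d * τ⁻¹ = d * (d * τ * d) := by rw [hinv]
      _ = (d * d) * τ * d := by group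
      _ = τ * d := by rw [hd2, one_mul]
  have h2 : τ⁻¹ = τ * τ := by
    have h3 : τ * τ * τ = 1 := by rw [← pow_two, ← pow_succ]; exact hτ3
    exact inv_eq_of_mul_eq_one_left h3
  have hp : d * τ = τ * d * τ⁻¹ := by
    calc d * τ = τ⁻¹ * d := h0
      _ = τ * τ * d := by rw [h2]
      _ = τ * (τ * d) := by group
      _ = τ * (d * τ⁻¹) := by rw [h1]
      _ = τ * d * τ⁻¹ := by group
  have hxτ : τ * x * τ⁻¹ = x := by
    rw [← (Qs_commute (Zs_le_Qs x hτ)).eq, mul_assoc, mul_inv_cancel, mul_one]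
  have hpD : d * τ ∈ Dd D x := by
    have := Dd_conj_mem hconj τ hd
    rwa [hxτ, ← hp] at this
  have hdp : d * (d * τ) = τ := by rw [← mul_assoc, hd2, one_mul]
  have hpne : d * τ ≠ d := by
    intro h
    apply hτ1
    exact mul_left_cancel (a := d) (by rw [h, mul_one])
  have hdpZ : d * (d * τ) ∈ Zs x := by rw [hdp]; exact hτ
  have hbp := hT (d * τ) hpD hdpZ hpne
  have hp2 := sq_one (hset.1 (d * τ) hpD.1)
  have hbp3 : (b * (d * τ)) ^ 3 = 1 := cube_of_not_commute hset hb hpD.1 hbp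
  have hnc : ¬ Commute d (d * τ) :=
    not_commute_of_Qs hset hd.1 hpD.1 (Ne.symm hpne) (Zs_le_Qs x hdpZ)
  have hpd3 : ((d * τ) * d) ^ 3 = 1 :=
    cube_of_not_commute hset hpD.1 hd.1 (fun h => hnc h.symm)
  have hk := klein hb2 hp2 hd2 hbp3 hpd3 hbd
  rw [hdp] at hk
  exact hk

/-- **Orbit lemma.** -/
theorem orbit3 [Finite G] {D : Set G} (hset : IsThreeTranspositionSet D)
    (hconj : ∀ g : G, ∀ d ∈ D, g * d * g⁻¹ ∈ D) {x d e b : G}
    (hd : d ∈ Dd D x) (he : e ∈ Dd D x) (hde : d ≠ e) (hw : d * e ∈ Zs x) (hb : b ∈ D)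
    (hbne : b ≠ d) (hbd : Commute b d) (hbe : ¬ Commute b e) :
    ∀ u ∈ Dd D x, d * u ∈ Zs x → u = d ∨ u = e ∨ u = d * e * d := by
  intro u hu hρ
  by_contra hcon
  push Not at hcon
  obtain ⟨hud, hue, huf⟩ := hcon
  have hT : ∀ u ∈ Dd D x, d * u ∈ Zs x → u ≠ d → ¬ Commute b u := fun u hu hρ hud =>
    not_commute_b hset hd he hde hw hb hbd hbe hu hρ hud
  have hd2 := sq_one (hset.1 d hd.1)
  have he2 := sq_one (hset.1 e he.1)
  have hu2 := sq_one (hset.1 u hu.1)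
  have hb2 := sq_one (hset.1 b hb)
  have hw1 : d * e ≠ 1 := by
    intro h
    apply hde
    calc d = d * (e * e) := by rw [he2, mul_one]
      _ = (d * e) * e := by group
      _ = e := by rw [h, one_mul]
  have hρ1 : d * u ≠ 1 := by
    intro h
    apply hud
    calc u = (d * d) * u := by rw [hd2, one_mul]
      _ = d * (d * u) := by group
      _ = d := by rw [h, mul_one]
  have hwinv : d * (d * e) * d = (d * e)⁻¹ := by
    rw [mul_inv_rev, inv_self hd2, inv_self he2]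
    calc d * (d * e) * d = (d * d) * e * d := by group
      _ = e * d := by rw [hd2, one_mul]
  have hρinv : d * (d * u) * d = (d * u)⁻¹ := by
    rw [mul_inv_rev, inv_self hd2, inv_self hu2]
    calc d * (d * u) * d = (d * d) * u * d := by group
      _ = u * d := by rw [hd2, one_mul]
  have hw3 : (d * e) ^ 3 = 1 := cube_of_not_commute hset hd.1 he.1
    (not_commute_of_Qs hset hd.1 he.1 hde (Zs_le_Qs x hw))
  have hρ3 : (d * u) ^ 3 = 1 := cube_of_not_commute hset hd.1 hu.1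
    (not_commute_of_Qs hset hd.1 hu.1 (Ne.symm hud) (Zs_le_Qs x hρ))
  have hcomm : Commute (d * e) (d * u) := Zs_comm hw (Zs_le_Qs x hρ)
  have r4 := pointR hset hconj hd hb hbd hT hw hw1 hwinv hw3
  have r1 := pointR hset hconj hd hb hbd hT hρ hρ1 hρinv hρ3
  have r2 := pointR hset hconj hd hb hbd hT (τ := (d * e) * (d * u)) ((Zs x).mul_mem hw hρ)
    (by
      intro h
      apply huf
      have h' : d * u = (d * e)⁻¹ := eq_inv_of_mul_eq_one_right h
      rw [mul_inv_rev, inv_self hd2, inv_self he2] at h'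
      calc u = (d * d) * u := by rw [hd2, one_mul]
        _ = d * (d * u) := by group
        _ = d * (e * d) := by rw [h']
        _ = d * e * d := by group)
    (by
      calc d * ((d * e) * (d * u)) * d = d * (d * e) * 1 * (d * u) * d := by group
        _ = d * (d * e) * (d * d) * (d * u) * d := by rw [hd2]
        _ = (d * (d * e) * d) * (d * (d * u) * d) := by group
        _ = (d * e)⁻¹ * (d * u)⁻¹ := by rw [hwinv, hρinv]
        _ = ((d * u) * (d * e))⁻¹ := by group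
        _ = ((d * e) * (d * u))⁻¹ := by rw [hcomm.eq])
    (by rw [hcomm.mul_pow, hw3, hρ3, one_mul])
  have hρinv' : d * (d * u)⁻¹ * d = d * u := by
    rw [← hρinv]
    calc d * (d * (d * u) * d) * d = (d * d) * (d * u) * (d * d) := by group
      _ = d * u := by rw [hd2, one_mul, mul_one]
  have r3 := pointR hset hconj hd hb hbd hT (τ := (d * e) * (d * u)⁻¹)
    ((Zs x).mul_mem hw ((Zs x).inv_mem hρ))
    (by
      intro h
      apply hue
      have h' : d * e = d * u := mul_inv_eq_one.mp h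
      exact (mul_left_cancel h').symm)
    (by
      calc d * ((d * e) * (d * u)⁻¹) * d = d * (d * e) * 1 * (d * u)⁻¹ * d := by group
        _ = d * (d * e) * (d * d) * (d * u)⁻¹ * d := by rw [hd2]
        _ = (d * (d * e) * d) * (d * (d * u)⁻¹ * d) := by group
        _ = (d * e)⁻¹ * (d * u) := by rw [hwinv, hρinv']
        _ = (d * u) * (d * e)⁻¹ := hcomm.inv_left.eq
        _ = ((d * e) * (d * u)⁻¹)⁻¹ := by group)
    (by rw [hcomm.inv_right.mul_pow, hw3, inv_pow, hρ3, inv_one, one_mul])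
  have hv : (b * d) * (b * d) = 1 := by rw [← pow_two]; exact sq_of_commute hb2 hd2 hbd
  have h1 := lemmaA hv hcomm r1 r2 r3 r4
  apply hbne
  calc b = (b * d) * d := by rw [mul_assoc, hd2, mul_one]
    _ = d := by rw [h1, one_mul]

end orbit

end Cfsg.Agent.H24.F5
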