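import Cfsg.Agent.H24.F5b

/-!
# Fischer's `S₅` lemma: the configuration (helper24)

`Cfg D x d e b`: `d, e ∈ D_x` distinct with `d e ∈ Zs x`, and `b ∈ D`, `b ≠ d`, commuting with `d`
but not with `e`.  We show that then `G ≅ S₅`.
-/

set_option autoImplicit false
open Cfsg

namespace Cfsg.Agent.H24.F5

open Cfsg.Agent.H91

universe u

section cfg

variable {G : Type u} [Group G]

/-- transport along a path `x — b — e — d` -/
theorem transport [Finite G] {x b e d : G} (hx : x * x = 1) (hb : b * b = 1) (he : e * e = 1)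
    (hd : d * d = 1) (hxb : (x * b) ^ 3 = 1) (hbe : (b * e) ^ 3 = 1) (hed : (e * d) ^ 3 = 1)
    (hxe : Commute x e) (hxd : Commute x d) (hbd : Commute b d) (hw : d * e ∈ Zs x) :
    b * x ∈ Zs d := by
  obtain ⟨φ, h1, h2, h3, h4⟩ := hom5 hx hb he hd hxb hbe hed hxe hxd hbd
  have k1 : φ ((Equiv.swap 2 3 * Equiv.swap 3 4 * Equiv.swap 1 2 * Equiv.swap 2 3 *
      Equiv.swap 0 1 * Equiv.swap 1 2) * Equiv.swap 0 1 *
      (Equiv.swap 2 3 * Equiv.swap 3 4 * Equiv.swap 1 2 * Equiv.swap 2 3 *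
      Equiv.swap 0 1 * Equiv.swap 1 2)⁻¹) = φ (Equiv.swap 3 4) := congrArg φ (by decide)
  have k2 : φ ((Equiv.swap 2 3 * Equiv.swap 3 4 * Equiv.swap 1 2 * Equiv.swap 2 3 *
      Equiv.swap 0 1 * Equiv.swap 1 2) * (Equiv.swap 3 4 * Equiv.swap 2 3) *
      (Equiv.swap 2 3 * Equiv.swap 3 4 * Equiv.swap 1 2 * Equiv.swap 2 3 *
      Equiv.swap 0 1 * Equiv.swap 1 2)⁻¹) = φ (Equiv.swap 1 2 * Equiv.swap 0 1) :=
    congrArg φ (by decide)
  simp only [map_mul, map_inv, h1, h2, h3, h4] at k1 k2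
  have := Zs_conj (e * d * b * e * x * b) hw
  rw [k1, k2] at this
  exact this

/-- the configuration -/
structure Cfg (D : Set G) (x d e b : G) : Prop where
  hD : IsThreeTranspositionClass D
  hx : x ∈ D
  hd : d ∈ Dd D x
  he : e ∈ Dd D x
  hde : d ≠ e
  hw : d * e ∈ Zs x
  hb : b ∈ D
  hbne : b ≠ d
  hbd : Commute b d
  hbe : ¬ Commute b e

namespace Cfg

variable {D : Set G} {x d e b : G} (c : Cfg D x d e b)
include c

theorem x2 : x * x = 1 := sq_one (c.hD.1.1 x c.hx)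
theorem d2 : d * d = 1 := sq_one (c.hD.1.1 d c.hd.1)
theorem e2 : e * e = 1 := sq_one (c.hD.1.1 e c.he.1)
theorem b2 : b * b = 1 := sq_one (c.hD.1.1 b c.hb)

theorem nde [Finite G] : ¬ Commute d e :=
  not_commute_of_Qs c.hD.1 c.hd.1 c.he.1 c.hde (Zs_le_Qs x c.hw)

theorem de3 [Finite G] : (d * e) ^ 3 = 1 := cube_of_not_commute c.hD.1 c.hd.1 c.he.1 c.nde

theorem ed3 [Finite G] : (e * d) ^ 3 = 1 := cube_swap c.de3

theorem be3 : (b * e) ^ 3 = 1 := cube_of_not_commute c.hD.1 c.hb c.he.1 c.hbe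

theorem bx_ne : b ≠ x := fun h => c.hbe (by rw [h]; exact c.he.2.2)

theorem nxb [Finite G] : ¬ Commute x b := by
  intro h
  have hbD : b ∈ Dd D x := ⟨c.hb, c.bx_ne, h⟩
  exact c.hbe (c1' c.hD.1 c.hd c.he hbD (Zs_le_Qs x c.hw) c.hbd c.hbne)

theorem xb3 [Finite G] : (x * b) ^ 3 = 1 := cube_of_not_commute c.hD.1 c.hx c.hb c.nxb

theorem bxZ [Finite G] : b * x ∈ Zs d :=
  transport c.x2 c.b2 c.e2 c.d2 c.xb3 c.be3 c.ed3 c.he.2.2 c.hd.2.2 c.hbd c.hw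

/-- the dual configuration -/
theorem dual [Finite G] : Cfg D d x b e where
  hD := c.hD
  hx := c.hd.1
  hd := ⟨c.hx, fun h => c.hd.2.1 h.symm, c.hd.2.2.symm⟩
  he := ⟨c.hb, c.hbne, c.hbd.symm⟩
  hde := fun h => c.bx_ne h.symm
  hw := by
    have := (Zs d).inv_mem c.bxZ
    rwa [mul_inv_rev, inv_self c.x2, inv_self c.b2] at this
  hb := c.he.1
  hbne := c.he.2.1
  hbd := c.he.2.2.symm
  hbe := fun h => c.hbe h.symm

theorem orbit [Finite G] : ∀ u ∈ Dd D x, d * u ∈ Zs x → u = d ∨ u = e ∨ u = d * e * d :=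
  orbit3 c.hD.1 (class_conj c.hD) c.hd c.he c.hde c.hw c.hb c.hbne c.hbd c.hbe

/-- an element of `Zs x` commuting with `d` commutes with `b` -/
theorem pole [Finite G] {ζ : G} (hζ : ζ ∈ Zs x) (hζd : Commute ζ d) : Commute ζ b := by
  have hconj := class_conj c.hD
  have hxζ : Commute x ζ := Qs_commute (Zs_le_Qs x hζ)
  have hdζ : ζ * d * ζ⁻¹ = d := by rw [hζd.eq, mul_assoc, mul_inv_cancel, mul_one]
  have hxζ' : ζ * x * ζ⁻¹ = x := by rw [← hxζ.eq, mul_assoc, mul_inv_cancel, mul_one]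
  have hu : ζ * b * ζ⁻¹ ∈ Dd D d := by
    have := Dd_conj_mem hconj ζ c.dual.he
    rwa [hdζ] at this
  have hxu : x * (ζ * b * ζ⁻¹) ∈ Zs d := by
    have := Zs_normal hζd.symm c.dual.hw
    have e1 : ζ * (x * b) * ζ⁻¹ = x * (ζ * b * ζ⁻¹) := by
      calc ζ * (x * b) * ζ⁻¹ = (ζ * x * ζ⁻¹) * (ζ * b * ζ⁻¹) := by group
        _ = x * (ζ * b * ζ⁻¹) := by rw [hxζ']
    rwa [e1] at this
  rcases c.dual.orbit (ζ * b * ζ⁻¹) hu hxu with h | h | h
  · exfalso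
    apply c.bx_ne
    calc b = ζ⁻¹ * (ζ * b * ζ⁻¹) * ζ := by group
      _ = ζ⁻¹ * x * ζ := by rw [h]
      _ = ζ⁻¹ * (x * ζ) := by group
      _ = ζ⁻¹ * (ζ * x) := by rw [hxζ.eq]
      _ = x := by group
  · show ζ * b = b * ζ
    calc ζ * b = (ζ * b * ζ⁻¹) * ζ := by group
      _ = b * ζ := by rw [h]
  · have h2 : ζ * (x * b * x) * ζ⁻¹ = b := by
      calc ζ * (x * b * x) * ζ⁻¹ = (ζ * x * ζ⁻¹) * (ζ * b * ζ⁻¹) * (ζ * x * ζ⁻¹) := by group
        _ = x * (x * b * x) * x := by rw [hxζ', h]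
        _ = (x * x) * b * (x * x) := by group
        _ = b := by rw [c.x2, one_mul, mul_one]
    have h3 : Commute (ζ * ζ) b := by
      show ζ * ζ * b = b * (ζ * ζ)
      calc ζ * ζ * b = ζ * (ζ * b * ζ⁻¹) * ζ⁻¹ * (ζ * ζ) := by group
        _ = ζ * (x * b * x) * ζ⁻¹ * (ζ * ζ) := by rw [h]
        _ = b * (ζ * ζ) := by rw [h2]
    obtain ⟨k, hk⟩ := (Qs_isPGroup x) ⟨ζ, Zs_le_Qs x hζ⟩
    have hk' : ζ ^ 3 ^ k = 1 := by simpa using congrArg Subtype.val hk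
    obtain ⟨m, hm⟩ : ∃ m, 3 ^ k = 2 * m + 1 := by
      have h3k : Odd (3 ^ k) := Odd.pow (by decide)
      obtain ⟨m, hm⟩ := h3k
      exact ⟨m, hm⟩
    have h4 : ζ = (ζ * ζ) ^ (m + 1) := by
      rw [← pow_two, ← pow_mul]
      have e : 2 * (m + 1) = 3 ^ k + 1 := by omega
      rw [e, pow_succ, hk', one_mul]
    rw [h4]
    exact h3.pow_left (m + 1)

/-- Case II: `y ∈ D_x` commuting neither with `d` nor with `b` lies in the block of `d` -/
theorem caseII [Finite G] {y : G} (hy : y ∈ Dd D x) (hyd : ¬ Commute y d)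
    (hby : ¬ Commute b y) : d * y ∈ Zs x := by
  have hy2 := sq_one (c.hD.1.1 y hy.1)
  have h1 : (d * y) ^ 3 = 1 := cube_of_not_commute c.hD.1 c.hd.1 hy.1 (fun h => hyd h.symm)
  have h2 : (y * b) ^ 3 = 1 := cube_of_not_commute c.hD.1 hy.1 c.hb (fun h => hby h.symm)
  have h3 : (b * x) ^ 3 = 1 := cube_swap c.xb3
  have h5 := transport c.d2 hy2 c.b2 c.x2 h1 h2 h3 c.hbd.symm c.hd.2.2.symm hy.2.2.symm
    c.dual.hw
  have h4 := (Zs x).inv_mem h5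
  rwa [mul_inv_rev, inv_self c.d2, inv_self hy2] at h4

end Cfg

end cfg

end Cfsg.Agent.H24.F5
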