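import Cfsg.Agent.H24.F5c

/-!
# Fischer's `S₅` lemma: Case III and the members of `D_x` outside the block (helper24)
-/

set_option autoImplicit false
open Cfsg

namespace Cfsg.Agent.H24.F5

open Cfsg.Agent.H91

universe u

section cfg2

variable {G : Type u} [Group G]

namespace Cfg

variable {D : Set G} {x d e b : G} (c : Cfg D x d e b)
include c

/-- Case III: no `y ∈ D_x` commutes with `b` but not with `d` -/
theorem caseIII [Finite G] {y : G} (hy : y ∈ Dd D x) (hyd : ¬ Commute y d)
    (hby : Commute b y) : False := by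
  have hconj := class_conj c.hD
  have hset := c.hD.1
  have hy2 := sq_one (hset.1 y hy.1)
  obtain ⟨φ, h1, h2, h3, h4⟩ := hom5 c.x2 c.b2 c.e2 c.d2 c.xb3 c.be3 c.ed3 c.he.2.2 c.hd.2.2 c.hbd
  have k3 : ((d * e) * b * (d * e)⁻¹) * b * ((d * e) * b * (d * e)⁻¹) = d * e * d := by
    have k : φ (((Equiv.swap 3 4 * Equiv.swap 2 3) * Equiv.swap 1 2 *
        (Equiv.swap 3 4 * Equiv.swap 2 3)⁻¹) * Equiv.swap 1 2 *
        ((Equiv.swap 3 4 * Equiv.swap 2 3) * Equiv.swap 1 2 *
        (Equiv.swap 3 4 * Equiv.swap 2 3)⁻¹)) =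
        φ (Equiv.swap 3 4 * Equiv.swap 2 3 * Equiv.swap 3 4) := congrArg φ (by decide)
    simpa only [map_mul, map_inv, h1, h2, h3, h4] using k
  have k6 : (d * e) * d * (d * e)⁻¹ = e := by
    have k : φ ((Equiv.swap 3 4 * Equiv.swap 2 3) * Equiv.swap 3 4 *
        (Equiv.swap 3 4 * Equiv.swap 2 3)⁻¹) = φ (Equiv.swap 2 3) := congrArg φ (by decide)
    simpa only [map_mul, map_inv, h1, h2, h3, h4] using k
  have k6' : (d * e)⁻¹ * d * (d * e) = d * e * d := by
    have k : φ ((Equiv.swap 3 4 * Equiv.swap 2 3)⁻¹ * Equiv.swap 3 4 *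
        (Equiv.swap 3 4 * Equiv.swap 2 3)) =
        φ (Equiv.swap 3 4 * Equiv.swap 2 3 * Equiv.swap 3 4) := congrArg φ (by decide)
    simpa only [map_mul, map_inv, h1, h2, h3, h4] using k
  have k5 : e * (d * e * d) * e = d := by
    have k : φ (Equiv.swap 2 3 * (Equiv.swap 3 4 * Equiv.swap 2 3 * Equiv.swap 3 4) *
        Equiv.swap 2 3) = φ (Equiv.swap 3 4) := congrArg φ (by decide)
    simpa only [map_mul, map_inv, h1, h2, h3, h4] using k
  have hf : d * e * d ∈ Dd D x := by
    have := Dd_conj_mem hconj d c.he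
    have e1 : d * x * d⁻¹ = x := by rw [← c.hd.2.2.eq, mul_assoc, mul_inv_cancel, mul_one]
    rwa [e1, inv_self c.d2] at this
  have hye_ne : y ≠ e := fun h => c.hbe (h ▸ hby)
  have hbf : ¬ Commute b (d * e * d) := by
    intro h
    apply c.hbe
    have h5 : Commute b (d * (d * e * d) * d) := (c.hbd.mul_right h).mul_right c.hbd
    have e2 : d * (d * e * d) * d = e := by
      calc d * (d * e * d) * d = (d * d) * e * (d * d) := by group
        _ = e := by rw [c.d2, one_mul, mul_one]
    rwa [e2] at h5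
  have hyf_ne : y ≠ d * e * d := fun h => hbf (h ▸ hby)
  have hwQ := Zs_le_Qs x c.hw
  have hye : ¬ Commute y e := by
    intro h
    have hed : e * d ∈ Qs x := by
      have h5 := (Qs x).inv_mem hwQ
      rwa [mul_inv_rev, inv_self c.d2, inv_self c.e2] at h5
    exact hyd (c1' hset c.he c.hd hy hed h hye_ne)
  have hyf : ¬ Commute y (d * e * d) := by
    intro h
    have hfd : (d * e * d) * d ∈ Qs x := by
      have e3 : (d * e * d) * d = d * e := by rw [mul_assoc, c.d2, mul_one]
      rw [e3]; exact hwQ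
    exact hyd (c1' hset hf c.hd hy hfd h hyf_ne)
  have hρb : Commute (d * y) b := c.hbd.symm.mul_left hby.symm
  have hyby : y * b * y = b := by
    calc y * b * y = (y * b) * y := by group
      _ = (b * y) * y := by rw [hby.eq]
      _ = b * (y * y) := by group
      _ = b := by rw [hy2, mul_one]
  obtain ⟨w', hw'def⟩ : ∃ w', w' = y * (d * e) * y := ⟨_, rfl⟩
  have hw' : w' ∈ Zs x := by rw [hw'def]; exact Zs_normal' hy.2.2 hy2 c.hw
  have hxw' : Commute x w' := Qs_commute (Zs_le_Qs x hw')
  have hu : w' * d * w'⁻¹ ∈ Dd D x := by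
    have h5 := Dd_conj_mem hconj w' c.hd
    have e1 : w' * x * w'⁻¹ = x := by rw [← hxw'.eq, mul_assoc, mul_inv_cancel, mul_one]
    rwa [e1] at h5
  have hdu : d * (w' * d * w'⁻¹) ∈ Zs x := by
    have e1 : d * (w' * d * w'⁻¹) = (d * w' * d) * w'⁻¹ := by group
    rw [e1]
    exact (Zs x).mul_mem (Zs_normal' c.hd.2.2 c.d2 hw') ((Zs x).inv_mem hw')
  rcases c.orbit _ hu hdu with h | h | h
  · -- `w'` commutes with `d`
    have hcd : Commute w' d := by
      show w' * d = d * w'
      calc w' * d = (w' * d * w'⁻¹) * w' := by group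
        _ = d * w' := by rw [h]
    have hcb := c.pole hw' hcd
    have hwb : Commute (d * e) b := by
      have e1 : d * e = y * w' * y := by
        rw [hw'def]
        calc d * e = (y * y) * (d * e) * (y * y) := by rw [hy2, one_mul, mul_one]
          _ = y * (y * (d * e) * y) * y := by group
      rw [e1]
      exact (hby.symm.mul_left hcb).mul_left hby.symm
    apply c.hbe
    have h5 : Commute b (d * (d * e)) := c.hbd.mul_right hwb.symm
    have e2 : d * (d * e) = e := by rw [← mul_assoc, c.d2, one_mul]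
    rwa [e2] at h5
  · -- `w' = w ζ₀`
    have hζ₀ : (d * e)⁻¹ * w' ∈ Zs x := (Zs x).mul_mem ((Zs x).inv_mem c.hw) hw'
    have hcd : Commute ((d * e)⁻¹ * w') d := by
      show (d * e)⁻¹ * w' * d = d * ((d * e)⁻¹ * w')
      calc (d * e)⁻¹ * w' * d = (d * e)⁻¹ * (w' * d * w'⁻¹) * w' := by group
        _ = (d * e)⁻¹ * ((d * e) * d * (d * e)⁻¹) * w' := by rw [h, k6]
        _ = d * ((d * e)⁻¹ * w') := by group
    have hcb := c.pole hζ₀ hcd
    have e1 : w' * b * w'⁻¹ = (d * e) * b * (d * e)⁻¹ := by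
      calc w' * b * w'⁻¹
          = (d * e) * (((d * e)⁻¹ * w') * b) * ((d * e)⁻¹ * w')⁻¹ * (d * e)⁻¹ := by group
        _ = (d * e) * (b * ((d * e)⁻¹ * w')) * ((d * e)⁻¹ * w')⁻¹ * (d * e)⁻¹ := by rw [hcb.eq]
        _ = (d * e) * b * (d * e)⁻¹ := by group
    have e2 : y * ((d * e) * b * (d * e)⁻¹) = (w' * b * w'⁻¹) * y := by
      have hw'inv : w'⁻¹ = y * (d * e)⁻¹ * y := by
        rw [hw'def, mul_inv_rev, mul_inv_rev, inv_self hy2]; group
      rw [hw'inv, hw'def]
      calc y * ((d * e) * b * (d * e)⁻¹) = y * (d * e) * b * (d * e)⁻¹ * 1 := by group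
        _ = y * (d * e) * (y * b * y) * (d * e)⁻¹ * (y * y) := by rw [hyby, hy2]
        _ = (y * (d * e) * y) * b * (y * (d * e)⁻¹ * y) * y := by group
    have hyb1 : Commute y ((d * e) * b * (d * e)⁻¹) := by
      show y * ((d * e) * b * (d * e)⁻¹) = ((d * e) * b * (d * e)⁻¹) * y
      rw [e2, e1]
    apply hyf
    have h5 := (hyb1.mul_right hby.symm).mul_right hyb1
    rwa [k3] at h5
  · -- `w' = w⁻¹ ζ₀`
    have hζ₀ : (d * e) * w' ∈ Zs x := (Zs x).mul_mem c.hw hw'
    have hcd : Commute ((d * e) * w') d := by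
      show (d * e) * w' * d = d * ((d * e) * w')
      calc (d * e) * w' * d = (d * e) * (w' * d * w'⁻¹) * w' := by group
        _ = (d * e) * ((d * e)⁻¹ * d * (d * e)) * w' := by rw [h, k6']
        _ = d * ((d * e) * w') := by group
    have hcb := c.pole hζ₀ hcd
    have hρinv : (d * y)⁻¹ = y * d := by rw [mul_inv_rev, inv_self hy2, inv_self c.d2]
    have hdwd : d * (d * e)⁻¹ * d = d * e := by
      rw [mul_inv_rev, inv_self c.d2, inv_self c.e2]
      calc d * (e * d) * d = d * e * (d * d) := by group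
        _ = d * e := by rw [c.d2, mul_one]
    have hdζd : d * ((d * e) * w') * d = (d * e) * w' := by
      calc d * ((d * e) * w') * d = (d * ((d * e) * w')) * d := by group
        _ = (((d * e) * w') * d) * d := by rw [hcd.eq]
        _ = ((d * e) * w') * (d * d) := by group
        _ = (d * e) * w' := by rw [c.d2, mul_one]
    have e1 : (d * y) * (d * e) * (d * y)⁻¹ = (d * e) * ((d * e) * w') := by
      rw [hρinv]
      calc d * y * (d * e) * (y * d) = d * (y * (d * e) * y) * d := by group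
        _ = d * w' * d := by rw [hw'def]
        _ = d * (d * e)⁻¹ * 1 * ((d * e) * w') * d := by group
        _ = d * (d * e)⁻¹ * (d * d) * ((d * e) * w') * d := by rw [c.d2]
        _ = (d * (d * e)⁻¹ * d) * (d * ((d * e) * w') * d) := by group
        _ = (d * e) * ((d * e) * w') := by rw [hdwd, hdζd]
    have e2 : (d * y) * b * (d * y)⁻¹ = b := by
      calc (d * y) * b * (d * y)⁻¹ = ((d * y) * b) * (d * y)⁻¹ := by group
        _ = (b * (d * y)) * (d * y)⁻¹ := by rw [hρb.eq]
        _ = b := by group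
    have hρb1 : Commute (d * y) ((d * e) * b * (d * e)⁻¹) := by
      show (d * y) * ((d * e) * b * (d * e)⁻¹) = ((d * e) * b * (d * e)⁻¹) * (d * y)
      calc (d * y) * ((d * e) * b * (d * e)⁻¹)
          = ((d * y) * (d * e) * (d * y)⁻¹) * ((d * y) * b * (d * y)⁻¹) *
            ((d * y) * (d * e) * (d * y)⁻¹)⁻¹ * (d * y) := by group
        _ = ((d * e) * ((d * e) * w')) * b * ((d * e) * ((d * e) * w'))⁻¹ * (d * y) := by
            rw [e1, e2]
        _ = (d * e) * ((((d * e) * w') * b) * ((d * e) * w')⁻¹) * (d * e)⁻¹ * (d * y) := by group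
        _ = (d * e) * ((b * ((d * e) * w')) * ((d * e) * w')⁻¹) * (d * e)⁻¹ * (d * y) := by
            rw [hcb.eq]
        _ = ((d * e) * b * (d * e)⁻¹) * (d * y) := by group
    have hρf : Commute (d * y) (d * e * d) := by
      have h5 := (hρb1.mul_right hρb).mul_right hρb1
      rwa [k3] at h5
    have hdρd : d * (d * y) * d = (d * y)⁻¹ := by
      rw [hρinv]
      calc d * (d * y) * d = (d * d) * y * d := by group
        _ = y * d := by rw [c.d2, one_mul]
    have hρe : Commute (d * y) e := by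
      have h5 : Commute (d * (d * y) * d) (d * e * d) := by rw [hdρd]; exact hρf.inv_left
      have h5' := h5.eq
      show (d * y) * e = e * (d * y)
      calc (d * y) * e = (d * d) * (d * y) * (d * d) * e * (d * d) := by
            rw [c.d2, one_mul, mul_one, mul_one]
        _ = d * ((d * (d * y) * d) * (d * e * d)) * d := by group
        _ = d * ((d * e * d) * (d * (d * y) * d)) * d := by rw [h5']
        _ = (d * d) * e * (d * d) * (d * y) * (d * d) := by group
        _ = e * (d * y) := by rw [c.d2, one_mul, mul_one, mul_one]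
    have hρd : Commute (d * y) d := by
      have h5 := (hρe.mul_right hρf).mul_right hρe
      rwa [k5] at h5
    apply hyd
    have h5 := hρd.eq
    show y * d = d * y
    calc y * d = d⁻¹ * (d * y * d) := by group
      _ = d⁻¹ * (d * (d * y)) := by rw [h5]
      _ = d * y := by group

/-- a member of `D_x` outside the block `{d, e, d e d}` commutes with `d` -/
theorem commute_d [Finite G] {y : G} (hy : y ∈ Dd D x) (h1 : y ≠ d) (h2 : y ≠ e)
    (h3 : y ≠ d * e * d) : Commute y d := by
  by_contra hyd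
  by_cases hby : Commute b y
  · exact c.caseIII hy hyd hby
  · rcases c.orbit y hy (c.caseII hy hyd hby) with h | h | h
    · exact h1 h
    · exact h2 h
    · exact h3 h

/-- a member of `D_x` outside the block commutes with `d`, `e`, `b` -/
theorem commute_all [Finite G] {y : G} (hy : y ∈ Dd D x) (h1 : y ≠ d) (h2 : y ≠ e)
    (h3 : y ≠ d * e * d) : Commute y d ∧ Commute y e ∧ Commute y b := by
  have hyd := c.commute_d hy h1 h2 h3
  have hye : Commute y e := c1' c.hD.1 c.hd c.he hy (Zs_le_Qs x c.hw) hyd h1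
  have hyDd : y ∈ Dd D d := ⟨hy.1, h1, hyd.symm⟩
  have hyb : Commute y b := c1' c.hD.1 c.dual.hd c.dual.he hyDd (Zs_le_Qs d c.dual.hw)
    hy.2.2.symm hy.2.1
  exact ⟨hyd, hye, hyb⟩

end Cfg

end cfg2

end Cfsg.Agent.H24.F5
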