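import Cfsg.Agent.H24.F5d

/-!
# Fischer's `S₅` lemma: `D_x` is the block, and the isomorphism (helper24)
-/

set_option autoImplicit false
open Cfsg

namespace Cfsg.Agent.H24.F5

open Cfsg.Agent.H91

universe u

section cfg3

variable {G : Type u} [Group G]

/-- the intersection of the conjugates of `H` under `J` -/
def coreUnder (J H : Subgroup G) : Subgroup G where
  carrier := {r | ∀ g ∈ J, g * r * g⁻¹ ∈ H}
  mul_mem' := by
    intro a b ha hb g hg
    have e : g * (a * b) * g⁻¹ = (g * a * g⁻¹) * (g * b * g⁻¹) := by group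
    rw [e]; exact H.mul_mem (ha g hg) (hb g hg)
  one_mem' := by
    intro g hg
    have e : g * 1 * g⁻¹ = 1 := by group
    rw [e]; exact H.one_mem
  inv_mem' := by
    intro a ha g hg
    have e : g * a⁻¹ * g⁻¹ = (g * a * g⁻¹)⁻¹ := by group
    rw [e]; exact H.inv_mem (ha g hg)

theorem mem_coreUnder {J H : Subgroup G} {r : G} :
    r ∈ coreUnder J H ↔ ∀ g ∈ J, g * r * g⁻¹ ∈ H := Iff.rfl

theorem coreUnder_le (J H : Subgroup G) : coreUnder J H ≤ H := by
  intro r hr
  have := hr 1 J.one_mem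
  simpa using this

theorem coreUnder_conj_of_mem {J H : Subgroup G} {t r : G} (ht : t ∈ J)
    (hr : r ∈ coreUnder J H) : t * r * t⁻¹ ∈ coreUnder J H := by
  intro g hg
  have e : g * (t * r * t⁻¹) * g⁻¹ = (g * t) * r * (g * t)⁻¹ := by group
  rw [e]
  exact hr (g * t) (J.mul_mem hg ht)

theorem coreUnder_conj_of_commute {J H : Subgroup G} {y r : G} (hy : ∀ g ∈ J, Commute y g)
    (hH : ∀ h ∈ H, y * h * y⁻¹ ∈ H) (hr : r ∈ coreUnder J H) :
    y * r * y⁻¹ ∈ coreUnder J H := by
  intro g hg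
  have e : g * (y * r * y⁻¹) * g⁻¹ = y * (g * r * g⁻¹) * y⁻¹ := by
    have h1 := (hy g hg).eq
    have h2 : g * y = y * g := h1.symm
    have h3 : y⁻¹ * g⁻¹ = g⁻¹ * y⁻¹ := by
      rw [← mul_inv_rev, ← mul_inv_rev, h1]
    calc g * (y * r * y⁻¹) * g⁻¹ = (g * y) * r * (y⁻¹ * g⁻¹) := by group
      _ = (y * g) * r * (g⁻¹ * y⁻¹) := by rw [h2, h3]
      _ = y * (g * r * g⁻¹) * y⁻¹ := by group
  rw [e]
  exact hH _ (hr g hg)

theorem mem_normalizer_of_invol {R : Subgroup G} {t : G} (ht : t * t = 1)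
    (h : ∀ r ∈ R, t * r * t⁻¹ ∈ R) : t ∈ Subgroup.normalizer (R : Set G) := by
  rw [Subgroup.mem_normalizer_iff]
  intro r
  refine ⟨h r, fun hr => ?_⟩
  have h1 := h _ hr
  have e : t * (t * r * t⁻¹) * t⁻¹ = r := by
    rw [inv_self ht]
    calc t * (t * r * t) * t = (t * t) * r * (t * t) := by group
      _ = r := by rw [ht, one_mul, mul_one]
  rwa [e] at h1

namespace Cfg

variable {D : Set G} {x d e b : G} (c : Cfg D x d e b)
include c

/-- `D_x` is the block `{d, e, d e d}` -/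
theorem Dx_subset [Finite G]
    (htriv : ∀ R : G → G → Prop, (∀ x y, R x y → R y x) → (∀ x y z, R x y → R y z → R x z) →
      (∀ g x y, R x y → R (g * x * g⁻¹) (g * y * g⁻¹)) → (∀ x ∈ D, R x x) →
      (∀ x ∈ D, ∀ y ∈ D, R x y → x = y) ∨ (∀ x ∈ D, ∀ y ∈ D, R x y))
    (hconn : (commutingGraph D).Connected) (hO3 : pCore 3 G = ⊥) :
    ∀ y ∈ Dd D x, y = d ∨ y = e ∨ y = d * e * d := by
  intro y hy
  by_contra hcon
  push Not at hcon
  obtain ⟨h1, h2, h3⟩ := hcon
  have hconj := class_conj c.hD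
  have hset := c.hD.1
  have hy2 := sq_one (hset.1 y hy.1)
  obtain ⟨g, hg, hgy⟩ := Dd_single_class c.hD htriv c.hx d c.hd y hy
  have hgx : Commute g x := closure_Dd_commute hg
  have hσ0 : g * (d * e) * g⁻¹ ∈ Zs x := Zs_normal hgx.symm c.hw
  have hσy0 : ¬ Commute y (g * (d * e) * g⁻¹) := by
    intro h
    rw [hgy] at h
    have h' : Commute d (d * e) := commute_of_conj' g h
    apply c.nde
    have h'' := h'.eq
    show d * e = e * d
    calc d * e = d * (d * (d * e)) := by rw [← mul_assoc d d, c.d2, one_mul]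
      _ = d * ((d * e) * d) := by rw [h'']
      _ = (d * d) * e * d := by group
      _ = e * d := by rw [c.d2, one_mul]
  obtain ⟨σ, hσdef⟩ : ∃ σ, σ = g * (d * e) * g⁻¹ := ⟨_, rfl⟩
  rw [← hσdef] at hσ0 hσy0
  have hxσ : Commute x σ := Qs_commute (Zs_le_Qs x hσ0)
  have hy1 : σ * y * σ⁻¹ ∈ Dd D x := by
    have h5 := Dd_conj_mem hconj σ hy
    have e1 : σ * x * σ⁻¹ = x := by rw [← hxσ.eq, mul_assoc, mul_inv_cancel, mul_one]
    rwa [e1] at h5
  have hu : y * (σ * y * σ⁻¹) ∈ Zs x := by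
    have e1 : y * (σ * y * σ⁻¹) = (y * σ * y) * σ⁻¹ := by group
    rw [e1]
    exact (Zs x).mul_mem (Zs_normal' hy.2.2 hy2 hσ0) ((Zs x).inv_mem hσ0)
  have hu1 : y * (σ * y * σ⁻¹) ≠ 1 := by
    intro h
    apply hσy0
    have h' : σ * y * σ⁻¹ = y := by
      calc σ * y * σ⁻¹ = (y * y) * (σ * y * σ⁻¹) := by rw [hy2, one_mul]
        _ = y * (y * (σ * y * σ⁻¹)) := by group
        _ = y := by rw [h, mul_one]
    show y * σ = σ * y
    calc y * σ = (σ * y * σ⁻¹) * σ := by rw [h']
      _ = σ * y := by group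
  have hy1ne : σ * y * σ⁻¹ ≠ d ∧ σ * y * σ⁻¹ ≠ e ∧ σ * y * σ⁻¹ ≠ d * e * d := by
    have key : d * (σ * y * σ⁻¹) ∈ Zs x → False := by
      intro hmem
      have e1 : d * y = (d * (σ * y * σ⁻¹)) * (y * (σ * y * σ⁻¹))⁻¹ := by
        rw [mul_inv_rev, inv_self hy2]; group
      have h5 : d * y ∈ Zs x := by
        rw [e1]; exact (Zs x).mul_mem hmem ((Zs x).inv_mem hu)
      rcases c.orbit y hy h5 with h | h | h
      · exact h1 h
      · exact h2 h
      · exact h3 h
    refine ⟨fun h => key ?_, fun h => key ?_, fun h => key ?_⟩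
    · rw [h, c.d2]; exact (Zs x).one_mem
    · rw [h]; exact c.hw
    · rw [h]
      have e2 : d * (d * e * d) = e * d := by
        calc d * (d * e * d) = (d * d) * e * d := by group
          _ = e * d := by rw [c.d2, one_mul]
      rw [e2]
      have h5 := (Zs x).inv_mem c.hw
      rwa [mul_inv_rev, inv_self c.d2, inv_self c.e2] at h5
  obtain ⟨hyd, hye, hyb⟩ := c.commute_all hy h1 h2 h3
  obtain ⟨hy1d, hy1e, hy1b⟩ := c.commute_all hy1 hy1ne.1 hy1ne.2.1 hy1ne.2.2
  obtain ⟨u, hudef⟩ : ∃ u, u = y * (σ * y * σ⁻¹) := ⟨_, rfl⟩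
  rw [← hudef] at hu hu1
  have hux : Commute u x := by rw [hudef]; exact hy.2.2.symm.mul_left hy1.2.2.symm
  have hub : Commute u b := by rw [hudef]; exact hyb.mul_left hy1b
  have hue : Commute u e := by rw [hudef]; exact hye.mul_left hy1e
  have hud : Commute u d := by rw [hudef]; exact hyd.mul_left hy1d
  obtain ⟨J, hJ⟩ : ∃ J : Subgroup G, J = Subgroup.closure ({x, b, e, d} : Set G) := ⟨_, rfl⟩
  have hxJ : x ∈ J := by rw [hJ]; exact Subgroup.subset_closure (by simp)
  have hbJ : b ∈ J := by rw [hJ]; exact Subgroup.subset_closure (by simp)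
  have heJ : e ∈ J := by rw [hJ]; exact Subgroup.subset_closure (by simp)
  have hdJ : d ∈ J := by rw [hJ]; exact Subgroup.subset_closure (by simp)
  have hcentJ : ∀ v : G, Commute v x → Commute v b → Commute v e → Commute v d →
      ∀ g ∈ J, Commute v g := by
    intro v hvx hvb hve hvd g hg
    have hle : J ≤ Subgroup.centralizer ({v} : Set G) := by
      rw [hJ, Subgroup.closure_le]
      intro t ht
      rw [SetLike.mem_coe, mem_cent_singleton]
      rcases ht with rfl | rfl | rfl | rfl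
      · exact hvx
      · exact hvb
      · exact hve
      · exact hvd
    exact mem_cent_singleton.mp (hle hg)
  have huJ := hcentJ u hux hub hue hud
  obtain ⟨R, hR⟩ : ∃ R : Subgroup G, R = coreUnder J (Zs x) := ⟨_, rfl⟩
  have huR : u ∈ R := by
    rw [hR]
    intro g hg
    have e1 : g * u * g⁻¹ = u := by rw [← (huJ g hg).eq, mul_assoc, mul_inv_cancel, mul_one]
    rw [e1]; exact hu
  have hR3 : IsPGroup 3 R :=
    (Qs_isPGroup x).to_le (by rw [hR]; exact (coreUnder_le J (Zs x)).trans (Zs_le_Qs x))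
  have hJnorm : ∀ t ∈ J, t * t = 1 → t ∈ Subgroup.normalizer (R : Set G) := by
    intro t ht ht2
    apply mem_normalizer_of_invol ht2
    intro r hr
    rw [hR] at hr ⊢
    exact coreUnder_conj_of_mem ht hr
  have hsub : D ⊆ Subgroup.normalizer (R : Set G) := by
    apply subset_of_commuting_of_mem c.hD htriv hconn c.hx c.hb c.nxb
    · intro v hv hc
      by_cases hvx : v = x
      · rw [hvx]; exact hJnorm x hxJ c.x2
      · have hvD : v ∈ Dd D x := ⟨hv, hvx, hc⟩
        have hv2 := sq_one (hset.1 v hv)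
        by_cases hv1 : v = d
        · rw [hv1]; exact hJnorm d hdJ c.d2
        by_cases hv2' : v = e
        · rw [hv2']; exact hJnorm e heJ c.e2
        by_cases hv3 : v = d * e * d
        · rw [hv3]
          exact hJnorm _ (J.mul_mem (J.mul_mem hdJ heJ) hdJ) (by rw [← hv3]; exact hv2)
        obtain ⟨hvd, hve, hvb⟩ := c.commute_all hvD hv1 hv2' hv3
        have hvJ := hcentJ v hc.symm hvb hve hvd
        apply mem_normalizer_of_invol hv2
        intro r hr
        rw [hR] at hr ⊢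
        exact coreUnder_conj_of_commute hvJ (fun h hh => Zs_normal hc hh) hr
    · exact hJnorm b hbJ c.b2
  have hnormal : R.Normal := by
    rw [← Subgroup.normalizer_eq_top_iff, eq_top_iff, ← c.hD.2.2, Subgroup.closure_le]
    exact hsub
  have hle : R ≤ pCore 3 G := le_sSup ⟨hnormal, hR3⟩
  rw [hO3] at hle
  exact hu1 ((Subgroup.mem_bot).mp (hle huR))

/-- `x, b, e, d` generate `G` -/
theorem top [Finite G]
    (htriv : ∀ R : G → G → Prop, (∀ x y, R x y → R y x) → (∀ x y z, R x y → R y z → R x z) →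
      (∀ g x y, R x y → R (g * x * g⁻¹) (g * y * g⁻¹)) → (∀ x ∈ D, R x x) →
      (∀ x ∈ D, ∀ y ∈ D, R x y → x = y) ∨ (∀ x ∈ D, ∀ y ∈ D, R x y))
    (hconn : (commutingGraph D).Connected) (hO3 : pCore 3 G = ⊥) :
    Subgroup.closure ({x, b, e, d} : Set G) = ⊤ := by
  have hsub : D ⊆ Subgroup.closure ({x, b, e, d} : Set G) := by
    apply subset_of_commuting_of_mem c.hD htriv hconn c.hx c.hb c.nxb
    · intro y hy hc
      by_cases hyx : y = x
      · rw [hyx]; exact Subgroup.subset_closure (by simp)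
      · rcases c.Dx_subset htriv hconn hO3 y ⟨hy, hyx, hc⟩ with h | h | h
        · rw [h]; exact Subgroup.subset_closure (by simp)
        · rw [h]; exact Subgroup.subset_closure (by simp)
        · rw [h]
          exact Subgroup.mul_mem _ (Subgroup.mul_mem _ (Subgroup.subset_closure (by simp))
            (Subgroup.subset_closure (by simp))) (Subgroup.subset_closure (by simp))
    · exact Subgroup.subset_closure (by simp)
  rw [eq_top_iff, ← c.hD.2.2, Subgroup.closure_le]
  exact hsub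

/-- the configuration forces `G ≅ S₅` -/
theorem iso [Finite G]
    (htriv : ∀ R : G → G → Prop, (∀ x y, R x y → R y x) → (∀ x y z, R x y → R y z → R x z) →
      (∀ g x y, R x y → R (g * x * g⁻¹) (g * y * g⁻¹)) → (∀ x ∈ D, R x x) →
      (∀ x ∈ D, ∀ y ∈ D, R x y → x = y) ∨ (∀ x ∈ D, ∀ y ∈ D, R x y))
    (hconn : (commutingGraph D).Connected) (hO3 : pCore 3 G = ⊥) :
    Nonempty (G ≃* Equiv.Perm (Fin 5)) := by
  obtain ⟨φ, h1, h2, h3, h4⟩ := hom5 c.x2 c.b2 c.e2 c.d2 c.xb3 c.be3 c.ed3 c.he.2.2 c.hd.2.2 c.hbd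
  have hsurj : Function.Surjective φ := by
    rw [← MonoidHom.range_eq_top, eq_top_iff, ← c.top htriv hconn hO3, Subgroup.closure_le]
    intro t ht
    rcases ht with rfl | rfl | rfl | rfl
    · exact ⟨_, h1⟩
    · exact ⟨_, h2⟩
    · exact ⟨_, h3⟩
    · exact ⟨_, h4⟩
  have hinj : Function.Injective φ := by
    rw [← MonoidHom.ker_eq_bot_iff]
    by_contra hne
    have hnt : Nontrivial φ.ker := (Subgroup.nontrivial_iff_ne_bot _).mpr hne
    have hle := Equiv.Perm.alternatingGroup_le_of_normal (α := Fin 5) (by simp) hnt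
    have hmem : (Equiv.swap 3 4 * Equiv.swap 2 3 * (Equiv.swap 3 4)⁻¹ * (Equiv.swap 2 3)⁻¹ :
        Equiv.Perm (Fin 5)) ∈ alternatingGroup (Fin 5) := by
      rw [Equiv.Perm.mem_alternatingGroup]; decide
    have hk := hle hmem
    rw [MonoidHom.mem_ker] at hk
    simp only [map_mul, map_inv, h3, h4] at hk
    apply c.nde
    show d * e = e * d
    calc d * e = (d * e * d⁻¹ * e⁻¹) * (e * d) := by group
      _ = e * d := by rw [hk, one_mul]
  exact ⟨(MulEquiv.ofBijective φ ⟨hinj, hsurj⟩).symm⟩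

end Cfg

end cfg3

end Cfsg.Agent.H24.F5
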