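import Cfsg.Agent.H24.F5e

/-!
# Fischer's `S₅` lemma: finding the configuration (helper24)

From `O(⟨D_x⟩) ≰ Z(⟨D_x⟩)` we obtain two members of `D_x` whose product lies in `O₃(C(x))`; then
(Lemma B) two members whose product lies in the centre of `O₃(C(x))`; primitivity gives the
member `b` of the configuration `Cfg`.
-/

set_option autoImplicit false
open Cfsg

namespace Cfsg.Agent.H24.F5

open Cfsg.Agent.H91

universe u

section find

variable {G : Type u} [Group G]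

/-- the members of `D` other than `x`, inside the centraliser of `x` -/
def Dc (D : Set G) (x : G) : Set ↥(Subgroup.centralizer ({x} : Set G)) :=
  {y | (y : G) ∈ D ∧ (y : G) ≠ x}

theorem Dc_set {D : Set G} (hset : IsThreeTranspositionSet D) (x : G) :
    IsThreeTranspositionSet (Dc D x) := by
  refine ⟨fun y hy => ?_, fun y hy z hz => ?_⟩
  · rw [← Subgroup.orderOf_coe]; exact hset.1 _ hy.1
  · rcases hset.2 _ hy.1 _ hz.1 with h | h
    · left; exact Subtype.ext (by simpa using h)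
    · right; exact Subtype.ext (by simpa using h)

theorem Dc_conj {D : Set G} (hconj : ∀ g : G, ∀ d ∈ D, g * d * g⁻¹ ∈ D) (x : G) :
    ∀ g : ↥(Subgroup.centralizer ({x} : Set G)), ∀ y ∈ Dc D x, g * y * g⁻¹ ∈ Dc D x := by
  intro g y hy
  have hg : Commute x (g : G) := mem_cent_singleton.mp g.2
  refine ⟨hconj g y hy.1, ?_⟩
  intro h
  apply hy.2
  have h' : (g : G) * (y : G) * (g : G)⁻¹ = x := h
  calc (y : G) = (g : G)⁻¹ * ((g : G) * (y : G) * (g : G)⁻¹) * (g : G) := by group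
    _ = (g : G)⁻¹ * x * (g : G) := by rw [h']
    _ = (g : G)⁻¹ * (x * (g : G)) := by group
    _ = (g : G)⁻¹ * ((g : G) * x) := by rw [hg.eq]
    _ = x := by group

theorem step0_half {D : Set G} (hset : IsThreeTranspositionSet D) {x : G} {N : Subgroup G}
    (hNinv : ∀ n ∈ N, n * n = 1 → n = 1)
    (hNnorm : ∀ l ∈ Subgroup.closure (Dd D x), ∀ n ∈ N, l * n * l⁻¹ ∈ N)
    {d e y : G} (hd : d ∈ Dd D x) (he : e ∈ Dd D x) (hde : d * e ∈ N) (hne : d ≠ e)
    (hy : y ∈ Dd D x) (hyd : y ≠ d) (hc : Commute d y) : y ≠ e ∧ Commute e y := by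
  have hd2 := sq_one (hset.1 d hd.1)
  have he2 := sq_one (hset.1 e he.1)
  have hy2 := sq_one (hset.1 y hy.1)
  have hnde : ¬ Commute d e := by
    intro h
    have h2 : (d * e) * (d * e) = 1 := by rw [← pow_two]; exact sq_of_commute hd2 he2 h
    have h1 := hNinv _ hde h2
    apply hne
    calc d = d * (e * e) := by rw [he2, mul_one]
      _ = (d * e) * e := by group
      _ = e := by rw [h1, one_mul]
  have hey : Commute e y := by
    by_contra hye
    have h3 : (y * e) ^ 3 = 1 := cube_of_not_commute hset hy.1 he.1 (fun h => hye h.symm)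
    apply hyd
    refine c1 hNinv hy2 hd2 hc.symm h3 hde ?_
    have hv2 : (y * d) * (y * d) = 1 := by
      rw [← pow_two]; exact sq_of_commute hy2 hd2 hc.symm
    have hmem : y * d ∈ Subgroup.closure (Dd D x) :=
      Subgroup.mul_mem _ (Subgroup.subset_closure hy) (Subgroup.subset_closure hd)
    have h5 := hNnorm (y * d) hmem (d * e) hde
    rwa [inv_eq_of_mul_eq_one_right hv2] at h5
  refine ⟨?_, hey⟩
  intro h
  apply hnde
  rw [← h]; exact hc

/-- **Step 0.** two members of `D_x` with product in `O₃(C(x))` -/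
theorem step0 [Finite G] (hBS : Cfsg.Agent.H75.BrauerSuzukiStmt.{u}) {D : Set G}
    (hD : IsThreeTranspositionClass D) {x : G}
    (h : ¬ oddCore ↥(Subgroup.closure (Dd D x)) ≤ Subgroup.center ↥(Subgroup.closure (Dd D x))) :
    ∃ d e, d ∈ Dd D x ∧ e ∈ Dd D x ∧ d ≠ e ∧ d * e ∈ Qs x := by
  classical
  have hset := hD.1
  have hconj := class_conj hD
  obtain ⟨L, hL⟩ : ∃ L : Subgroup G, L = Subgroup.closure (Dd D x) := ⟨_, rfl⟩
  rw [← hL] at h
  obtain ⟨u, hu, hunc⟩ := SetLike.not_le_iff_exists.mp h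
  have hex : ∃ d ∈ Dd D x, ¬ Commute d (u : G) := by
    by_contra hcon
    push Not at hcon
    apply hunc
    rw [Subgroup.mem_center_iff]
    intro l
    have hle : Subgroup.closure (Dd D x) ≤ Subgroup.centralizer ({(u : G)} : Set G) := by
      rw [Subgroup.closure_le]
      intro y hy
      rw [SetLike.mem_coe, mem_cent_singleton]
      exact (hcon y hy).symm
    have hl : (l : G) ∈ Subgroup.closure (Dd D x) := by rw [← hL]; exact l.2
    have h5 := mem_cent_singleton.mp (hle hl)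
    exact Subtype.ext h5.eq.symm
  obtain ⟨d, hd, hdu⟩ := hex
  have hdL : d ∈ L := by rw [hL]; exact Subgroup.subset_closure hd
  have hd2 := sq_one (hset.1 d hd.1)
  obtain ⟨N, hN⟩ : ∃ N : Subgroup G, N = (oddCore ↥L).map L.subtype := ⟨_, rfl⟩
  have hNinv : ∀ n ∈ N, n * n = 1 → n = 1 := by
    intro n hn h2
    rw [hN] at hn
    obtain ⟨n', hn', rfl⟩ := hn
    obtain ⟨m, hm⟩ := Cfsg.Agent.H27.odd_card_oddCore ↥L
    have hpow : (⟨n', hn'⟩ : ↥(oddCore ↥L)) ^ Nat.card ↥(oddCore ↥L) = 1 := pow_card_eq_one'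
    have hpow1 : (n' : ↥L) ^ Nat.card ↥(oddCore ↥L) = 1 := congrArg Subtype.val hpow
    have hpow' : ((n' : ↥L) : G) ^ Nat.card ↥(oddCore ↥L) = 1 := congrArg Subtype.val hpow1
    have h2' : ((n' : ↥L) : G) * ((n' : ↥L) : G) = 1 := h2
    rw [hm, pow_succ, pow_mul, pow_two, h2', one_pow, one_mul] at hpow'
    exact hpow'
  have hNnorm : ∀ l ∈ L, ∀ n ∈ N, l * n * l⁻¹ ∈ N := by
    intro l hl n hn
    rw [hN] at hn ⊢
    obtain ⟨n', hn', rfl⟩ := hn
    have hnorm : (oddCore ↥L).Normal := inferInstance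
    exact ⟨⟨l, hl⟩ * n' * ⟨l, hl⟩⁻¹, hnorm.conj_mem n' hn' ⟨l, hl⟩, rfl⟩
  have huN : (u : G) ∈ N := by rw [hN]; exact ⟨u, hu, rfl⟩
  have hux : Commute (u : G) x := closure_Dd_commute (by rw [← hL]; exact u.2)
  have he : (u : G) * d * (u : G)⁻¹ ∈ Dd D x := by
    have h5 := Dd_conj_mem hconj (u : G) hd
    have e1 : (u : G) * x * (u : G)⁻¹ = x := by rw [hux.eq, mul_assoc, mul_inv_cancel, mul_one]
    rwa [e1] at h5
  have hde : d ≠ (u : G) * d * (u : G)⁻¹ := by
    intro h5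
    apply hdu
    show d * (u : G) = (u : G) * d
    calc d * (u : G) = ((u : G) * d * (u : G)⁻¹) * (u : G) := by rw [← h5]
      _ = (u : G) * d := by group
  have hdeN : d * ((u : G) * d * (u : G)⁻¹) ∈ N := by
    have e1 : d * ((u : G) * d * (u : G)⁻¹) = (d * (u : G) * d⁻¹) * (u : G)⁻¹ := by
      rw [inv_self hd2]; group
    rw [e1]
    exact N.mul_mem (hNnorm d hdL _ huN) (N.inv_mem huN)
  obtain ⟨e, hedef⟩ : ∃ e, e = (u : G) * d * (u : G)⁻¹ := ⟨_, rfl⟩
  rw [← hedef] at he hde hdeN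
  have he2 := sq_one (hset.1 e he.1)
  have hedN : e * d ∈ N := by
    have h5 := N.inv_mem hdeN
    rwa [mul_inv_rev, inv_self hd2, inv_self he2] at h5
  have hNnorm' : ∀ l ∈ Subgroup.closure (Dd D x), ∀ n ∈ N, l * n * l⁻¹ ∈ N := by
    rw [← hL]; exact hNnorm
  have hdC : d ∈ Subgroup.centralizer ({x} : Set G) := mem_cent_singleton.mpr hd.2.2
  have heC : e ∈ Subgroup.centralizer ({x} : Set G) := mem_cent_singleton.mpr he.2.2
  have hW : WSim (Dc D x) ⟨d, hdC⟩ ⟨e, heC⟩ := by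
    refine ⟨⟨hd.1, hd.2.1⟩, ⟨he.1, he.2.1⟩, ?_⟩
    ext y
    constructor
    · rintro ⟨hyD, hyne, hyc⟩
      have hyG : (y : G) ∈ Dd D x := ⟨hyD.1, hyD.2, mem_cent_singleton.mp y.2⟩
      have hc : Commute d (y : G) := congrArg Subtype.val hyc.eq
      have h5 := step0_half hset hNinv hNnorm' hd he hdeN hde hyG
        (fun h => hyne (Subtype.ext h)) hc
      refine ⟨hyD, fun h => h5.1 (congrArg Subtype.val h), ?_⟩
      show (⟨e, heC⟩ : ↥(Subgroup.centralizer ({x} : Set G))) * y = y * ⟨e, heC⟩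
      exact Subtype.ext h5.2.eq
    · rintro ⟨hyD, hyne, hyc⟩
      have hyG : (y : G) ∈ Dd D x := ⟨hyD.1, hyD.2, mem_cent_singleton.mp y.2⟩
      have hc : Commute e (y : G) := congrArg Subtype.val hyc.eq
      have h5 := step0_half hset hNinv hNnorm' he hd hedN (fun h => hde h.symm) hyG
        (fun h => hyne (Subtype.ext h)) hc
      refine ⟨hyD, fun h => h5.1 (congrArg Subtype.val h), ?_⟩
      show (⟨d, hdC⟩ : ↥(Subgroup.centralizer ({x} : Set G))) * y = y * ⟨d, hdC⟩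
      exact Subtype.ext h5.2.eq
  have hcore := WSim.mul_mem_pCore_three hBS (Dc_set hset x) (Dc_conj hconj x) hW
  exact ⟨d, e, hd, he, hde, ⟨_, hcore, rfl⟩⟩

/-- every member of `D_z` fails to centralise `O₃(C(z))` -/
theorem all_noncentral [Finite G] {D : Set G} (hD : IsThreeTranspositionClass D)
    (htriv : ∀ R : G → G → Prop, (∀ x y, R x y → R y x) → (∀ x y z, R x y → R y z → R x z) →
      (∀ g x y, R x y → R (g * x * g⁻¹) (g * y * g⁻¹)) → (∀ x ∈ D, R x x) →
      (∀ x ∈ D, ∀ y ∈ D, R x y → x = y) ∨ (∀ x ∈ D, ∀ y ∈ D, R x y))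
    {x : G} (hx : x ∈ D)
    (h0 : ∃ d e, d ∈ Dd D x ∧ e ∈ Dd D x ∧ d ≠ e ∧ d * e ∈ Qs x) :
    ∀ z ∈ D, ∀ y ∈ Dd D z, ∃ q ∈ Qs z, ¬ Commute y q := by
  obtain ⟨d, e, hd, he, hde, hw⟩ := h0
  have hset := hD.1
  have hconj := class_conj hD
  have hd2 := sq_one (hset.1 d hd.1)
  have hnde := not_commute_of_Qs hset hd.1 he.1 hde hw
  have hdw : ¬ Commute d (d * e) := by
    intro h
    apply hnde
    have h'' := h.eq
    show d * e = e * d
    calc d * e = d * (d * (d * e)) := by rw [← mul_assoc d d, hd2, one_mul]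
      _ = d * ((d * e) * d) := by rw [h'']
      _ = (d * d) * e * d := by group
      _ = e * d := by rw [hd2, one_mul]
  have hx_all : ∀ y ∈ Dd D x, ∃ q ∈ Qs x, ¬ Commute y q := by
    intro y hy
    obtain ⟨g, hg, hgy⟩ := Dd_single_class hD htriv hx d hd y hy
    have hgx : Commute g x := closure_Dd_commute hg
    refine ⟨g * (d * e) * g⁻¹, Qs_normal hgx.symm hw, ?_⟩
    intro h
    rw [hgy] at h
    exact hdw (commute_of_conj' g h)
  intro z hz y hy
  obtain ⟨g, hg⟩ := class_exists_conj hD hx hz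
  have hy0 : g⁻¹ * y * g ∈ Dd D x := by
    rw [hg] at hy
    exact (mem_Dd_conj hconj g x y).mp hy
  obtain ⟨q, hq, hyq⟩ := hx_all _ hy0
  refine ⟨g * q * g⁻¹, by rw [hg]; exact Qs_conj g hq, ?_⟩
  intro h
  apply hyq
  have e1 : y = g * (g⁻¹ * y * g) * g⁻¹ := by group
  rw [e1] at h
  exact commute_of_conj' g h

/-- **Lemma B.** no nontrivial element of `O₃(C(x))` centralises `D_x` -/
theorem lemmaB [Finite G] {D : Set G} (hD : IsThreeTranspositionClass D)
    (htriv : ∀ R : G → G → Prop, (∀ x y, R x y → R y x) → (∀ x y z, R x y → R y z → R x z) →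
      (∀ g x y, R x y → R (g * x * g⁻¹) (g * y * g⁻¹)) → (∀ x ∈ D, R x x) →
      (∀ x ∈ D, ∀ y ∈ D, R x y → x = y) ∨ (∀ x ∈ D, ∀ y ∈ D, R x y))
    (hconn : (commutingGraph D).Connected) (hZ : Subgroup.center G = ⊥)
    (hnc : ∀ z ∈ D, ∀ y ∈ Dd D z, ∃ q ∈ Qs z, ¬ Commute y q)
    {x d ζ : G} (hx : x ∈ D) (hd : d ∈ Dd D x) (hζ : ζ ∈ Qs x) (hζ1 : ζ ≠ 1)
    (hall : ∀ y ∈ Dd D x, Commute y ζ) : False := by
  classical
  have hset := hD.1
  have hconj := class_conj hD
  have : Fact (Nat.Prime 3) := ⟨Nat.prime_three⟩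
  have hx2 := sq_one (hset.1 x hx)
  have hxζ : Commute x ζ := Qs_commute hζ
  have hi : ∀ a ∈ D, Commute a ζ → Commute x a := by
    intro a ha haζ
    by_contra hxa
    have hsub : D ⊆ Subgroup.centralizer ({ζ} : Set G) := by
      apply subset_of_commuting_of_mem hD htriv hconn hx ha hxa
      · intro y hy hc
        rw [mem_cent_singleton]
        by_cases hyx : y = x
        · rw [hyx]; exact hxζ.symm
        · exact (hall y ⟨hy, hyx, hc⟩).symm
      · exact mem_cent_singleton.mpr haζ.symm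
    have htop : Subgroup.centralizer ({ζ} : Set G) = ⊤ := by
      rw [eq_top_iff, ← hD.2.2, Subgroup.closure_le]; exact hsub
    have hcen : ζ ∈ Subgroup.center G := by
      rw [Subgroup.mem_center_iff]
      intro g
      have h5 : g ∈ Subgroup.centralizer ({ζ} : Set G) := by rw [htop]; trivial
      exact (mem_cent_singleton.mp h5).eq.symm
    rw [hZ, Subgroup.mem_bot] at hcen
    exact hζ1 hcen
  have hζd : Commute d ζ := hall d hd
  have hζ3 : IsPGroup 3 (Subgroup.zpowers ζ) :=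
    (Qs_isPGroup x).to_le (by rw [Subgroup.zpowers_le]; exact hζ)
  have hnorm : Subgroup.zpowers ζ ≤ Subgroup.normalizer (Qs d : Set G) := by
    rw [Subgroup.zpowers_le, Subgroup.mem_normalizer_iff]
    intro q
    constructor
    · intro hq; exact Qs_normal hζd hq
    · intro hq
      have h5 := Qs_normal (g := ζ⁻¹) hζd.inv_right hq
      have e : ζ⁻¹ * (ζ * q * ζ⁻¹) * ζ⁻¹⁻¹ = q := by group
      rwa [e] at h5
  have hP0 : IsPGroup 3 ↥(Subgroup.zpowers ζ ⊔ Qs d) :=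
    IsPGroup.to_sup_of_normal_right' hζ3 (Qs_isPGroup d) hnorm
  obtain ⟨P, hPdef⟩ : ∃ P : Subgroup G, P = Subgroup.zpowers ζ ⊔ Qs d := ⟨_, rfl⟩
  have hP : IsPGroup 3 ↥P := by rw [hPdef]; exact hP0
  have hζP : ζ ∈ P := by
    rw [hPdef]; exact (le_sup_left : Subgroup.zpowers ζ ≤ _) (Subgroup.mem_zpowers ζ)
  have hQP : Qs d ≤ P := by rw [hPdef]; exact le_sup_right
  have hxP : ∀ p ∈ P, x * p * x⁻¹ ∈ P := by
    have hle : Subgroup.zpowers ζ ⊔ Qs d ≤ P.comap (MulAut.conj x).toMonoidHom := by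
      rw [sup_le_iff]
      constructor
      · rw [Subgroup.zpowers_le, Subgroup.mem_comap]
        show x * ζ * x⁻¹ ∈ P
        have e : x * ζ * x⁻¹ = ζ := by rw [hxζ.eq, mul_assoc, mul_inv_cancel, mul_one]
        rw [e]; exact hζP
      · intro q hq
        rw [Subgroup.mem_comap]
        show x * q * x⁻¹ ∈ P
        exact hQP (Qs_normal hd.2.2.symm hq)
    intro p hp
    rw [hPdef] at hp
    exact hle hp
  obtain ⟨q, hq, hxq⟩ := hnc d hd.1 x ⟨hx, fun h => hd.2.1 h.symm, hd.2.2.symm⟩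
  have hnil : Group.IsNilpotent ↥P := hP.isNilpotent
  have hNC := Group.normalizerCondition_of_isNilpotent (G := ↥P)
  have hS : (Subgroup.centralizer ({x} : Set G)).subgroupOf P < ⊤ := by
    rw [lt_top_iff_ne_top]
    intro htop
    have h5 : (⟨q, hQP hq⟩ : ↥P) ∈ (Subgroup.centralizer ({x} : Set G)).subgroupOf P := by
      rw [htop]; trivial
    rw [Subgroup.mem_subgroupOf, mem_cent_singleton] at h5
    exact hxq h5
  obtain ⟨n, hnN, hnS⟩ := SetLike.exists_of_lt (hNC _ hS)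
  have hnx : ¬ Commute x (n : G) := by
    intro h
    apply hnS
    rw [Subgroup.mem_subgroupOf, mem_cent_singleton]; exact h
  have hζS : (⟨ζ, hζP⟩ : ↥P) ∈ (Subgroup.centralizer ({x} : Set G)).subgroupOf P := by
    rw [Subgroup.mem_subgroupOf, mem_cent_singleton]; exact hxζ
  have hn' : n⁻¹ ∈ Subgroup.normalizer
      (((Subgroup.centralizer ({x} : Set G)).subgroupOf P : Subgroup ↥P) : Set ↥P) :=
    Subgroup.inv_mem _ hnN
  have h1 := (Subgroup.mem_normalizer_iff.mp hn' ⟨ζ, hζP⟩).mp hζS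
  rw [Subgroup.mem_subgroupOf, mem_cent_singleton] at h1
  have h2 : Commute x ((n : G)⁻¹ * ζ * (n : G)) := by simpa using h1
  have h3 : Commute ((n : G) * x * (n : G)⁻¹) ζ := by
    have h5 := commute_conj' (n : G) h2
    have e : (n : G) * ((n : G)⁻¹ * ζ * (n : G)) * (n : G)⁻¹ = ζ := by group
    rwa [e] at h5
  have hx'D : (n : G) * x * (n : G)⁻¹ ∈ D := hconj _ x hx
  have hcomm : Commute x ((n : G) * x * (n : G)⁻¹) := hi _ hx'D h3
  have hmem : x * ((n : G) * x * (n : G)⁻¹) ∈ P := by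
    have e : x * ((n : G) * x * (n : G)⁻¹) = (x * (n : G) * x⁻¹) * (n : G)⁻¹ := by
      rw [inv_self hx2]; group
    rw [e]
    exact P.mul_mem (hxP _ n.2) (P.inv_mem n.2)
  have hx'2 : ((n : G) * x * (n : G)⁻¹) * ((n : G) * x * (n : G)⁻¹) = 1 := by
    calc ((n : G) * x * (n : G)⁻¹) * ((n : G) * x * (n : G)⁻¹)
        = (n : G) * (x * x) * (n : G)⁻¹ := by group
      _ = 1 := by rw [hx2, mul_one, mul_inv_cancel]
  have hsq : (x * ((n : G) * x * (n : G)⁻¹)) * (x * ((n : G) * x * (n : G)⁻¹)) = 1 := by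
    rw [← pow_two]
    exact sq_of_commute hx2 hx'2 hcomm
  have h1' := eq_one_of_sq hP hmem hsq
  apply hnx
  have h4 : (n : G) * x * (n : G)⁻¹ = x := by
    calc (n : G) * x * (n : G)⁻¹ = (x * x) * ((n : G) * x * (n : G)⁻¹) := by rw [hx2, one_mul]
      _ = x * (x * ((n : G) * x * (n : G)⁻¹)) := by group
      _ = x := by rw [h1', mul_one]
  show x * (n : G) = (n : G) * x
  calc x * (n : G) = ((n : G) * x * (n : G)⁻¹) * (n : G) := by rw [h4]
    _ = (n : G) * x := by group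

/-- **Fischer's lemma**: if `O(⟨D_x⟩)` is not central in `⟨D_x⟩` then `G ≅ S₅`. -/
theorem s5_of_core [Finite G] (hBS : Cfsg.Agent.H75.BrauerSuzukiStmt.{u})
    (hsol : ∀ N : Subgroup G, N.Normal → Group.IsSolvable ↥N → N = ⊥)
    (hperf : ⁅commutator G, commutator G⁆ = commutator G) {D : Set G}
    (hD : IsThreeTranspositionClass D) {x : G} (hx : x ∈ D)
    (h : ¬ oddCore ↥(Subgroup.closure (Dd D x)) ≤
      Subgroup.center ↥(Subgroup.closure (Dd D x))) :
    Nonempty (G ≃* Equiv.Perm (Fin 5)) := by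
  have : Fact (Nat.Prime 3) := ⟨Nat.prime_three⟩
  have htriv := rel_trivial_of_fischer hBS hsol hperf hD
  obtain ⟨hD2, hFZ, L, hLn, hL, hidx⟩ := fischer_structure hBS hsol hperf hD
  have hprim : IsPrimitiveUnderConj D := by
    have := hLn
    exact primitive_of_component hD hD2 hFZ hL hidx
  have hZ := center_eq_bot_of_fischer hsol
  have hO3 := pCore_eq_bot_of_fischer hsol 3
  have hset := hD.1
  have hconj := class_conj hD
  obtain ⟨d₀, e₀, hd₀, he₀, hde₀, hw₀⟩ := step0 hBS hD h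
  have hwit : ∃ a ∈ D, ∃ b ∈ D, a ≠ b ∧ Commute a b :=
    ⟨x, hx, d₀, hd₀.1, fun h => hd₀.2.1 h.symm, hd₀.2.2⟩
  have hconn := connected_of_primitive hD hwit hprim
  have hnc := all_noncentral hD htriv hx ⟨d₀, e₀, hd₀, he₀, hde₀, hw₀⟩
  obtain ⟨q, hq, hdq⟩ := hnc x hx d₀ hd₀
  have hq1 : q ≠ 1 := by rintro rfl; exact hdq (Commute.one_right _)
  obtain ⟨ζ, hζ, hζ1⟩ := exists_Zs_ne_one hq hq1
  have hex : ∃ d ∈ Dd D x, ¬ Commute d ζ := by
    by_contra hcon
    push Not at hcon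
    exact lemmaB hD htriv hconn hZ hnc hx hd₀ (Zs_le_Qs x hζ) hζ1 hcon
  obtain ⟨d, hd, hdζ⟩ := hex
  have hd2 := sq_one (hset.1 d hd.1)
  have hxζ : Commute x ζ := Qs_commute (Zs_le_Qs x hζ)
  have he : ζ * d * ζ⁻¹ ∈ Dd D x := by
    have h5 := Dd_conj_mem hconj ζ hd
    have e1 : ζ * x * ζ⁻¹ = x := by rw [← hxζ.eq, mul_assoc, mul_inv_cancel, mul_one]
    rwa [e1] at h5
  have hde : d ≠ ζ * d * ζ⁻¹ := by
    intro h5
    apply hdζ
    show d * ζ = ζ * d
    calc d * ζ = (ζ * d * ζ⁻¹) * ζ := by rw [← h5]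
      _ = ζ * d := by group
  have hw : d * (ζ * d * ζ⁻¹) ∈ Zs x := by
    have e1 : d * (ζ * d * ζ⁻¹) = (d * ζ * d) * ζ⁻¹ := by group
    rw [e1]
    exact (Zs x).mul_mem (Zs_normal' hd.2.2 hd2 hζ) ((Zs x).inv_mem hζ)
  obtain ⟨e, hedef⟩ : ∃ e, e = ζ * d * ζ⁻¹ := ⟨_, rfl⟩
  rw [← hedef] at he hde hw
  have he2 := sq_one (hset.1 e he.1)
  have hR1 : ∀ u ∈ D, ∀ v ∈ D, Dd D u = Dd D v → u = v := by
    rcases htriv (fun u v => Dd D u = Dd D v) (fun _ _ h => h.symm)
      (fun _ _ _ h1 h2 => h1.trans h2)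
      (fun g u v h => by
        have h' : Dd D u = Dd D v := h
        show Dd D (g * u * g⁻¹) = Dd D (g * v * g⁻¹)
        rw [Dd_conj hconj, Dd_conj hconj, h'])
      (fun _ _ => rfl) with h1 | h1
    · exact h1
    · exfalso
      have h5 : Dd D x = Dd D d₀ := h1 x hx d₀ hd₀.1
      have h6 : d₀ ∈ Dd D d₀ := by rw [← h5]; exact hd₀
      exact h6.2.1 rfl
  have hne : Dd D d ≠ Dd D e := fun h5 => hde (hR1 d hd.1 e he.1 h5)
  have hnde : ¬ Commute d e := not_commute_of_Qs hset hd.1 he.1 hde (Zs_le_Qs x hw)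
  have hb : (∃ b, b ∈ Dd D d ∧ b ∉ Dd D e) ∨ (∃ b, b ∈ Dd D e ∧ b ∉ Dd D d) := by
    by_contra hcon
    push Not at hcon
    apply hne
    ext b
    exact ⟨fun h5 => hcon.1 b h5, fun h5 => hcon.2 b h5⟩
  rcases hb with ⟨b, hbd, hbe⟩ | ⟨b, hbe, hbd⟩
  · have hbe' : ¬ Commute b e := by
      intro h5
      apply hbe
      refine ⟨hbd.1, ?_, h5.symm⟩
      intro h6
      apply hnde
      rw [← h6]; exact hbd.2.2
    have c : Cfg D x d e b :=
      ⟨hD, hx, hd, he, hde, hw, hbd.1, hbd.2.1, hbd.2.2.symm, hbe'⟩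
    exact c.iso htriv hconn hO3
  · have hbd' : ¬ Commute b d := by
      intro h5
      apply hbd
      refine ⟨hbe.1, ?_, h5.symm⟩
      intro h6
      apply hnde
      rw [← h6]; exact hbe.2.2.symm
    have hw' : e * d ∈ Zs x := by
      have h5 := (Zs x).inv_mem hw
      rwa [mul_inv_rev, inv_self hd2, inv_self he2] at h5
    have c : Cfg D x e d b :=
      ⟨hD, hx, he, hd, fun h => hde h.symm, hw', hbe.1, hbe.2.1, hbe.2.2.symm, hbd'⟩
    exact c.iso htriv hconn hO3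

end find

end Cfsg.Agent.H24.F5
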