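import Mathlib

set_option autoImplicit false

namespace Cfsg.Agent.H24

open Module

universe u

/-- Over a finite field of characteristic 2, every additive endomorphism is uniquely an
`F`-combination of field automorphisms, with coefficients depending additively on the map. -/
theorem exists_aut_coef (F : Type u) [Field F] [Fintype F] [CharP F 2] :
    ∃ (ι : Type u) (_ : Fintype ι) (E : ι ≃ (F ≃+* F)) (coef : (F →+ F) →+ (ι → F)),
      ∀ (f : F →+ F) (x : F), f x = ∑ i, coef f i * E i x := by
  classical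
  let _ : Algebra (ZMod 2) F := ZMod.algebra F 2
  have hli : LinearIndependent F
      (fun σ : F ≃ₐ[ZMod 2] F => (σ : F →ₐ[ZMod 2] F).toLinearMap) :=
    (linearIndependent_toLinearMap (ZMod 2) F F).comp
      (fun σ : F ≃ₐ[ZMod 2] F => (σ : F →ₐ[ZMod 2] F))
      (fun σ τ h => by ext x; exact DFunLike.congr_fun h x)
  have hcard : Fintype.card (F ≃ₐ[ZMod 2] F) = Module.finrank F (F →ₗ[ZMod 2] F) := by
    rw [Module.finrank_linearMap_self, ← Nat.card_eq_fintype_card, IsGalois.card_aut_eq_finrank]
  have hspan := hli.span_eq_top_of_card_eq_finrank' hcard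
  let bas : Basis (F ≃ₐ[ZMod 2] F) F (F →ₗ[ZMod 2] F) := Basis.mk hli hspan.ge
  let E : (F ≃ₐ[ZMod 2] F) ≃ (F ≃+* F) :=
    { toFun := fun τ => τ.toRingEquiv
      invFun := fun σ => AlgEquiv.ofRingEquiv (f := σ) (fun x => RingHom.congr_fun
        (Subsingleton.elim ((σ : F →+* F).comp (algebraMap (ZMod 2) F))
          (algebraMap (ZMod 2) F)) x)
      left_inv := fun σ => by ext; rfl
      right_inv := fun τ => by ext; rfl }
  let coef : (F →+ F) →+ ((F ≃ₐ[ZMod 2] F) → F) :=
    { toFun := fun f σ => bas.repr (f.toZModLinearMap 2) σ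
      map_zero' := by
        have h0 : (0 : F →+ F).toZModLinearMap 2 = 0 := LinearMap.ext fun x => rfl
        ext σ
        simp [h0]
      map_add' := fun f g => by
        have h0 : (f + g).toZModLinearMap 2 = f.toZModLinearMap 2 + g.toZModLinearMap 2 :=
          LinearMap.ext fun x => rfl
        ext σ
        simp [h0] }
  refine ⟨F ≃ₐ[ZMod 2] F, inferInstance, E, coef, ?_⟩
  intro f x
  have h1 := bas.sum_repr (f.toZModLinearMap 2)
  have h2 := congrArg (fun g : F →ₗ[ZMod 2] F => g x) h1
  simp only [LinearMap.sum_apply, LinearMap.smul_apply, smul_eq_mul] at h2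
  rw [show f x = (f.toZModLinearMap 2) x from rfl, ← h2]
  apply Finset.sum_congr rfl
  intro σ _
  have h3 : bas σ = (σ : F →ₐ[ZMod 2] F).toLinearMap := Basis.mk_apply hli hspan.ge σ
  rw [h3]
  rfl

end Cfsg.Agent.H24
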