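import Cfsg.Agent.H10.J2S.OutChk
import Cfsg.Agent.H24.J2AutPerm

set_option autoImplicit false

/-!
# S2066-NU: the outer automorphism of J2 induced by the permutation `nu` of the 315 reflections
-/

namespace Cfsg.Agent.H24.J2Out

open Cfsg.Agent.H10.J2S Cfsg.Agent.H9.J2 Cfsg.Spor MulAction

theorem nu_lt {p : ℕ} (hp : p < 315) : nu p < 315 := (nu_ok p (List.mem_range.2 hp)).1

theorem nu_nu {p : ℕ} (hp : p < 315) : nu (nu p) = p := (nu_ok p (List.mem_range.2 hp)).2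

theorem nu_op {p q : ℕ} (hp : p < 315) (hq : q < 315) : nu (op p q) = op (nu p) (nu q) := by
  have h := nu_hom_ok
  rw [List.all_eq_true] at h
  have h1 := h p (List.mem_range.2 hp)
  unfold nuChk at h1
  rw [frcList_eq, frcList_eq, List.all_eq_true] at h1
  have h2 := h1 q (List.mem_range.2 hq)
  exact Nat.eq_of_beq_eq_true h2

/-- the permutation of the reflections induced by `nu` -/
noncomputable def nuX : Equiv.Perm XR where
  toFun x := xk (nu (idxOf x))
  invFun x := xk (nu (idxOf x))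
  left_inv x := by
    show xk (nu (idxOf (xk (nu (idxOf x))))) = x
    rw [idxOf_xk (nu_lt (idxOf_lt x)), nu_nu (idxOf_lt x), xk_idxOf]
  right_inv x := by
    show xk (nu (idxOf (xk (nu (idxOf x))))) = x
    rw [idxOf_xk (nu_lt (idxOf_lt x)), nu_nu (idxOf_lt x), xk_idxOf]

theorem nuX_xk {p : ℕ} (hp : p < 315) : nuX (xk p) = xk (nu p) := by
  show xk (nu (idxOf (xk p))) = xk (nu p)
  rw [idxOf_xk hp]

theorem nuX_inv_xk {p : ℕ} (hp : p < 315) : nuX⁻¹ (xk p) = xk (nu p) := by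
  rw [Equiv.Perm.inv_def]
  show xk (nu (idxOf (xk p))) = xk (nu p)
  rw [idxOf_xk hp]

theorem toPerm_io_nu {p : ℕ} (hp : p < 315) :
    (toPerm (io (xk (nu p))) : Equiv.Perm XR) = nuX * toPerm (io (xk p)) * nuX⁻¹ := by
  apply Equiv.ext
  intro y
  have hy := idxOf_lt y
  rw [Equiv.Perm.mul_apply, Equiv.Perm.mul_apply, toPerm_apply, toPerm_apply]
  conv_rhs => rw [← xk_idxOf y]
  rw [nuX_inv_xk hy, io_smul_xk hp (nu_lt hy), nuX_xk (op_lt hp (nu_lt hy)), nu_op hp (nu_lt hy),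
    nu_nu hy]
  conv_lhs => rw [← xk_idxOf y]
  rw [io_smul_xk (nu_lt hp) hy]

theorem exists_outer : ∃ φ : MulAut J2, Ind φ nu ∧ Ind φ⁻¹ nu := by
  have := j2_faithful
  obtain ⟨φ, hφ⟩ := exists_aut_of_perm (G := J2) (X := XR) nuX (Set.range io) closure_io (by
    rintro s ⟨x, rfl⟩
    refine ⟨io (xk (nu (idxOf x))), ?_⟩
    rw [toPerm_io_nu (idxOf_lt x), xk_idxOf])
  have key : ∀ p, p < 315 → φ (io (xk p)) = io (xk (nu p)) := by
    intro p hp
    apply MulAction.toPerm_injective (α := J2) (β := XR)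
    rw [hφ, toPerm_io_nu hp]
  refine ⟨φ, fun p hp => ⟨key p hp, nu_lt hp⟩, fun p hp => ⟨?_, nu_lt hp⟩⟩
  have h1 := key (nu p) (nu_lt hp)
  rw [nu_nu hp] at h1
  rw [← h1]
  show φ⁻¹ (φ (io (xk (nu p)))) = io (xk (nu p))
  rw [← MulAut.mul_apply, inv_mul_cancel, MulAut.one_apply]

end Cfsg.Agent.H24.J2Out
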