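import Mathlib

set_option autoImplicit false

namespace Cfsg.Agent.H24.J3C

theorem center_pow_three {G : Type*} [Group G] (hZ : Nat.card (Subgroup.center G) = 3)
    (z : G) (hz : z ∈ Subgroup.center G) : z ^ 3 = 1 := by
  have h := pow_card_eq_one' (G := Subgroup.center G) (x := ⟨z, hz⟩)
  rw [hZ] at h
  have h2 := congrArg Subtype.val h
  simpa using h2

theorem invol_lift {G : Type*} [Group G] (hZ : Nat.card (Subgroup.center G) = 3)
    (u : G ⧸ Subgroup.center G) (hu : orderOf u = 2) :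
    ∃ g : G, g ^ 2 = 1 ∧ g ≠ 1 ∧ (QuotientGroup.mk g : G ⧸ Subgroup.center G) = u := by
  obtain ⟨g0, rfl⟩ := QuotientGroup.mk_surjective u
  have hu2 : (QuotientGroup.mk g0 : G ⧸ Subgroup.center G) ^ 2 = 1 := by
    rw [← hu]; exact pow_orderOf_eq_one _
  have hu1 : (QuotientGroup.mk g0 : G ⧸ Subgroup.center G) ≠ 1 := by
    intro h
    rw [h, orderOf_one] at hu
    omega
  have hz : g0 ^ 2 ∈ Subgroup.center G := by
    rw [← QuotientGroup.eq_one_iff, QuotientGroup.mk_pow]
    exact hu2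
  have hz3 := center_pow_three hZ _ hz
  refine ⟨g0 ^ 3, ?_, ?_, ?_⟩
  · rw [← pow_mul]
    rw [← pow_mul] at hz3
    exact hz3
  · intro h
    apply hu1
    have h3 : (QuotientGroup.mk g0 : G ⧸ Subgroup.center G) ^ 3 = 1 := by
      rw [← QuotientGroup.mk_pow, h]; rfl
    have : (QuotientGroup.mk g0 : G ⧸ Subgroup.center G) ^ 3 =
        (QuotientGroup.mk g0 : G ⧸ Subgroup.center G) ^ 2 * QuotientGroup.mk g0 := pow_succ _ 2
    rw [this, hu2, one_mul] at h3
    exact h3
  · rw [QuotientGroup.mk_pow]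
    have : (QuotientGroup.mk g0 : G ⧸ Subgroup.center G) ^ 3 =
        (QuotientGroup.mk g0 : G ⧸ Subgroup.center G) ^ 2 * QuotientGroup.mk g0 := pow_succ _ 2
    rw [this, hu2, one_mul]

theorem comm_lift {G : Type*} [Group G] (hZ : Nat.card (Subgroup.center G) = 3) (y c : G)
    (hy : y ^ 2 = 1)
    (h : (QuotientGroup.mk c : G ⧸ Subgroup.center G) * QuotientGroup.mk y =
      QuotientGroup.mk y * QuotientGroup.mk c) : c * y = y * c := by
  have h1 : (QuotientGroup.mk (c * y) : G ⧸ Subgroup.center G) = QuotientGroup.mk (y * c) := by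
    rw [QuotientGroup.mk_mul, QuotientGroup.mk_mul]; exact h
  have hz : (y * c)⁻¹ * (c * y) ∈ Subgroup.center G := QuotientGroup.eq.mp h1.symm
  obtain ⟨z, hzdef⟩ : ∃ z, z = (y * c)⁻¹ * (c * y) := ⟨_, rfl⟩
  rw [← hzdef] at hz
  have hz3 := center_pow_three hZ z hz
  have hcomm : ∀ g : G, g * z = z * g := fun g => (Subgroup.mem_center_iff.mp hz g)
  -- c * y = y * c * z
  have e1 : c * y = y * c * z := by rw [hzdef]; group
  -- y * (c * y) = c * z  (using y^2 = 1 : y⁻¹ = y)
  have hyinv : y * y = 1 := by rw [← pow_two]; exact hy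
  have e2 : y * c * y = c * z⁻¹ := by
    have : y * c = c * y * z⁻¹ := by rw [e1]; group
    rw [this]
    calc c * y * z⁻¹ * y = c * (y * (z⁻¹ * y)) := by group
      _ = c * (y * (y * z⁻¹)) := by
          have : z⁻¹ * y = y * z⁻¹ := by
            have := hcomm y
            calc z⁻¹ * y = z⁻¹ * (y * z) * z⁻¹ := by group
              _ = z⁻¹ * (z * y) * z⁻¹ := by rw [this]
              _ = y * z⁻¹ := by group
          rw [this]
      _ = c * (y * y) * z⁻¹ := by group
      _ = c * z⁻¹ := by rw [hyinv, mul_one]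
  -- also y * c * y = y * (c * y) = y * (y * c * z) = c * z
  have e3 : y * c * y = c * z := by
    calc y * c * y = y * (c * y) := by group
      _ = y * (y * c * z) := by rw [e1]
      _ = (y * y) * c * z := by group
      _ = c * z := by rw [hyinv, one_mul]
  have hz2 : z ^ 2 = 1 := by
    have : c * z = c * z⁻¹ := by rw [← e3, e2]
    have h5 : z = z⁻¹ := mul_left_cancel this
    calc z ^ 2 = z * z := pow_two z
      _ = z * z⁻¹ := by rw [← h5]
      _ = 1 := mul_inv_cancel z
  have hz1 : z = 1 := by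
    have : z ^ 3 = z ^ 2 * z := pow_succ z 2
    rw [this, hz2, one_mul] at hz3
    exact hz3
  rw [e1, hz1, mul_one]

example {G : Type*} [Group G] (hZ : Nat.card (Subgroup.center G) = 3)
    (u : G ⧸ Subgroup.center G) (hu : orderOf u = 2) :
    ∃ g : G, g ^ 2 = 1 ∧ g ≠ 1 ∧ (QuotientGroup.mk g : G ⧸ Subgroup.center G) = u :=
  invol_lift hZ u hu

example {G : Type*} [Group G] (hZ : Nat.card (Subgroup.center G) = 3) (y c : G)
    (hy : y ^ 2 = 1)
    (h : (QuotientGroup.mk c : G ⧸ Subgroup.center G) * QuotientGroup.mk y =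
      QuotientGroup.mk y * QuotientGroup.mk c) : c * y = y * c :=
  comm_lift hZ y c hy h

end Cfsg.Agent.H24.J3C
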