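import Mathlib

set_option autoImplicit false

/-!
# S0420-DQB: two distinct subgroups of order 16 in a group of order 48 meet in a normal subgroup
of order 8
-/

namespace Cfsg.Agent.H24.M11

open Subgroup

theorem card_mul_relIndex_of_le {G : Type*} [Group G] {H K : Subgroup G} (h : H ≤ K) :
    Nat.card H * H.relIndex K = Nat.card K := by
  have h1 := Subgroup.relIndex_mul_relIndex ⊥ H K bot_le h
  rwa [Subgroup.relIndex_bot_left, Subgroup.relIndex_bot_left] at h1

theorem dqb_nat_aux (n r : ℕ) (h1 : n ∣ 16) (h2 : n * r = 48) (h3 : r ≤ 9) (h4 : n ≠ 16) :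
    n = 8 := by
  have hle : n ≤ 16 := Nat.le_of_dvd (by norm_num) h1
  interval_cases n <;> first | rfl | omega

theorem dqb_nat_aux2 (n : ℕ) (h1 : 16 ∣ n) (h2 : n ∣ 48) (h3 : n ≠ 16) : n = 48 := by
  have hle : n ≤ 48 := Nat.le_of_dvd (by norm_num) h2
  obtain ⟨j, rfl⟩ := h1
  have hj : j ≤ 3 := by omega
  interval_cases j <;> first | rfl | omega

theorem card_inf_eq_eight {G : Type*} [Group G] [Finite G] (K S S' : Subgroup G)
    (hK : Nat.card K = 48) (hS : Nat.card S = 16) (hS' : Nat.card S' = 16)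
    (hSK : S ≤ K) (hS'K : S' ≤ K) (hne : S ≠ S') :
    Nat.card ↥(S ⊓ S') = 8 ∧ ∀ y ∈ K, ∀ q ∈ S ⊓ S', y * q * y⁻¹ ∈ S ⊓ S' := by
  obtain ⟨D, hD⟩ : ∃ D : Subgroup G, D = S ⊓ S' := ⟨_, rfl⟩
  rw [← hD]
  have hDS : D ≤ S := hD ▸ inf_le_left
  have hDS' : D ≤ S' := hD ▸ inf_le_right
  have hDK : D ≤ K := hDS.trans hSK
  have hrS : S.relIndex K = 3 := by
    have h := card_mul_relIndex_of_le hSK
    rw [hS, hK] at h
    omega
  have hrS' : S'.relIndex K = 3 := by
    have h := card_mul_relIndex_of_le hS'K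
    rw [hS', hK] at h
    omega
  have hrD : D.relIndex K ≤ 9 := by
    have h := Subgroup.relIndex_inf_le (H := S) (K := S') (L := K)
    rw [hrS, hrS', ← hD] at h
    exact h
  have hcD := card_mul_relIndex_of_le hDK
  rw [hK] at hcD
  have hdvd : Nat.card D ∣ 16 := hS ▸ Subgroup.card_dvd_of_le hDS
  have hDne : Nat.card D ≠ 16 := by
    intro h16
    have e1 : D = S := Subgroup.eq_of_le_of_card_ge hDS (by rw [h16, hS])
    have e2 : D = S' := Subgroup.eq_of_le_of_card_ge hDS' (by rw [h16, hS'])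
    exact hne (e1.symm.trans e2)
  have hD8 : Nat.card D = 8 := dqb_nat_aux _ _ hdvd hcD hrD hDne
  refine ⟨hD8, ?_⟩
  -- `D` has index 2 in `S` and in `S'`
  have hn : ∀ T : Subgroup G, D ≤ T → Nat.card T = 16 → T ≤ normalizer (D : Set G) := by
    intro T hDT hT
    have h := card_mul_relIndex_of_le hDT
    rw [hD8, hT] at h
    have h2 : (D.subgroupOf T).index = 2 := by
      show D.relIndex T = 2
      omega
    have : (D.subgroupOf T).Normal := Subgroup.normal_of_index_eq_two h2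
    exact Subgroup.le_normalizer_of_normal_subgroupOf hDT
  have hsup : S ⊔ S' ≤ normalizer (D : Set G) := sup_le (hn S hDS hS) (hn S' hDS' hS')
  have hsupK : S ⊔ S' ≤ K := sup_le hSK hS'K
  have hcard : Nat.card ↥(S ⊔ S') = 48 := by
    apply dqb_nat_aux2
    · exact hS ▸ Subgroup.card_dvd_of_le (le_sup_left : S ≤ S ⊔ S')
    · exact hK ▸ Subgroup.card_dvd_of_le hsupK
    · intro h16
      have e1 : S = S ⊔ S' := Subgroup.eq_of_le_of_card_ge le_sup_left (by rw [h16, hS])
      have h1 : S' ≤ S := by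
        rw [e1]
        exact le_sup_right
      exact hne (Subgroup.eq_of_le_of_card_ge h1 (by rw [hS, hS'])).symm
  have hKeq : S ⊔ S' = K := Subgroup.eq_of_le_of_card_ge hsupK (by rw [hcard, hK])
  intro y hy q hq
  have hyN : y ∈ normalizer (D : Set G) := hsup (hKeq ▸ hy)
  exact (Subgroup.mem_normalizer_iff.mp hyN q).mp hq

end Cfsg.Agent.H24.M11
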