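import Mathlib

set_option autoImplicit false

/-!
# S0420-DQD: an involution outside a subgroup of order 16 of a group of order 7920 does not
normalize it
-/

namespace Cfsg.Agent.H24.M11

open Subgroup

theorem exists_conj_not_mem_of_card_sixteen {G : Type*} [Group G] [Finite G]
    (hG : Nat.card G = 7920) (S : Subgroup G) (hS : Nat.card S = 16) (g : G)
    (hg : orderOf g = 2) (hgS : g ∉ S) : ∃ s ∈ S, g * s * g⁻¹ ∉ S := by
  by_contra hcon
  push Not at hcon
  have : Fact (Nat.Prime 2) := ⟨Nat.prime_two⟩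
  have hg2 : g * g = 1 := by
    have := pow_orderOf_eq_one g
    rw [hg, pow_two] at this
    exact this
  have hginv : g⁻¹ = g := inv_eq_of_mul_eq_one_right hg2
  -- `S` is a Sylow 2-subgroup
  have hSp : IsPGroup 2 S := by
    apply IsPGroup.of_card (n := 4)
    rw [hS]
    norm_num
  obtain ⟨Q, hQ⟩ := hSp.exists_le_sylow
  obtain ⟨k, hk⟩ := IsPGroup.iff_card.mp Q.2
  have h1 : Nat.card (Q : Subgroup G) ∣ 7920 := hG ▸ Subgroup.card_subgroup_dvd_card _
  have h2 : 16 ∣ Nat.card (Q : Subgroup G) := hS ▸ Subgroup.card_dvd_of_le hQ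
  have hk4 : k ≤ 4 := by
    by_contra hk5
    have h5 : 5 ≤ k := by omega
    have h3 : 2 ^ 5 ∣ Nat.card (Q : Subgroup G) := by
      rw [hk]
      exact pow_dvd_pow 2 h5
    have h4 : 2 ^ 5 ∣ 7920 := h3.trans h1
    norm_num at h4
  have hcardQ : Nat.card (Q : Subgroup G) ≤ Nat.card S := by
    rw [hk, hS]
    calc 2 ^ k ≤ 2 ^ 4 := Nat.pow_le_pow_right (by norm_num) hk4
      _ = 16 := by norm_num
  have hSQ : S = (Q : Subgroup G) := Subgroup.eq_of_le_of_card_ge hQ hcardQ
  -- `g` normalizes `S`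
  have hgN : g ∈ normalizer ((Q : Subgroup G) : Set G) := by
    rw [← hSQ, Subgroup.mem_normalizer_iff]
    intro s
    constructor
    · exact hcon s
    · intro h
      have h3 := hcon _ h
      rw [hginv] at h3
      have h4 : g * (g * s * g) * g = s := by
        calc g * (g * s * g) * g = (g * g) * s * (g * g) := by group
          _ = s := by rw [hg2, one_mul, mul_one]
      rw [hginv] at h
      rw [h4] at h3
      exact h3
  have hgp : IsPGroup 2 (zpowers g) := by
    apply IsPGroup.of_card (n := 1)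
    rw [Nat.card_zpowers, hg]
    norm_num
  have h5 := hgp.inf_normalizer_sylow Q
  have h6 : g ∈ zpowers g ⊓ normalizer ((Q : Subgroup G) : Set G) :=
    ⟨mem_zpowers g, hgN⟩
  have h7 : g ∈ zpowers g ⊓ (Q : Subgroup G) := by
    rw [← h5]
    exact h6
  exact hgS (hSQ ▸ h7.2)

end Cfsg.Agent.H24.M11
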