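import Cfsg.Agent.H76.NCKillDefs

/-!
# NCK-RK2 (towards S1353/S1354): a pure rank-two criterion for a Sylow subgroup
-/

set_option autoImplicit false

namespace Cfsg.Agent.H24.NCKill

open Cfsg Subgroup Cfsg.Agent.H76.NCKill

universe u

/-- the number of cosets of `C_H(a)` in `H` is at most the number of elements of any set
containing the `H`-conjugates of `a`. -/
theorem card_le_of_conj_mem {G : Type u} [Group G] [Finite G] (H : Subgroup G) (a : G)
    (Y : Set G) (hY : ∀ h ∈ H, h * a * h⁻¹ ∈ Y) :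
    ∃ n, n ≤ Nat.card Y ∧ n ∣ Nat.card H ∧
      Nat.card H = Nat.card (H ⊓ centralizer {a} : Subgroup G) * n := by
  classical
  obtain ⟨K, hK⟩ : ∃ K : Subgroup G, K = H ⊓ centralizer {a} := ⟨_, rfl⟩
  have hKH : K ≤ H := by rw [hK]; exact inf_le_left
  rw [← hK]
  refine ⟨(K.subgroupOf H).index, ?_, Subgroup.index_dvd_card _, ?_⟩
  · rw [Subgroup.index]
    let f : H ⧸ K.subgroupOf H → Y :=
      Quotient.lift (fun h : H => (⟨h.1 * a * h.1⁻¹, hY h.1 h.2⟩ : Y)) (by
        intro x y hxy
        have h1 : x⁻¹ * y ∈ K.subgroupOf H := QuotientGroup.leftRel_apply.mp hxy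
        rw [Subgroup.mem_subgroupOf, hK, Subgroup.mem_inf,
          Subgroup.mem_centralizer_singleton_iff] at h1
        have h2 := h1.2
        simp only [Subgroup.coe_mul, InvMemClass.coe_inv] at h2
        apply Subtype.ext
        show x.1 * a * x.1⁻¹ = y.1 * a * y.1⁻¹
        calc x.1 * a * x.1⁻¹ = x.1 * (a * (x.1⁻¹ * y.1)) * y.1⁻¹ := by group
          _ = x.1 * (x.1⁻¹ * y.1 * a) * y.1⁻¹ := by rw [h2]
          _ = y.1 * a * y.1⁻¹ := by group)
    apply Nat.card_le_card_of_injective f
    intro u v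
    refine Quotient.inductionOn₂' u v ?_
    intro x y h
    have h3 : x.1 * a * x.1⁻¹ = y.1 * a * y.1⁻¹ := congrArg Subtype.val h
    apply Quotient.sound'
    apply QuotientGroup.leftRel_apply.mpr
    rw [Subgroup.mem_subgroupOf, hK, Subgroup.mem_inf, Subgroup.mem_centralizer_singleton_iff]
    refine ⟨(x⁻¹ * y).2, ?_⟩
    simp only [Subgroup.coe_mul, InvMemClass.coe_inv]
    calc x.1⁻¹ * y.1 * a = x.1⁻¹ * (y.1 * a * y.1⁻¹) * y.1 := by group
      _ = x.1⁻¹ * (x.1 * a * x.1⁻¹) * y.1 := by rw [h3]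
      _ = a * (x.1⁻¹ * y.1) := by group
  · have h1 := Subgroup.card_mul_index (K.subgroupOf H)
    have h2 : Nat.card (K.subgroupOf H) = Nat.card K :=
      Nat.card_congr (Subgroup.subgroupOfEquivOfLe hKH).toEquiv
    rw [h2] at h1
    exact h1.symm

/-- NCK-RK2. -/
theorem rk2 {G : Type u} [Group G] [Finite G] : StRk2 G := by
  intro r _ S a A' haA hAS hAcard hSN hTcomm hTΩ B hBc hBe
  have hr : r.Prime := Fact.out
  obtain ⟨B', hB'⟩ : ∃ B' : Subgroup G, B' = B.map (S : Subgroup G).subtype := ⟨_, rfl⟩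
  have hcardB : Nat.card B' = Nat.card B := by
    rw [hB']
    exact Subgroup.card_subtype _ B
  rw [← hcardB]
  have hB'S : B' ≤ (S : Subgroup G) := by
    rw [hB']
    exact Subgroup.map_subtype_le B
  have hB'comm : ∀ x ∈ B', ∀ y ∈ B', x * y = y * x := by
    rw [hB']
    rintro _ ⟨x, hx, rfl⟩ _ ⟨y, hy, rfl⟩
    have h := congrArg Subtype.val (hBc.is_comm.comm (⟨x, hx⟩ : B) ⟨y, hy⟩)
    exact congrArg Subtype.val h
  have hB'exp : ∀ x ∈ B', x ^ r = 1 := by
    rw [hB']
    rintro _ ⟨x, hx, rfl⟩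
    have h := hBe x hx
    have h2 := congrArg Subtype.val h
    simpa using h2
  by_cases hcase : B' ≤ centralizer {a}
  · -- `B' ≤ T`, so `B' ≤ A'`
    have hBA : B' ≤ A' := fun x hx => hTΩ x ⟨hB'S hx, hcase hx⟩ (hB'exp x hx)
    calc Nat.card B' ≤ Nat.card A' := Subgroup.card_le_of_le hBA
      _ = r ^ 2 := hAcard
  · -- some `y ∈ B'` does not commute with `a`
    obtain ⟨y, hyB, hya⟩ := SetLike.not_le_iff_exists.mp hcase
    rw [Subgroup.mem_centralizer_singleton_iff] at hya
    have ha1 : a ≠ 1 := by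
      rintro rfl
      exact hya (by simp)
    -- the intersection `B' ⊓ C(a)` has order at most `r`
    have hK : Nat.card (B' ⊓ centralizer {a} : Subgroup G) ≤ r := by
      have hle : B' ⊓ centralizer {a} ≤ A' ⊓ centralizer {y} := by
        intro x hx
        refine ⟨hTΩ x ⟨hB'S hx.1, hx.2⟩ (hB'exp x hx.1),
          Subgroup.mem_centralizer_singleton_iff.mpr ?_⟩
        exact hB'comm x hx.1 y hyB
      have hne : A' ⊓ centralizer {y} ≠ A' := by
        intro h
        have : a ∈ A' ⊓ centralizer {y} := by rw [h]; exact haA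
        have h2 : a * y = y * a := Subgroup.mem_centralizer_singleton_iff.mp this.2
        exact hya h2.symm
      have hdvd : Nat.card (A' ⊓ centralizer {y} : Subgroup G) ∣ r ^ 2 := by
        rw [← hAcard]
        exact Subgroup.card_dvd_of_le inf_le_left
      obtain ⟨m, hm, hm2⟩ := (Nat.dvd_prime_pow hr).1 hdvd
      have hmlt : m < 2 := by
        rcases lt_or_eq_of_le hm with h | h
        · exact h
        · exfalso
          apply hne
          apply Subgroup.eq_of_le_of_card_ge inf_le_left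
          rw [hAcard, hm2, h]
      calc Nat.card (B' ⊓ centralizer {a} : Subgroup G)
          ≤ Nat.card (A' ⊓ centralizer {y} : Subgroup G) := Subgroup.card_le_of_le hle
        _ = r ^ m := hm2
        _ ≤ r ^ 1 := Nat.pow_le_pow_right hr.pos (by omega)
        _ = r := pow_one r
    -- the number of cosets is at most `r`
    obtain ⟨n, hnY, hndvd, hncard⟩ := card_le_of_conj_mem B' a ((A' : Set G) \ {1}) (by
      intro h hh
      refine ⟨?_, ?_⟩
      · exact (Subgroup.mem_normalizer_iff.mp (hSN (hB'S hh)) a).mp haA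
      · intro h1
        apply ha1
        have h2 : h * a * h⁻¹ = 1 := h1
        have h3 : a = h⁻¹ * (h * a * h⁻¹) * h := by group
        rw [h3, h2]
        group)
    have hYcard : Nat.card ((A' : Set G) \ {1} : Set G) < r ^ 2 := by
      rw [← hAcard]
      have h1 : Nat.card ((A' : Set G) \ {1} : Set G) = ((A' : Set G) \ {1}).ncard := rfl
      have h2 : Nat.card A' = (A' : Set G).ncard := rfl
      rw [h1, h2]
      apply Set.ncard_lt_ncard _ (Set.toFinite _)
      constructor
      · exact Set.sdiff_subset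
      · intro h
        have := h (one_mem A')
        exact this.2 rfl
    have hBp : IsPGroup r B' := S.isPGroup'.to_le hB'S
    obtain ⟨k, hk⟩ := hBp.exists_card_eq
    rw [hk] at hndvd
    obtain ⟨m, hm, hm2⟩ := (Nat.dvd_prime_pow hr).1 hndvd
    have hmlt : m < 2 := by
      have h1 : r ^ m < r ^ 2 := by
        rw [← hm2]
        exact lt_of_le_of_lt hnY hYcard
      exact (Nat.pow_lt_pow_iff_right hr.one_lt).mp h1
    have hn : n ≤ r := by
      rw [hm2]
      calc r ^ m ≤ r ^ 1 := Nat.pow_le_pow_right hr.pos (by omega)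
        _ = r := pow_one r
    rw [hncard]
    calc Nat.card (B' ⊓ centralizer {a} : Subgroup G) * n ≤ r * r := Nat.mul_le_mul hK hn
      _ = r ^ 2 := (pow_two r).symm

end Cfsg.Agent.H24.NCKill

universe w

example {G : Type w} [Group G] [Finite G] : Cfsg.Agent.H76.NCKill.StRk2 G :=
  Cfsg.Agent.H24.NCKill.rk2
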