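import Mathlib

/-!
# Pieces for the character count of a simple group of order 7920 (S4429)

* `exists_abelian_maximal` (S4429-ABM)
* `card_conjClasses_55` (S4429-K55)
* `card_conjClasses_20` (S4429-K20)
-/

set_option autoImplicit false

namespace Cfsg.Agent.H24.Ord7920

open Subgroup

/-- Counting commuting pairs in a group with a self-centralizing prime-order-like subgroup
`Q` such that all elements outside `Q` have a centralizer of the same size `c`. -/
theorem comm_card_formula {N : Type*} [Group N] [Finite N] (Q : Subgroup N) (c : ℕ)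
    (h1 : ∀ g ∈ Q, g ≠ 1 → Nat.card {b // Commute g b} = Nat.card Q)
    (h2 : ∀ g, g ∉ Q → Nat.card {b // Commute g b} = c) :
    Nat.card { p : N × N // Commute p.1 p.2 } + Nat.card Q + Nat.card Q * c
      = Nat.card N + Nat.card Q * Nat.card Q + Nat.card N * c := by
  classical
  letI : Fintype N := Fintype.ofFinite N
  rw [Nat.card_congr (Equiv.subtypeProdEquivSigmaSubtype Commute), Nat.card_sigma]
  have hsplit := Finset.sum_filter_add_sum_filter_not (Finset.univ : Finset N) (· ∈ Q)
    (fun a => Nat.card {b // Commute a b})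
  have hcQ : (Finset.univ.filter (fun a : N => a ∈ Q)).card = Nat.card Q := by
    rw [Nat.card_eq_fintype_card, Fintype.card_subtype]
  have hcN : (Finset.univ.filter (fun a : N => a ∈ Q)).card
      + (Finset.univ.filter (fun a : N => ¬ a ∈ Q)).card = Nat.card N := by
    rw [Finset.card_filter_add_card_filter_not, Nat.card_eq_fintype_card, Finset.card_univ]
  have hA : ∑ a ∈ Finset.univ.filter (fun a : N => ¬ a ∈ Q), Nat.card {b // Commute a b}
      = (Finset.univ.filter (fun a : N => ¬ a ∈ Q)).card * c := by
    rw [Finset.sum_congr rfl (fun a ha => h2 a (Finset.mem_filter.mp ha).2), Finset.sum_const,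
      smul_eq_mul]
  have h1mem : (1 : N) ∈ Finset.univ.filter (fun a : N => a ∈ Q) := by simp [Q.one_mem]
  have hone : Nat.card {b : N // Commute (1 : N) b} = Nat.card N :=
    Nat.card_congr (Equiv.subtypeUnivEquiv (fun b => Commute.one_left b))
  have hB' : ∑ a ∈ (Finset.univ.filter (fun a : N => a ∈ Q)).erase 1,
      Nat.card {b // Commute a b}
      = ((Finset.univ.filter (fun a : N => a ∈ Q)).erase 1).card * Nat.card Q := by
    rw [Finset.sum_congr rfl (fun a ha => h1 a (Finset.mem_filter.mp (Finset.mem_of_mem_erase ha)).2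
      (Finset.ne_of_mem_erase ha)), Finset.sum_const, smul_eq_mul]
  have hB := Finset.add_sum_erase (Finset.univ.filter (fun a : N => a ∈ Q))
    (fun a => Nat.card {b // Commute a b}) h1mem
  have hcE : ((Finset.univ.filter (fun a : N => a ∈ Q)).erase 1).card + 1 = Nat.card Q := by
    rw [Finset.card_erase_add_one h1mem, hcQ]
  rw [hB', hone] at hB
  rw [← hsplit, hA, ← hB]
  have e1 : Nat.card N = Nat.card Q + (Finset.univ.filter (fun a : N => ¬ a ∈ Q)).card := by
    rw [← hcN, hcQ]
  generalize ((Finset.univ.filter (fun a : N => a ∈ Q)).erase 1).card = x at *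
  generalize (Finset.univ.filter (fun a : N => ¬ a ∈ Q)).card = y at *
  generalize Nat.card Q = q at *
  generalize Nat.card N = n at *
  subst e1
  subst hcE
  ring

/-- In a finite group, for `Q` of prime order `p` which is self-centralizing, a nontrivial
element of `Q` commutes exactly with the elements of `Q`. -/
theorem commute_iff_mem_of_prime {N : Type*} [Group N] [Finite N] (p : ℕ) [Fact p.Prime]
    (Q : Subgroup N) (hQ : Nat.card Q = p)
    (hC : ∀ g : N, (∀ q ∈ Q, g * q = q * g) → g ∈ Q) (g : N) (hg : g ∈ Q) (hg1 : g ≠ 1)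
    (b : N) : Commute g b ↔ b ∈ Q := by
  have hpow : ∀ q ∈ Q, ∃ k : ℤ, g ^ k = q := by
    intro q hq
    have hne : (⟨g, hg⟩ : Q) ≠ 1 := fun h => hg1 (congrArg Subtype.val h)
    have := mem_zpowers_of_prime_card (G := Q) hQ (g := ⟨g, hg⟩) (g' := ⟨q, hq⟩) hne
    obtain ⟨k, hk⟩ := this
    exact ⟨k, by simpa using congrArg Subtype.val hk⟩
  constructor
  · intro h
    apply hC
    intro q hq
    obtain ⟨k, rfl⟩ := hpow q hq
    exact ((h.zpow_left k).symm).eq
  · intro hb
    obtain ⟨k, rfl⟩ := hpow b hb
    exact (Commute.refl g).zpow_right k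

theorem card_commute_of_mem {N : Type*} [Group N] [Finite N] (p : ℕ) [Fact p.Prime]
    (Q : Subgroup N) (hQ : Nat.card Q = p)
    (hC : ∀ g : N, (∀ q ∈ Q, g * q = q * g) → g ∈ Q) (g : N) (hg : g ∈ Q) (hg1 : g ≠ 1) :
    Nat.card {b // Commute g b} = Nat.card Q :=
  Nat.card_congr (Equiv.subtypeEquivRight (commute_iff_mem_of_prime p Q hQ hC g hg hg1))

/-- For `g ∉ Q`, the centralizer of `g` meets `Q` trivially, so its order times `|Q|` is at
most `|N|`. -/
theorem card_centralizer_mul_le {N : Type*} [Group N] [Finite N] (p : ℕ) [Fact p.Prime]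
    (Q : Subgroup N) (hQ : Nat.card Q = p)
    (hC : ∀ g : N, (∀ q ∈ Q, g * q = q * g) → g ∈ Q) (g : N) (hg : g ∉ Q) :
    Nat.card (centralizer ({g} : Set N)) * Nat.card Q ≤ Nat.card N := by
  rw [← Nat.card_prod]
  apply Nat.card_le_card_of_injective (fun x : centralizer ({g} : Set N) × Q => (x.1 : N) * x.2)
  rintro ⟨⟨c, hc⟩, ⟨q, hq⟩⟩ ⟨⟨c', hc'⟩, ⟨q', hq'⟩⟩ h
  simp only at h
  have hmem : c'⁻¹ * c ∈ centralizer ({g} : Set N) := mul_mem (inv_mem hc') hc
  have hmemQ : c'⁻¹ * c ∈ Q := by
    have : c'⁻¹ * c = q' * q⁻¹ := by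
      rw [inv_mul_eq_iff_eq_mul, ← mul_assoc, eq_mul_inv_iff_mul_eq]; exact h
    rw [this]; exact mul_mem hq' (inv_mem hq)
  have hone : c'⁻¹ * c = 1 := by
    by_contra hne
    have hcomm : Commute (c'⁻¹ * c) g := by
      have := Subgroup.mem_centralizer_iff.mp hmem g (Set.mem_singleton g)
      exact this.symm
    exact hg ((commute_iff_mem_of_prime p Q hQ hC _ hmemQ hne g).mp hcomm)
  have hcc : c = c' := by
    have := inv_mul_eq_one.mp hone
    exact this.symm
  subst hcc
  have hqq : q = q' := mul_left_cancel h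
  subst hqq
  rfl

theorem card_commute_eq_centralizer {N : Type*} [Group N] (g : N) :
    Nat.card {b // Commute g b} = Nat.card (centralizer ({g} : Set N)) := by
  apply Nat.card_congr
  apply Equiv.subtypeEquivRight
  intro b
  rw [Subgroup.mem_centralizer_iff]
  constructor
  · intro h x hx
    rw [Set.mem_singleton_iff] at hx
    subst hx
    exact h.eq
  · intro h
    exact h g (Set.mem_singleton g)

theorem self_mem_centralizer {N : Type*} [Group N] (g : N) :
    g ∈ centralizer ({g} : Set N) := by
  rw [Subgroup.mem_centralizer_iff]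
  intro x hx
  rw [Set.mem_singleton_iff] at hx
  subst hx
  rfl

/-- **S4429-K55.** A group of order 55 with a self-centralizing subgroup of order 11 has
exactly 7 conjugacy classes. -/
theorem card_conjClasses_55 {N : Type*} [Group N] [Finite N] (hN : Nat.card N = 55)
    (Q : Subgroup N) (hQ : Nat.card Q = 11)
    (hC : ∀ g : N, (∀ q ∈ Q, g * q = q * g) → g ∈ Q) : Nat.card (ConjClasses N) = 7 := by
  have : Fact (Nat.Prime 11) := ⟨by norm_num⟩
  have h2 : ∀ g, g ∉ Q → Nat.card {b // Commute g b} = 5 := by
    intro g hg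
    rw [card_commute_eq_centralizer]
    have hle := card_centralizer_mul_le 11 Q hQ hC g hg
    have hdvd : Nat.card (centralizer ({g} : Set N)) ∣ 55 := by
      rw [← hN]; exact Subgroup.card_subgroup_dvd_card _
    have hne1 : Nat.card (centralizer ({g} : Set N)) ≠ 1 := by
      intro h
      have hbot := Subgroup.eq_bot_of_card_eq _ h
      have hgm := self_mem_centralizer g
      rw [hbot, Subgroup.mem_bot] at hgm
      exact hg (hgm ▸ Q.one_mem)
    rw [hQ, hN] at hle
    have hle5 : Nat.card (centralizer ({g} : Set N)) ≤ 5 := by omega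
    have hpos : 0 < Nat.card (centralizer ({g} : Set N)) := Nat.card_pos
    generalize Nat.card (centralizer ({g} : Set N)) = n at *
    interval_cases n <;> first | rfl | omega | (exfalso; revert hdvd; decide)
  have hform := comm_card_formula Q 5
    (fun g hg hg1 => card_commute_of_mem 11 Q hQ hC g hg hg1) h2
  rw [card_comm_eq_card_conjClasses_mul_card, hQ, hN] at hform
  omega

/-- **S4429-K20.** A group of order 20 with a self-centralizing subgroup of order 5 has
exactly 5 conjugacy classes. -/
theorem card_conjClasses_20 {N : Type*} [Group N] [Finite N] (hN : Nat.card N = 20)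
    (Q : Subgroup N) (hQ : Nat.card Q = 5)
    (hC : ∀ g : N, (∀ q ∈ Q, g * q = q * g) → g ∈ Q) : Nat.card (ConjClasses N) = 5 := by
  have : Fact (Nat.Prime 5) := ⟨by norm_num⟩
  have : Fact (Nat.Prime 2) := ⟨Nat.prime_two⟩
  have h2 : ∀ g, g ∉ Q → Nat.card {b // Commute g b} = 4 := by
    intro g hg
    rw [card_commute_eq_centralizer]
    have hle := card_centralizer_mul_le 5 Q hQ hC g hg
    have hdvd : Nat.card (centralizer ({g} : Set N)) ∣ 20 := by
      rw [← hN]; exact Subgroup.card_subgroup_dvd_card _
    have hg1 : g ≠ 1 := fun h => hg (h ▸ Q.one_mem)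
    have hzle : zpowers g ≤ centralizer ({g} : Set N) := by
      rw [Subgroup.zpowers_le]; exact self_mem_centralizer g
    have hod : orderOf g ∣ Nat.card (centralizer ({g} : Set N)) := by
      rw [← Nat.card_zpowers]; exact Subgroup.card_dvd_of_le hzle
    have ho1 : orderOf g ≠ 1 := fun h => hg1 (orderOf_eq_one_iff.mp h)
    rw [hQ, hN] at hle
    have hle4 : Nat.card (centralizer ({g} : Set N)) ≤ 4 := by omega
    have hpos : 0 < Nat.card (centralizer ({g} : Set N)) := Nat.card_pos
    -- the order of `g` is `2` or `4`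
    have hord : ∃ n : ℕ, n ≤ 2 ∧ orderOf g = 2 ^ n := by
      have hopos : 0 < orderOf g := orderOf_pos g
      have hole : orderOf g ≤ Nat.card (centralizer ({g} : Set N)) := Nat.le_of_dvd hpos hod
      generalize Nat.card (centralizer ({g} : Set N)) = n at *
      generalize orderOf g = o at *
      interval_cases n
      · interval_cases o
        · exact absurd rfl ho1
      · interval_cases o
        · exact absurd rfl ho1
        · exact ⟨1, by norm_num, rfl⟩
      · exfalso; revert hdvd; decide
      · interval_cases o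
        · exact absurd rfl ho1
        · exact ⟨1, by norm_num, rfl⟩
        · exfalso; revert hod; decide
        · exact ⟨2, le_rfl, rfl⟩
    obtain ⟨n, hn2, hon⟩ := hord
    obtain ⟨K, hK, hgK⟩ := Sylow.exists_subgroup_card_pow_prime_le 2 (m := 2) (n := n)
      (by rw [hN]; norm_num) (zpowers g) (by rw [Nat.card_zpowers, hon]) hn2
    have hKc : K ≤ centralizer ({g} : Set N) := by
      intro k hk
      rw [Subgroup.mem_centralizer_iff]
      intro x hx
      rw [Set.mem_singleton_iff] at hx
      subst hx
      have hxK : x ∈ K := hgK (Subgroup.mem_zpowers x)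
      have := IsPGroup.commutative_of_card_eq_prime_sq (p := 2) (G := K) hK ⟨x, hxK⟩ ⟨k, hk⟩
      exact congrArg Subtype.val this
    have h4 : 4 ∣ Nat.card (centralizer ({g} : Set N)) := by
      have := Subgroup.card_dvd_of_le hKc
      rw [hK] at this
      exact this
    exact Nat.le_antisymm hle4 (Nat.le_of_dvd hpos h4)
  have hform := comm_card_formula Q 4
    (fun g hg hg1 => card_commute_of_mem 5 Q hQ hC g hg hg1) h2
  rw [card_comm_eq_card_conjClasses_mul_card, hQ, hN] at hform
  omega

/-- **S4429-ABM.** A group of order 16 with an involution whose centralizer has order 4 has an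
abelian maximal subgroup avoiding that involution. -/
theorem exists_abelian_maximal {S : Type*} [Group S] [Finite S] (hS : Nat.card S = 16)
    (t : S) (ht : orderOf t = 2) (hC : Nat.card (centralizer ({t} : Set S)) = 4) :
    ∃ M : Subgroup S, M.index = 2 ∧ t ∉ M ∧ ∀ a ∈ M, ∀ b ∈ M, a * b = b * a := by
  have : Fact (Nat.Prime 2) := ⟨Nat.prime_two⟩
  have hp : IsPGroup 2 S := IsPGroup.of_card (n := 4) (by rw [hS]; norm_num)
  have hnt : Nontrivial S := Finite.one_lt_card_iff_nontrivial.mp (by rw [hS]; norm_num)
  -- a central involution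
  obtain ⟨z, hzc, hz2⟩ : ∃ z ∈ center S, orderOf z = 2 := by
    have hcn : Nontrivial (center S) := hp.center_nontrivial
    have hpc : IsPGroup 2 (center S) := hp.to_subgroup _
    obtain ⟨n, hn⟩ := IsPGroup.iff_card.mp hpc
    have h2 : 2 ∣ Nat.card (center S) := by
      rw [hn]
      have hn0 : n ≠ 0 := by
        rintro rfl
        have := Finite.one_lt_card_iff_nontrivial.mpr hcn
        rw [hn] at this
        simp at this
      exact dvd_pow_self 2 hn0
    obtain ⟨z, hz⟩ := exists_prime_orderOf_dvd_card' 2 h2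
    refine ⟨z, z.2, ?_⟩
    rw [Subgroup.orderOf_coe]; exact hz
  have hzcomm : ∀ (k : ℤ) (g : S), g * z ^ k = z ^ k * g := by
    intro k g
    have hzk : z ^ k ∈ center S := (center S).zpow_mem hzc k
    exact Subgroup.mem_center_iff.mp hzk g
  have hZn : (zpowers z).Normal := ⟨fun n hn g => by
    obtain ⟨k, rfl⟩ := hn
    have : g * z ^ k * g⁻¹ = z ^ k := by rw [hzcomm k g]; group
    rw [this]; exact ⟨k, rfl⟩⟩
  have hZmem : ∀ x ∈ zpowers z, x = 1 ∨ x = z := by
    rintro x ⟨k, rfl⟩
    have h := zpow_mod_orderOf z k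
    rw [hz2] at h
    have hk : k % ((2 : ℕ) : ℤ) = 0 ∨ k % ((2 : ℕ) : ℤ) = 1 := by omega
    change z ^ k = 1 ∨ z ^ k = z
    rcases hk with hk | hk
    · left; rw [← h, hk]; exact zpow_zero z
    · right; rw [← h, hk]; exact zpow_one z
  have hmemC : ∀ g : S, g ∈ centralizer ({t} : Set S) ↔ t * g = g * t := by
    intro g
    rw [Subgroup.mem_centralizer_iff]
    constructor
    · intro h; exact h t (Set.mem_singleton t)
    · intro h x hx
      rw [Set.mem_singleton_iff] at hx
      subst hx; exact h
  have htt : t * t = 1 := by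
    have := pow_orderOf_eq_one t
    rw [ht, pow_two] at this
    exact this
  have ht1 : t ≠ 1 := by
    intro h
    rw [h, orderOf_one] at ht
    omega
  -- `t` is not central modulo `z`
  obtain ⟨g, hg⟩ : ∃ g : S, g * t * g⁻¹ * t⁻¹ ∉ zpowers z := by
    by_contra hcon
    push Not at hcon
    have key : ∀ x y : S, x ∉ centralizer ({t} : Set S) → y ∉ centralizer ({t} : Set S) →
        x⁻¹ * y ∈ centralizer ({t} : Set S) := by
      intro x y hx hy
      have hxz : x * t * x⁻¹ * t⁻¹ = z := by
        rcases hZmem _ (hcon x) with h | h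
        · exfalso
          apply hx
          rw [hmemC]
          have h' : x * t * x⁻¹ = t := by
            have := mul_inv_eq_one.mp h
            exact this
          have h'' : x * t = t * x := mul_inv_eq_iff_eq_mul.mp h'
          exact h''.symm
        · exact h
      have hyz : y * t * y⁻¹ * t⁻¹ = z := by
        rcases hZmem _ (hcon y) with h | h
        · exfalso
          apply hy
          rw [hmemC]
          have h' : y * t * y⁻¹ = t := by
            have := mul_inv_eq_one.mp h
            exact this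
          have h'' : y * t = t * y := mul_inv_eq_iff_eq_mul.mp h'
          exact h''.symm
        · exact h
      rw [hmemC]
      have hxy : x * t * x⁻¹ = y * t * y⁻¹ := by
        have := hxz.trans hyz.symm
        exact mul_right_cancel this
      calc t * (x⁻¹ * y) = x⁻¹ * (x * t * x⁻¹) * y := by group
        _ = x⁻¹ * (y * t * y⁻¹) * y := by rw [hxy]
        _ = x⁻¹ * y * t := by group
    have hCtop : centralizer ({t} : Set S) ≠ ⊤ := by
      intro h
      rw [h, Subgroup.card_top, hS] at hC
      omega
    obtain ⟨g₀, hg₀⟩ : ∃ g₀ : S, g₀ ∉ centralizer ({t} : Set S) := by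
      by_contra h
      push Not at h
      exact hCtop (eq_top_iff.mpr fun x _ => h x)
    have hidx : (centralizer ({t} : Set S)).index = 2 := by
      rw [Subgroup.index_eq_two_iff']
      refine ⟨g₀⁻¹, fun b => ?_⟩
      by_cases hb : b ∈ centralizer ({t} : Set S)
      · right
        refine ⟨hb, fun h => ?_⟩
        have h1 : g₀⁻¹ ∈ centralizer ({t} : Set S) := by
          have := mul_mem h (inv_mem hb)
          simpa using this
        exact hg₀ (by simpa using inv_mem h1)
      · left
        refine ⟨?_, hb⟩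
        have := key g₀ b hg₀ hb
        exact this
    have := Subgroup.card_mul_index (centralizer ({t} : Set S))
    rw [hidx, hC, hS] at this
    omega
  -- pass to the quotient by `⟨z⟩`
  have hcardQ : Nat.card (S ⧸ zpowers z) = 8 := by
    have h := Subgroup.card_eq_card_quotient_mul_card_subgroup (zpowers z)
    rw [Nat.card_zpowers, hz2, hS] at h
    omega
  have hπ : Function.Surjective (QuotientGroup.mk' (zpowers z)) := QuotientGroup.mk'_surjective _
  obtain ⟨tb, htb⟩ : ∃ tb : S ⧸ zpowers z, tb = QuotientGroup.mk' (zpowers z) t := ⟨_, rfl⟩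
  obtain ⟨gb, hgb⟩ : ∃ gb : S ⧸ zpowers z, gb = QuotientGroup.mk' (zpowers z) g := ⟨_, rfl⟩
  have htbtb : tb * tb = 1 := by
    rw [htb, ← map_mul, htt, map_one]
  have hncomm : gb * tb ≠ tb * gb := by
    intro h
    apply hg
    have h1 : QuotientGroup.mk' (zpowers z) (g * t * g⁻¹ * t⁻¹) = 1 := by
      rw [map_mul, map_mul, map_mul, map_inv, map_inv, ← htb, ← hgb, h]
      group
    rw [QuotientGroup.mk'_apply, QuotientGroup.eq_one_iff] at h1
    exact h1
  have hzp : ∀ (a x : S ⧸ zpowers z), x ∈ zpowers a → x * a = a * x := by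
    rintro a x ⟨k, rfl⟩
    exact ((Commute.refl a).zpow_left k).eq
  obtain ⟨ab, hab2, habt⟩ : ∃ ab : S ⧸ zpowers z, ab * ab ≠ 1 ∧ tb ∉ zpowers ab := by
    by_cases h1 : gb * gb = 1
    · by_cases h2 : (gb * tb) * (gb * tb) = 1
      · exfalso
        apply hncomm
        symm
        calc tb * gb = (gb * gb) * tb * gb * (tb * tb) := by rw [h1, htbtb]; group
          _ = gb * (gb * tb * (gb * tb)) * tb := by group
          _ = gb * tb := by rw [h2]; group
      · refine ⟨gb * tb, h2, fun hmem => hncomm ?_⟩
        have := hzp _ _ hmem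
        rw [← mul_assoc] at this
        exact (mul_right_cancel this).symm
    · exact ⟨gb, h1, fun hmem => hncomm (hzp _ _ hmem).symm⟩
  have hord : orderOf ab = 4 := by
    have hdvd : orderOf ab ∣ 2 ^ 3 := by
      have := orderOf_dvd_natCard ab
      rw [hcardQ] at this
      exact this
    obtain ⟨m, hm, hmo⟩ := (Nat.dvd_prime_pow Nat.prime_two).mp hdvd
    interval_cases m
    · exfalso
      apply hab2
      rw [pow_zero, orderOf_eq_one_iff] at hmo
      rw [hmo, mul_one]
    · exfalso
      apply hab2
      have := pow_orderOf_eq_one ab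
      rw [hmo, pow_one, pow_two] at this
      exact this
    · rw [hmo]; norm_num
    · exfalso
      apply habt
      have htop : zpowers ab = ⊤ := by
        apply Subgroup.eq_top_of_card_eq
        rw [Nat.card_zpowers, hmo, hcardQ]; norm_num
      rw [htop]; exact Subgroup.mem_top _
  have hidx : (zpowers ab).index = 2 := by
    have := Subgroup.card_mul_index (zpowers ab)
    rw [Nat.card_zpowers, hord, hcardQ] at this
    omega
  refine ⟨(zpowers ab).comap (QuotientGroup.mk' (zpowers z)), ?_, ?_, ?_⟩
  · rw [Subgroup.index_comap_of_surjective _ hπ, hidx]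
  · intro h
    rw [Subgroup.mem_comap, ← htb] at h
    exact habt h
  · obtain ⟨a₀, ha₀⟩ := hπ ab
    have hlift : ∀ x : S, QuotientGroup.mk' (zpowers z) x ∈ zpowers ab →
        ∃ (i : ℤ) (u : S), (∀ y : S, Commute u y) ∧ x = a₀ ^ i * u := by
      intro x hx
      obtain ⟨i, hi⟩ := hx
      have hi' : QuotientGroup.mk' (zpowers z) (a₀ ^ i) = QuotientGroup.mk' (zpowers z) x := by
        rw [map_zpow, ha₀]; exact hi
      rw [QuotientGroup.mk'_apply, QuotientGroup.mk'_apply, QuotientGroup.eq] at hi'
      obtain ⟨k, hk⟩ := hi'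
      refine ⟨i, z ^ k, fun y => (hzcomm k y).symm, ?_⟩
      have hk' : z ^ k = (a₀ ^ i)⁻¹ * x := hk
      rw [hk']; group
    intro a ha b hb
    obtain ⟨i, u, hu, rfl⟩ := hlift a ha
    obtain ⟨j, v, hv, rfl⟩ := hlift b hb
    exact (((Commute.zpow_zpow_self a₀ i j).mul_right (hv _).symm).mul_left (hu _)).eq

end Cfsg.Agent.H24.Ord7920
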