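import Mathlib
import Cfsg.Agent.H24.Ord7920Ch
import Cfsg.Agent.H56.Ord7920TT

/-!
# S4429-H20: in a simple group of order 7920 no involution has a centralizer of order 20
-/

set_option autoImplicit false

namespace Cfsg.Agent.H24.Ord7920

open Subgroup

/-- **S4429-H20.** -/
theorem centralizer_involution_ne_20 {G : Type*} [Group G] [Finite G] [IsSimpleGroup G]
    (hord : Nat.card G = 7920) (t : G) (ht : orderOf t = 2) :
    Nat.card (centralizer ({t} : Set G)) ≠ 20 := by
  intro hH
  have : Fact (Nat.Prime 2) := ⟨Nat.prime_two⟩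
  -- a Sylow 2-subgroup containing `t`
  obtain ⟨P, hP, htP'⟩ := Sylow.exists_subgroup_card_pow_prime_le 2 (m := 4) (n := 1)
    (by rw [hord]; norm_num) (zpowers t) (by rw [Nat.card_zpowers, ht]; norm_num) (by norm_num)
  have htP : t ∈ P := htP' (Subgroup.mem_zpowers t)
  have hP16 : Nat.card P = 16 := by rw [hP]; norm_num
  have hPp : IsPGroup 2 P := IsPGroup.of_card (n := 4) hP
  obtain ⟨tP, htPdef⟩ : ∃ tP : P, tP = ⟨t, htP⟩ := ⟨_, rfl⟩
  have htPval : (tP : G) = t := by rw [htPdef]
  have htP2 : orderOf tP = 2 := by rw [← Subgroup.orderOf_coe, htPval]; exact ht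
  -- the centralizer of `t` in `P` has order 4
  have hCP : Nat.card (centralizer ({tP} : Set P)) = 4 := by
    have hd16 : Nat.card (centralizer ({tP} : Set P)) ∣ 16 := by
      rw [← hP16]; exact Subgroup.card_subgroup_dvd_card _
    have hd20 : Nat.card (centralizer ({tP} : Set P)) ∣ 20 := by
      rw [← hH, ← Subgroup.card_map_of_injective (Subgroup.subtype_injective P)]
      apply Subgroup.card_dvd_of_le
      rintro _ ⟨x, hx, rfl⟩
      rw [SetLike.mem_coe, Subgroup.mem_centralizer_iff] at hx
      rw [Subgroup.mem_centralizer_iff]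
      intro y hy
      rw [Set.mem_singleton_iff] at hy
      subst hy
      have h1 := hx tP (Set.mem_singleton tP)
      have h2 := congrArg Subtype.val h1
      rw [Subgroup.coe_mul, Subgroup.coe_mul, htPval] at h2
      exact h2
    have hd4 : Nat.card (centralizer ({tP} : Set P)) ∣ 4 := Nat.dvd_gcd hd16 hd20
    have hzle : zpowers tP ≤ centralizer ({tP} : Set P) := by
      rw [Subgroup.zpowers_le]; exact self_mem_centralizer tP
    have h2d : 2 ∣ Nat.card (centralizer ({tP} : Set P)) := by
      have := Subgroup.card_dvd_of_le hzle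
      rwa [Nat.card_zpowers, htP2] at this
    by_contra hne
    have hc2 : Nat.card (centralizer ({tP} : Set P)) = 2 := by
      have hpos : 0 < Nat.card (centralizer ({tP} : Set P)) := Nat.card_pos
      have hle : Nat.card (centralizer ({tP} : Set P)) ≤ 4 := Nat.le_of_dvd (by norm_num) hd4
      generalize Nat.card (centralizer ({tP} : Set P)) = n at *
      interval_cases n <;> omega
    have heq : zpowers tP = centralizer ({tP} : Set P) :=
      Subgroup.eq_of_le_of_card_ge hzle (by rw [hc2, Nat.card_zpowers, htP2])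
    have hnt : Nontrivial P := Finite.one_lt_card_iff_nontrivial.mp (by rw [hP16]; norm_num)
    have hcn : Nontrivial (center P) := hPp.center_nontrivial
    obtain ⟨z, hzc, hz1⟩ := (Subgroup.nontrivial_iff_exists_ne_one _).mp hcn
    have hzC : z ∈ centralizer ({tP} : Set P) := Subgroup.center_le_centralizer _ hzc
    rw [← heq] at hzC
    have hz : z = tP := by
      obtain ⟨k, hk⟩ := hzC
      have hk' : tP ^ k = z := hk
      have h := zpow_mod_orderOf tP k
      rw [htP2] at h
      have hk2 : k % ((2 : ℕ) : ℤ) = 0 ∨ k % ((2 : ℕ) : ℤ) = 1 := by omega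
      rcases hk2 with hk2 | hk2
      · exfalso; apply hz1; rw [← hk', ← h, hk2]; exact zpow_zero tP
      · rw [← hk', ← h, hk2]; exact zpow_one tP
    have htop : centralizer ({tP} : Set P) = ⊤ := by
      rw [eq_top_iff]
      intro x _
      rw [Subgroup.mem_centralizer_iff]
      intro y hy
      rw [Set.mem_singleton_iff] at hy
      subst hy
      rw [← hz]
      exact (Subgroup.mem_center_iff.mp hzc x).symm
    rw [htop, Subgroup.card_top, hP16] at hc2
    omega
  obtain ⟨M₀, hM₀idx, htM₀, hM₀ab⟩ := exists_abelian_maximal hP16 tP htP2 hCP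
  have hT8 : Nat.card (M₀.map P.subtype) = 8 := by
    rw [Subgroup.card_map_of_injective (Subgroup.subtype_injective P)]
    have := Subgroup.card_mul_index M₀
    rw [hM₀idx, hP16] at this
    omega
  have hM : ∀ M' : Subgroup G, M' ≤ (⊤ : Subgroup G) → M'.relIndex ⊤ = 2 → False := by
    intro M' _ h
    rw [Subgroup.relIndex_top_right] at h
    have hn := Subgroup.normal_of_index_eq_two h
    rcases hn.eq_bot_or_eq_top with rfl | rfl
    · rw [Subgroup.index_bot, hord] at h; omega
    · rw [Subgroup.index_top] at h; omega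
  have hSyl : ¬ 2 ∣ Nat.card (⊤ : Subgroup G) / Nat.card P := by
    rw [Subgroup.card_top, hord, hP16]; decide
  have hidx : (M₀.map P.subtype).relIndex P = 2 := by
    change ((M₀.map P.subtype).comap P.subtype).index = 2
    rw [Subgroup.comap_map_eq_self_of_injective (Subgroup.subtype_injective P)]
    exact hM₀idx
  have huT : t ∉ M₀.map P.subtype := by
    rintro ⟨x, hx, hxt⟩
    have hxe : x = tP := Subtype.ext (by rw [htPval]; exact hxt)
    exact htM₀ (hxe ▸ hx)
  obtain ⟨g, _, hgT⟩ := Cfsg.Agent.H56.Ord7920.thompson_in_subgroup (⊤ : Subgroup G) hM P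
    (M₀.map P.subtype) le_top hPp hSyl (Subgroup.map_subtype_le M₀) hidx t ht htP huT
  -- the conjugate of `T` by `g⁻¹` centralizes `t`
  have hTab : ∀ a ∈ M₀.map P.subtype, ∀ b ∈ M₀.map P.subtype, a * b = b * a := by
    rintro _ ⟨a, ha, rfl⟩ _ ⟨b, hb, rfl⟩
    rw [← map_mul, ← map_mul, hM₀ab a ha b hb]
  have hle : (M₀.map P.subtype).map (MulAut.conj g⁻¹).toMonoidHom ≤ centralizer ({t} : Set G) := by
    rintro _ ⟨y, hy, rfl⟩
    rw [Subgroup.mem_centralizer_iff]
    intro x hx
    rw [Set.mem_singleton_iff] at hx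
    subst hx
    have hcomm := hTab _ hgT y hy
    change x * (g⁻¹ * y * g⁻¹⁻¹) = g⁻¹ * y * g⁻¹⁻¹ * x
    rw [inv_inv]
    calc x * (g⁻¹ * y * g) = g⁻¹ * (g * x * g⁻¹ * y) * g := by group
      _ = g⁻¹ * (y * (g * x * g⁻¹)) * g := by rw [hcomm]
      _ = g⁻¹ * y * g * x := by group
  have hcard : Nat.card ((M₀.map P.subtype).map (MulAut.conj g⁻¹).toMonoidHom) = 8 := by
    rw [Subgroup.card_map_of_injective (MulEquiv.injective _), hT8]
  have hdvd := Subgroup.card_dvd_of_le hle
  rw [hcard, hH] at hdvd
  omega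

end Cfsg.Agent.H24.Ord7920
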