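import Cfsg.Agent.H83.PCDefs

/-!
# S3366 piece PC-TRANS: `PSp(4, ZMod 3) ≃* PSp(4, F)` for every field `F` with 3 elements
-/

set_option autoImplicit false

namespace Cfsg.Agent.H24.PC

open Cfsg Cfsg.Agent.H83.PC Matrix

universe v

section
variable {l : Type*} [DecidableEq l] [Fintype l] {R S : Type*} [CommRing R] [CommRing S]

omit [Fintype l] in
theorem J_map (e : R →+* S) : (J l R).map e = J l S := by
  unfold J
  rw [Matrix.fromBlocks_map]
  have h1 : (-1 : Matrix l l R).map e = -1 := by
    ext i j
    by_cases h : i = j <;> simp [h]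
  rw [h1]
  simp

theorem map_mem_symplectic (e : R →+* S) {A : Matrix (l ⊕ l) (l ⊕ l) R}
    (hA : A ∈ symplecticGroup l R) : A.map e ∈ symplecticGroup l S := by
  rw [SymplecticGroup.mem_iff] at hA ⊢
  rw [← J_map e, ← Matrix.transpose_map, ← Matrix.map_mul, ← Matrix.map_mul, hA]

/-- entrywise map on symplectic groups -/
def spMap (e : R →+* S) : symplecticGroup l R →* symplecticGroup l S where
  toFun A := ⟨A.1.map e, map_mem_symplectic e A.2⟩
  map_one' := by
    apply Subtype.ext
    show (1 : Matrix (l ⊕ l) (l ⊕ l) R).map e = 1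
    simp
  map_mul' A B := by
    apply Subtype.ext
    show (A.1 * B.1).map e = A.1.map e * B.1.map e
    exact Matrix.map_mul

/-- the isomorphism of symplectic groups induced by a ring isomorphism -/
def spEquiv (e : R ≃+* S) : symplecticGroup l R ≃* symplecticGroup l S where
  toFun := spMap (e : R →+* S)
  invFun := spMap (e.symm : S →+* R)
  left_inv A := by
    apply Subtype.ext
    show (A.1.map (e : R →+* S)).map (e.symm : S →+* R) = A.1
    ext i j
    simp
  right_inv A := by
    apply Subtype.ext
    show (A.1.map (e.symm : S →+* R)).map (e : R →+* S) = A.1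
    ext i j
    simp
  map_mul' := (spMap (e : R →+* S)).map_mul

end

/-- a group isomorphism maps the centre onto the centre -/
theorem map_center_equiv {G H : Type*} [Group G] [Group H] (φ : G ≃* H) :
    (Subgroup.center G).map (φ : G →* H) = Subgroup.center H := by
  ext y
  constructor
  · rintro ⟨x, hx, rfl⟩
    rw [Subgroup.mem_center_iff]
    intro h
    have hx' := Subgroup.mem_center_iff.mp hx (φ.symm h)
    have h1 : φ (φ.symm h * x) = φ (x * φ.symm h) := by rw [hx']
    simpa using h1
  · intro hy
    refine ⟨φ.symm y, Subgroup.mem_center_iff.mpr ?_, by simp⟩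
    intro g
    have hy' := Subgroup.mem_center_iff.mp hy (φ g)
    have h1 : φ.symm (φ g * y) = φ.symm (y * φ g) := by rw [hy']
    simpa using h1

/-- PC-TRANS. -/
theorem trans : StTrans.{v} := by
  intro F _ _ hF
  have e : ZMod 3 ≃+* F := ZMod.ringEquivOfPrime F (by norm_num) hF
  exact ⟨QuotientGroup.congr (Subgroup.center (symplecticGroup (Fin 2) (ZMod 3)))
    (Subgroup.center (symplecticGroup (Fin 2) F)) (spEquiv e) (map_center_equiv (spEquiv e))⟩

end Cfsg.Agent.H24.PC

universe w

example : Cfsg.Agent.H83.PC.StTrans.{w} := Cfsg.Agent.H24.PC.trans
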