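import Mathlib
import Cfsg.Agent.H52.SpDefs

/-!
# S2944 team project (helper52 / helper66): piece SP-GLPA

A central extension `f : Y → X'`, with kernel of odd order, of a group generated by independent
normal copies of `SL(2,2) ≅ S₃`: the elements of odd order of `Y` commute.

`P := ⟨u | f u is the square of an element of some E i⟩` is abelian (same `i`: the images are
powers of each other in the group of squares of `E i`, of order 3; different `i`, `j`: the
commutator `c` is central and is inverted by conjugation with a preimage of an involution of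
`E i`, so `c² = 1` and `c = 1` as the kernel has odd order), and it contains all elements of odd
order (the part on the squares in `⨆ E i` is copied from helper89's `Cfsg.Agent.H89.Sn.gla`).
-/

set_option autoImplicit false

namespace Cfsg.Agent.H24.Sp

open Cfsg.Agent.H52.Sn

universe u

theorem sl22_sq_cases : ∀ A B : Matrix.SpecialLinearGroup (Fin 2) (ZMod 2),
    A * A = 1 ∨ B * B = 1 ∨ B * B = A * A ∨ B * B = (A * A) * (A * A) := by decide

theorem sl22_inv : ∀ A : Matrix.SpecialLinearGroup (Fin 2) (ZMod 2),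
    ∃ B : Matrix.SpecialLinearGroup (Fin 2) (ZMod 2), B * (A * A) = (A * A)⁻¹ * B := by decide

/-- Commutators are insensitive to central factors. -/
theorem comm_central {Y : Type u} [Group Y] {a b z₁ z₂ : Y} (h₁ : ∀ g, z₁ * g = g * z₁)
    (h₂ : ∀ g, z₂ * g = g * z₂) :
    (a * z₁) * (b * z₂) * (a * z₁)⁻¹ * (b * z₂)⁻¹ = a * b * a⁻¹ * b⁻¹ := by
  have e1 : (a * z₁) * (b * z₂) * (a * z₁)⁻¹ = a * (z₁ * (b * z₂) * z₁⁻¹) * a⁻¹ := by group
  have e2 : z₁ * (b * z₂) * z₁⁻¹ = b * z₂ := by rw [h₁ (b * z₂), mul_inv_cancel_right]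
  have e3 : a * (b * z₂) * a⁻¹ = (a * b * a⁻¹) * (a * z₂ * a⁻¹) := by group
  have e4 : a * z₂ * a⁻¹ = z₂ := by rw [← h₂ a, mul_inv_cancel_right]
  rw [e1, e2, e3, e4]
  group

/-- In a group generated by independent subgroups `E i` normalized by `H = ⨆ E i`, the square of
every element of `H` lies in the subgroup generated by the squares of the elements of the `E i`
(copied from helper89's proof of SN-GLA). -/
theorem sq_mem_closure_sq {X : Type u} [Group X] {ι : Type u} (E : ι → Subgroup X)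
    (H : Subgroup X) (hN : ∀ i, H ≤ Subgroup.normalizer ((E i : Subgroup X) : Set X))
    (hind : iSupIndep E) (hsup : (⨆ i, E i) = H) :
    ∀ h ∈ H, h * h ∈ Subgroup.closure {s : X | ∃ i, ∃ e ∈ E i, s = e * e} := by
  have hEH : ∀ i, E i ≤ H := fun i => hsup ▸ le_iSup E i
  have hconj : ∀ i, ∀ h ∈ H, ∀ e ∈ E i, h * e * h⁻¹ ∈ E i := by
    intro i h hh e he
    exact (Subgroup.mem_normalizer_iff.mp (hN i hh) e).mp he
  have hcomm : ∀ i j, i ≠ j → ∀ a ∈ E i, ∀ b ∈ E j, a * b = b * a := by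
    intro i j hij a ha b hb
    have hd : Disjoint (E i) (E j) := hind.pairwiseDisjoint hij
    have h1 : a * b * a⁻¹ * b⁻¹ ∈ E i := by
      have h0 := hconj i b (hEH j hb) a⁻¹ ((E i).inv_mem ha)
      have e : a * b * a⁻¹ * b⁻¹ = a * (b * a⁻¹ * b⁻¹) := by group
      rw [e]
      exact (E i).mul_mem ha h0
    have h2 : a * b * a⁻¹ * b⁻¹ ∈ E j := by
      have h0 := hconj j a (hEH i ha) b hb
      exact (E j).mul_mem h0 ((E j).inv_mem hb)
    have h3 := Subgroup.disjoint_def.mp hd h1 h2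
    have e : a * b = (a * b * a⁻¹ * b⁻¹) * (b * a) := by group
    rw [e, h3, one_mul]
  obtain ⟨gens, hgens⟩ : ∃ gens : Set X, gens = {s : X | ∃ i, ∃ e ∈ E i, s = e * e} := ⟨_, rfl⟩
  obtain ⟨S, hSdef⟩ : ∃ S : Subgroup X, S = Subgroup.closure gens := ⟨_, rfl⟩
  rw [← hgens, ← hSdef]
  have hsq : ∀ i, ∀ e ∈ E i, e * e ∈ S := by
    intro i e he
    rw [hSdef]
    apply Subgroup.subset_closure
    rw [hgens]
    exact ⟨i, e, he, rfl⟩
  have hSn : ∀ h ∈ H, ∀ s ∈ S, h * s * h⁻¹ ∈ S := by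
    intro h hh s hs
    rw [hSdef] at hs
    induction hs using Subgroup.closure_induction with
    | mem s hs =>
      rw [hgens] at hs
      obtain ⟨i, e, he, rfl⟩ := hs
      have e1 : h * (e * e) * h⁻¹ = (h * e * h⁻¹) * (h * e * h⁻¹) := by group
      rw [e1]
      exact hsq i _ (hconj i h hh e he)
    | one =>
      have e1 : h * 1 * h⁻¹ = 1 := by group
      rw [e1]
      exact S.one_mem
    | mul a b _ _ ha hb =>
      have e1 : h * (a * b) * h⁻¹ = (h * a * h⁻¹) * (h * b * h⁻¹) := by group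
      rw [e1]
      exact S.mul_mem ha hb
    | inv a _ ha =>
      have e1 : h * a⁻¹ * h⁻¹ = (h * a * h⁻¹)⁻¹ := by group
      rw [e1]
      exact S.inv_mem ha
  have hD : ∀ i, ∀ e ∈ E i, ∀ g ∈ H, g * e * g⁻¹ * e⁻¹ ∈ S := by
    intro i e he g hg
    have key : g ∈ H ∧ g * e * g⁻¹ * e⁻¹ ∈ S := by
      rw [← hsup] at hg
      refine Subgroup.iSup_induction E (C := fun g => g ∈ H ∧ g * e * g⁻¹ * e⁻¹ ∈ S) hg ?_ ?_ ?_
      · intro j g hg
        refine ⟨hEH j hg, ?_⟩
        by_cases hij : j = i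
        · subst hij
          have e1 : g * e * g⁻¹ * e⁻¹
              = (g * e) * (g * e) * (e⁻¹ * (g⁻¹ * g⁻¹) * e⁻¹⁻¹) * (e⁻¹ * e⁻¹) := by group
          rw [e1]
          refine S.mul_mem (S.mul_mem (hsq j _ ((E j).mul_mem hg he)) ?_)
            (hsq j _ ((E j).inv_mem he))
          exact hSn e⁻¹ (H.inv_mem (hEH j he)) _ (hsq j _ ((E j).inv_mem hg))
        · have hc := hcomm j i hij g hg e he
          have e1 : g * e * g⁻¹ * e⁻¹ = 1 := by
            rw [hc]
            group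
          rw [e1]
          exact S.one_mem
      · refine ⟨H.one_mem, ?_⟩
        have e1 : (1 : X) * e * 1⁻¹ * e⁻¹ = 1 := by group
        rw [e1]
        exact S.one_mem
      · rintro g1 g2 ⟨hg1, h1⟩ ⟨hg2, h2⟩
        refine ⟨H.mul_mem hg1 hg2, ?_⟩
        have e1 : g1 * g2 * e * (g1 * g2)⁻¹ * e⁻¹
            = (g1 * (g2 * e * g2⁻¹ * e⁻¹) * g1⁻¹) * (g1 * e * g1⁻¹ * e⁻¹) := by group
        rw [e1]
        exact S.mul_mem (hSn g1 hg1 _ h2) h1
    exact key.2
  intro h hh
  have key : h ∈ H ∧ h * h ∈ S ∧ ∀ g ∈ H, g * h * g⁻¹ * h⁻¹ ∈ S := by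
    rw [← hsup] at hh
    refine Subgroup.iSup_induction E
      (C := fun h => h ∈ H ∧ h * h ∈ S ∧ ∀ g ∈ H, g * h * g⁻¹ * h⁻¹ ∈ S) hh ?_ ?_ ?_
    · intro i h hh
      exact ⟨hEH i hh, hsq i h hh, fun g hg => hD i h hh g hg⟩
    · refine ⟨H.one_mem, ?_, ?_⟩
      · rw [one_mul]
        exact S.one_mem
      · intro g _
        have e1 : g * 1 * g⁻¹ * (1 : X)⁻¹ = 1 := by group
        rw [e1]
        exact S.one_mem
    · rintro h1 h2 ⟨hh1, hs1, hc1⟩ ⟨hh2, hs2, hc2⟩
      refine ⟨H.mul_mem hh1 hh2, ?_, ?_⟩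
      · have e1 : h1 * h2 * (h1 * h2)
            = (h1 * (h2 * h1 * h2⁻¹ * h1⁻¹) * h1⁻¹) * (h1 * h1) * (h2 * h2) := by group
        rw [e1]
        exact S.mul_mem (S.mul_mem (hSn h1 hh1 _ (hc1 h2 hh2)) hs1) hs2
      · intro g hg
        have e1 : g * (h1 * h2) * g⁻¹ * (h1 * h2)⁻¹
            = (g * h1 * g⁻¹ * h1⁻¹) * (h1 * (g * h2 * g⁻¹ * h2⁻¹) * h1⁻¹) := by group
        rw [e1]
        exact S.mul_mem (hc1 g hg) (hSn h1 hh1 _ (hc2 g hg))
  exact key.2.1

/-- SP-GLPA. -/
theorem glpA : StGLPA.{u} := by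
  intro Y X' _ _ _ _ f ι E hZ hodd hN hiso hind hsup x y hxo hyo
  have hkc : ∀ z : Y, f z = 1 → ∀ w : Y, z * w = w * z :=
    fun z hz w => hZ z (MonoidHom.mem_ker.mpr hz) w
  rcases isEmpty_or_nonempty ι with hι | ⟨⟨i₀⟩⟩
  · have hr : f.range = ⊥ := by
      rw [← hsup]
      exact iSup_of_empty E
    have hx1 : f x = 1 := by
      have : f x ∈ f.range := ⟨x, rfl⟩
      rw [hr, Subgroup.mem_bot] at this
      exact this
    exact hkc x hx1 y
  have hEH : ∀ i, E i ≤ f.range := fun i => hsup ▸ le_iSup E i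
  have hconj : ∀ i, ∀ h ∈ f.range, ∀ e ∈ E i, h * e * h⁻¹ ∈ E i := by
    intro i h hh e he
    exact (Subgroup.mem_normalizer_iff.mp (hN i hh) e).mp he
  have hcomm : ∀ i j, i ≠ j → ∀ a ∈ E i, ∀ b ∈ E j, a * b = b * a := by
    intro i j hij a ha b hb
    have hd : Disjoint (E i) (E j) := hind.pairwiseDisjoint hij
    have h1 : a * b * a⁻¹ * b⁻¹ ∈ E i := by
      have h0 := hconj i b (hEH j hb) a⁻¹ ((E i).inv_mem ha)
      have e : a * b * a⁻¹ * b⁻¹ = a * (b * a⁻¹ * b⁻¹) := by group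
      rw [e]
      exact (E i).mul_mem ha h0
    have h2 : a * b * a⁻¹ * b⁻¹ ∈ E j := by
      have h0 := hconj j a (hEH i ha) b hb
      exact (E j).mul_mem h0 ((E j).inv_mem hb)
    have h3 := Subgroup.disjoint_def.mp hd h1 h2
    have e : a * b = (a * b * a⁻¹ * b⁻¹) * (b * a) := by group
    rw [e, h3, one_mul]
  -- an element of the kernel whose square is trivial is trivial
  have hk1 : ∀ c : Y, f c = 1 → c * c = 1 → c = 1 := by
    intro c hc hcc
    have hd2 : orderOf c ∣ 2 := orderOf_dvd_of_pow_eq_one (by rw [pow_two]; exact hcc)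
    have hdk : orderOf c ∣ Nat.card ↥f.ker :=
      Subgroup.orderOf_dvd_natCard f.ker (MonoidHom.mem_ker.mpr hc)
    rcases (Nat.dvd_prime Nat.prime_two).mp hd2 with h1 | h2
    · exact orderOf_eq_one_iff.mp h1
    · exfalso
      rw [h2] at hdk
      exact (Nat.not_even_iff_odd.mpr hodd) (even_iff_two_dvd.mpr hdk)
  -- if `f w = f (u ^ k)` then `u` and `w` commute
  have hpow : ∀ (u w : Y) (k : ℕ), f w = f (u ^ k) → u * w = w * u := by
    intro u w k hk
    have hz : f ((u ^ k)⁻¹ * w) = 1 := by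
      rw [map_mul, map_inv, hk, inv_mul_cancel]
    have hzc := hkc _ hz u
    have hw : w = u ^ k * ((u ^ k)⁻¹ * w) := by group
    have huk : u * u ^ k = u ^ k * u := (Commute.refl u).pow_right k |>.eq
    rw [hw, ← mul_assoc, huk, mul_assoc, mul_assoc, hzc]
  -- the subgroup `P`
  obtain ⟨gens', hgens'⟩ : ∃ gens' : Set Y, gens' = {u : Y | ∃ i, ∃ e ∈ E i, f u = e * e} :=
    ⟨_, rfl⟩
  obtain ⟨P, hPdef⟩ : ∃ P : Subgroup Y, P = Subgroup.closure gens' := ⟨_, rfl⟩
  have hgen : ∀ u ∈ gens', ∀ w ∈ gens', u * w = w * u := by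
    intro u hu w hw
    rw [hgens'] at hu hw
    obtain ⟨i, e, he, hfu⟩ := hu
    obtain ⟨j, e', he', hfw⟩ := hw
    by_cases hij : i = j
    · subst hij
      obtain ⟨φ⟩ := hiso i
      have tr : ∀ a b : ↥(E i), φ a = φ b → (a : X') = b := fun a b hab =>
        congrArg Subtype.val (φ.injective hab)
      rcases sl22_sq_cases (φ ⟨e, he⟩) (φ ⟨e', he'⟩) with h1 | h1 | h1 | h1
      · have h2 : e * e = 1 := by
          have := tr (⟨e, he⟩ * ⟨e, he⟩) 1 (by rw [map_mul, map_one]; exact h1)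
          simpa using this
        rw [h2] at hfu
        exact hkc u hfu w
      · have h2 : e' * e' = 1 := by
          have := tr (⟨e', he'⟩ * ⟨e', he'⟩) 1 (by rw [map_mul, map_one]; exact h1)
          simpa using this
        rw [h2] at hfw
        exact (hkc w hfw u).symm
      · have h2 : e' * e' = e * e := by
          have := tr (⟨e', he'⟩ * ⟨e', he'⟩) (⟨e, he⟩ * ⟨e, he⟩)
            (by rw [map_mul, map_mul]; exact h1)
          simpa using this
        apply hpow u w 1
        rw [pow_one, hfw, hfu, h2]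
      · have h2 : e' * e' = (e * e) * (e * e) := by
          have := tr (⟨e', he'⟩ * ⟨e', he'⟩) ((⟨e, he⟩ * ⟨e, he⟩) * (⟨e, he⟩ * ⟨e, he⟩))
            (by rw [map_mul, map_mul, map_mul]; exact h1)
          simpa using this
        apply hpow u w 2
        rw [pow_two, map_mul, hfw, hfu, h2]
    · -- different factors
      have hee : e * e ∈ E i := (E i).mul_mem he he
      have hee' : e' * e' ∈ E j := (E j).mul_mem he' he'
      obtain ⟨c, hcdef⟩ : ∃ c : Y, c = u * w * u⁻¹ * w⁻¹ := ⟨_, rfl⟩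
      have hfc : f c = 1 := by
        rw [hcdef, map_mul, map_mul, map_mul, map_inv, map_inv, hfu, hfw,
          hcomm i j hij _ hee _ hee']
        group
      obtain ⟨φ⟩ := hiso i
      obtain ⟨B, hB⟩ := sl22_inv (φ ⟨e, he⟩)
      obtain ⟨t, ht⟩ : ∃ t : ↥(E i), t = φ.symm B := ⟨_, rfl⟩
      have htB : φ t = B := by rw [ht]; exact φ.apply_symm_apply B
      have htinv : (t : X') * (e * e) = (e * e)⁻¹ * (t : X') := by
        have h1 : φ (t * (⟨e, he⟩ * ⟨e, he⟩)) = φ ((⟨e, he⟩ * ⟨e, he⟩)⁻¹ * t) := by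
          rw [map_mul, map_mul, map_mul, map_inv, map_mul, htB]
          exact hB
        have := congrArg Subtype.val (φ.injective h1)
        simpa using this
      obtain ⟨s, hs⟩ := hEH i t.2
      have htcomm : (t : X') * (e' * e') = (e' * e') * (t : X') :=
        hcomm i j hij _ t.2 _ hee'
      -- the central elements `z₁`, `z₂`
      have hz1 : f (u * (s * u * s⁻¹)) = 1 := by
        rw [map_mul, map_mul, map_mul, map_inv, hs, hfu, htinv]
        group
      have hz2 : f (w⁻¹ * (s * w * s⁻¹)) = 1 := by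
        rw [map_mul, map_mul, map_mul, map_inv, map_inv, hs, hfw, htcomm]
        group
      have e1 : s * c * s⁻¹ = (u⁻¹ * (u * (s * u * s⁻¹))) * (w * (w⁻¹ * (s * w * s⁻¹)))
          * (u⁻¹ * (u * (s * u * s⁻¹)))⁻¹ * (w * (w⁻¹ * (s * w * s⁻¹)))⁻¹ := by
        rw [hcdef]
        group
      rw [comm_central (hkc _ hz1) (hkc _ hz2)] at e1
      have e2 : s * c * s⁻¹ = c := by
        rw [← hkc c hfc s, mul_inv_cancel_right]
      have e3 : u⁻¹ * w * u⁻¹⁻¹ * w⁻¹ = u⁻¹ * c⁻¹ * u := by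
        rw [hcdef]
        group
      have hcinv : f c⁻¹ = 1 := by rw [map_inv, hfc, inv_one]
      have e4 : u⁻¹ * c⁻¹ * u = c⁻¹ := by
        rw [mul_assoc, hkc c⁻¹ hcinv u, inv_mul_cancel_left]
      rw [e2, e3, e4] at e1
      -- `c = c⁻¹`
      have hcc : c * c = 1 := by
        nth_rewrite 1 [e1]
        exact inv_mul_cancel c
      have hc1 := hk1 c hfc hcc
      rw [hcdef] at hc1
      have e5 : u * w = (u * w * u⁻¹ * w⁻¹) * (w * u) := by group
      rw [e5, hc1, one_mul]
  -- `P` is abelian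
  have hcent1 : ∀ g ∈ gens', P ≤ Subgroup.centralizer ({g} : Set Y) := by
    intro g hg
    rw [hPdef, Subgroup.closure_le]
    intro s hs
    rw [SetLike.mem_coe, Subgroup.mem_centralizer_iff]
    intro k hk
    rw [Set.mem_singleton_iff] at hk
    rw [hk]
    exact hgen g hg s hs
  have hPab : ∀ s ∈ P, ∀ s' ∈ P, s * s' = s' * s := by
    intro s hs s' hs'
    have h1 : P ≤ Subgroup.centralizer ({s} : Set Y) := by
      rw [hPdef, Subgroup.closure_le]
      intro g hg
      have h2 := hcent1 g hg hs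
      rw [Subgroup.mem_centralizer_iff] at h2
      rw [SetLike.mem_coe, Subgroup.mem_centralizer_iff]
      intro k hk
      rw [Set.mem_singleton_iff] at hk
      rw [hk]
      exact (h2 g rfl).symm
    have h3 := h1 hs'
    rw [Subgroup.mem_centralizer_iff] at h3
    exact h3 s rfl
  -- preimages of the subgroup generated by the squares lie in `P`
  have hSr : Subgroup.closure {s : X' | ∃ i, ∃ e ∈ E i, s = e * e} ≤ f.range := by
    rw [Subgroup.closure_le]
    rintro s ⟨i, e, he, rfl⟩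
    exact f.range.mul_mem (hEH i he) (hEH i he)
  have hSP : ∀ s ∈ Subgroup.closure {s : X' | ∃ i, ∃ e ∈ E i, s = e * e},
      ∀ v : Y, f v = s → v ∈ P := by
    intro s hs
    induction hs using Subgroup.closure_induction with
    | mem s hs =>
      intro v hv
      obtain ⟨i, e, he, rfl⟩ := hs
      rw [hPdef]
      apply Subgroup.subset_closure
      rw [hgens']
      exact ⟨i, e, he, hv⟩
    | one =>
      intro v hv
      rw [hPdef]
      apply Subgroup.subset_closure
      rw [hgens']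
      exact ⟨i₀, 1, (E i₀).one_mem, by rw [hv, one_mul]⟩
    | mul a b ha hb iha ihb =>
      intro v hv
      obtain ⟨va, hva⟩ := hSr ha
      have h1 : va ∈ P := iha va hva
      have h2 : va⁻¹ * v ∈ P := by
        apply ihb
        rw [map_mul, map_inv, hva, hv, inv_mul_cancel_left]
      have e : v = va * (va⁻¹ * v) := by group
      rw [e]
      exact P.mul_mem h1 h2
    | inv a ha iha =>
      intro v hv
      have h1 : v⁻¹ ∈ P := by
        apply iha
        rw [map_inv, hv, inv_inv]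
      exact (Subgroup.inv_mem_iff P).mp h1
  have hsqr := sq_mem_closure_sq E f.range hN hind hsup
  -- elements of odd order are powers of their squares
  have hoddP : ∀ z : Y, Odd (orderOf z) → z ∈ P := by
    intro z ho
    obtain ⟨m, hm⟩ := ho
    have e1 : z = (z * z) ^ (m + 1) := by
      rw [← pow_two, ← pow_mul]
      have e2 : 2 * (m + 1) = orderOf z + 1 := by omega
      rw [e2, pow_succ, pow_orderOf_eq_one, one_mul]
    rw [e1]
    apply P.pow_mem
    apply hSP (f z * f z) (hsqr (f z) ⟨z, rfl⟩)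
    rw [map_mul]
  exact hPab x (hoddP x hxo) y (hoddP y hyo)

example : Cfsg.Agent.H52.Sn.StGLPA.{u} := glpA

end Cfsg.Agent.H24.Sp
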