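import Mathlib
import Cfsg.Agent.H97.SuRDefs
import Cfsg.Agent.H45.SLGen

set_option autoImplicit false

/-!
# S2282-COHC (team project of helper97): a cocycle vanishing on the transvections vanishes;
a cocycle of `SL_2` vanishing on the diagonal matrices vanishes (odd characteristic)
-/

namespace Cfsg.Agent.H24.SuR

open Matrix Cfsg.Agent.H45.U Cfsg.Agent.H97.SuR

variable {F : Type*} [Field F]

theorem coc_one {k : ℕ}
    (s : Matrix.SpecialLinearGroup (Fin k) F → Matrix (Fin k) (Fin 1) F) (hs : Coc s) :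
    s 1 = 0 := by
  have h := hs 1 1
  rw [mul_one, inv_one, Matrix.SpecialLinearGroup.coe_one, Matrix.one_mul] at h
  exact left_eq_add.mp h

theorem coc_inv {k : ℕ}
    (s : Matrix.SpecialLinearGroup (Fin k) F → Matrix (Fin k) (Fin 1) F) (hs : Coc s)
    (g : Matrix.SpecialLinearGroup (Fin k) F) (hg : s g = 0) : s g⁻¹ = 0 := by
  have h := hs g g⁻¹
  rw [mul_inv_cancel, coc_one s hs, hg, Matrix.mul_zero, zero_add] at h
  exact h.symm

theorem coh_gen {k : ℕ}
    (s : Matrix.SpecialLinearGroup (Fin k) F → Matrix (Fin k) (Fin 1) F) (hs : Coc s)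
    (htr : ∀ (i j : Fin k) (hij : i ≠ j) (a : F),
      s (Matrix.SpecialLinearGroup.transvection hij a) = 0) :
    ∀ g : Matrix.SpecialLinearGroup (Fin k) F, s g = 0 := by
  intro g
  have hg : g ∈ Cfsg.Agent.H45.elemSubgroup (Fin k) F := by
    rw [Cfsg.Agent.H45.elemSubgroup_eq_top]
    exact Subgroup.mem_top g
  unfold Cfsg.Agent.H45.elemSubgroup at hg
  induction hg using Subgroup.closure_induction with
  | mem x hx =>
    obtain ⟨i, j, hij, c, rfl⟩ := hx
    exact htr i j hij c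
  | one => exact coc_one s hs
  | mul x y _ _ hx hy =>
    rw [hs x y, hx, hy, Matrix.mul_zero, add_zero]
  | inv x _ hx => exact coc_inv s hs x hx

theorem coh_two (h2 : (2 : F) ≠ 0)
    (s : Matrix.SpecialLinearGroup (Fin 2) F → Matrix (Fin 2) (Fin 1) F) (hs : Coc s)
    (hdiag : ∀ g : Matrix.SpecialLinearGroup (Fin 2) F, IsDiag g → s g = 0) :
    ∀ g : Matrix.SpecialLinearGroup (Fin 2) F, s g = 0 := by
  intro g
  have hz : s (-1 : Matrix.SpecialLinearGroup (Fin 2) F) = 0 := by
    apply hdiag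
    intro i j hij
    rw [Matrix.SpecialLinearGroup.coe_neg, Matrix.SpecialLinearGroup.coe_one, Matrix.neg_apply,
      Matrix.one_apply_ne hij, neg_zero]
  have hzinv : ((-1 : Matrix.SpecialLinearGroup (Fin 2) F))⁻¹ = -1 := by
    apply inv_eq_of_mul_eq_one_right
    rw [neg_mul_neg, mul_one]
  have h1 := hs (-1) g
  have h3 := hs g (-1)
  rw [hz, Matrix.mul_zero, zero_add] at h1
  rw [hz, add_zero, hzinv, Matrix.SpecialLinearGroup.coe_neg, Matrix.SpecialLinearGroup.coe_one,
    Matrix.neg_mul, Matrix.one_mul] at h3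
  have hcomm : (-1 : Matrix.SpecialLinearGroup (Fin 2) F) * g = g * -1 := by
    rw [neg_mul, mul_neg, one_mul, mul_one]
  rw [hcomm, h3] at h1
  -- `- s g = s g`
  have h4 : (2 : F) • s g = 0 := by
    rw [two_smul]
    nth_rewrite 1 [← h1]
    exact neg_add_cancel _
  rcases smul_eq_zero.mp h4 with h5 | h5
  · exact absurd h5 h2
  · exact h5

example {k : ℕ}
    (s : Matrix.SpecialLinearGroup (Fin k) F → Matrix (Fin k) (Fin 1) F) (hs : Coc s)
    (htr : ∀ (i j : Fin k) (hij : i ≠ j) (a : F),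
      s (Matrix.SpecialLinearGroup.transvection hij a) = 0) :
    ∀ g : Matrix.SpecialLinearGroup (Fin k) F, s g = 0 := coh_gen s hs htr

example (h2 : (2 : F) ≠ 0)
    (s : Matrix.SpecialLinearGroup (Fin 2) F → Matrix (Fin 2) (Fin 1) F) (hs : Coc s)
    (hdiag : ∀ g : Matrix.SpecialLinearGroup (Fin 2) F, IsDiag g → s g = 0) :
    ∀ g : Matrix.SpecialLinearGroup (Fin 2) F, s g = 0 := coh_two h2 s hs hdiag

end Cfsg.Agent.H24.SuR
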