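import Mathlib
import Cfsg.Agent.H97.SuRDefs

set_option autoImplicit false

/-!
# S2282-IRR2 (team project of helper97): irreducibility of the group generated by two opposite
elementary matrices on `F ^ 2` when the product of the parameters generates the finite field `F`
-/

namespace Cfsg.Agent.H24.SuR

open Matrix Cfsg.Agent.H45.U Cfsg.Agent.H97.SuR

variable {F : Type*} [Field F]

/-- The column vector `(x, y)`. -/
def col2 (x y : F) : Matrix (Fin 2) (Fin 1) F := Matrix.of ![![x], ![y]]

theorem col2_eta (c : Matrix (Fin 2) (Fin 1) F) : c = col2 (c 0 0) (c 1 0) := by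
  ext i j
  fin_cases i <;> fin_cases j <;> simp [col2]

theorem col2_add (x y x' y' : F) : col2 x y + col2 x' y' = col2 (x + x') (y + y') := by
  ext i j
  fin_cases i <;> fin_cases j <;> simp [col2]

theorem col2_neg (x y : F) : -col2 x y = col2 (-x) (-y) := by
  ext i j
  fin_cases i <;> fin_cases j <;> simp [col2]

theorem col2_apply_zero (x y : F) : col2 x y 0 0 = x := by
  simp [col2]

theorem col2_apply_one (x y : F) : col2 x y 1 0 = y := by
  simp [col2]

theorem single01_mul (a : F) (c : Matrix (Fin 2) (Fin 1) F) :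
    Matrix.single (0 : Fin 2) (1 : Fin 2) a * c = col2 (a * c 1 0) 0 := by
  ext i j
  fin_cases i <;> fin_cases j <;>
    simp [col2, Matrix.mul_apply, Fin.sum_univ_two, Matrix.single_apply]

theorem single10_mul (b : F) (c : Matrix (Fin 2) (Fin 1) F) :
    Matrix.single (1 : Fin 2) (0 : Fin 2) b * c = col2 0 (b * c 0 0) := by
  ext i j
  fin_cases i <;> fin_cases j <;>
    simp [col2, Matrix.mul_apply, Fin.sum_univ_two, Matrix.single_apply]

theorem irr_two [Fintype F] (X : AddSubgroup (Matrix (Fin 2) (Fin 1) F)) (a b : F)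
    (ha : a ≠ 0) (hb : b ≠ 0) (hgen : Subfield.closure ({a * b} : Set F) = ⊤)
    (h1 : ∀ c ∈ X, (1 + Matrix.single (0 : Fin 2) (1 : Fin 2) a : Matrix (Fin 2) (Fin 2) F) * c ∈ X)
    (h2 : ∀ c ∈ X, (1 + Matrix.single (1 : Fin 2) (0 : Fin 2) b : Matrix (Fin 2) (Fin 2) F) * c ∈ X)
    (hne : ∃ c ∈ X, c ≠ 0) : ∀ c, c ∈ X := by
  have k1 : ∀ c ∈ X, col2 (a * c 1 0) 0 ∈ X := by
    intro c hc
    have h := X.sub_mem (h1 c hc) hc
    rw [Matrix.add_mul, Matrix.one_mul, add_sub_cancel_left, single01_mul] at h
    exact h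
  have k2 : ∀ c ∈ X, col2 0 (b * c 0 0) ∈ X := by
    intro c hc
    have h := X.sub_mem (h2 c hc) hc
    rw [Matrix.add_mul, Matrix.one_mul, add_sub_cancel_left, single10_mul] at h
    exact h
  have hA : ∀ x, col2 x 0 ∈ X → col2 (a * b * x) 0 ∈ X := by
    intro x hx
    have h3 := k2 _ hx
    have h4 := k1 _ h3
    rw [col2_apply_zero] at h3
    rw [col2_apply_one, ← mul_assoc] at h4
    exact h4
  have hR : ∀ r : F, ∀ x, col2 x 0 ∈ X → col2 (r * x) 0 ∈ X := by
    intro r
    have hr : r ∈ Subfield.closure ({a * b} : Set F) := by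
      rw [hgen]
      exact Subfield.mem_top r
    induction hr using Subfield.closure_induction with
    | mem y hy =>
      rw [Set.mem_singleton_iff] at hy
      subst hy
      exact hA
    | one =>
      intro x hx
      rwa [one_mul]
    | add y z _ _ hy hz =>
      intro x hx
      have h := X.add_mem (hy x hx) (hz x hx)
      rw [col2_add, add_zero, ← add_mul] at h
      exact h
    | neg y _ hy =>
      intro x hx
      have h := X.neg_mem (hy x hx)
      rw [col2_neg, neg_zero, ← neg_mul] at h
      exact h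
    | inv y _ hy =>
      intro x hx
      by_cases hy0 : y = 0
      · subst hy0
        rw [_root_.inv_zero]
        exact hy x hx
      · have hpow : ∀ n : ℕ, ∀ x, col2 x 0 ∈ X → col2 (y ^ n * x) 0 ∈ X := by
          intro n
          induction n with
          | zero =>
            intro x hx
            rwa [pow_zero, one_mul]
          | succ n ih =>
            intro x hx
            rw [pow_succ, mul_assoc]
            exact ih _ (hy x hx)
        have hcard : 2 ≤ Fintype.card F := Fintype.one_lt_card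
        have hinv : y⁻¹ = y ^ (Fintype.card F - 2) := by
          apply inv_eq_of_mul_eq_one_right
          rw [← pow_succ']
          have h3 : Fintype.card F - 2 + 1 = Fintype.card F - 1 := by omega
          rw [h3]
          exact FiniteField.pow_card_sub_one_eq_one y hy0
        rw [hinv]
        exact hpow _ x hx
    | mul y z _ _ hy hz =>
      intro x hx
      rw [mul_assoc]
      exact hy _ (hz x hx)
  obtain ⟨c, hc, hc0⟩ := hne
  have hx0 : ∃ x₀ : F, x₀ ≠ 0 ∧ col2 x₀ 0 ∈ X := by
    by_cases hy : c 1 0 = 0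
    · refine ⟨c 0 0, ?_, ?_⟩
      · intro h0
        apply hc0
        rw [col2_eta c, h0, hy]
        ext i j
        fin_cases i <;> fin_cases j <;> simp [col2]
      · have h := col2_eta c
        rw [hy] at h
        rw [← h]
        exact hc
    · exact ⟨a * c 1 0, mul_ne_zero ha hy, k1 c hc⟩
  obtain ⟨x₀, hx₀, hx₀X⟩ := hx0
  have hAll : ∀ x, col2 x 0 ∈ X := by
    intro x
    have h := hR (x / x₀) x₀ hx₀X
    rwa [div_mul_cancel₀ x hx₀] at h
  have hBll : ∀ y, col2 0 y ∈ X := by
    intro y
    have h := k2 _ (hAll (y / b))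
    rw [col2_apply_zero, mul_div_cancel₀ y hb] at h
    exact h
  intro c
  rw [col2_eta c]
  have h := X.add_mem (hAll (c 0 0)) (hBll (c 1 0))
  rw [col2_add, add_zero, zero_add] at h
  exact h

example [Fintype F] (X : AddSubgroup (Matrix (Fin 2) (Fin 1) F)) (a b : F)
    (ha : a ≠ 0) (hb : b ≠ 0) (hgen : Subfield.closure ({a * b} : Set F) = ⊤)
    (h1 : ∀ c ∈ X, (1 + Matrix.single (0 : Fin 2) (1 : Fin 2) a : Matrix (Fin 2) (Fin 2) F) * c ∈ X)
    (h2 : ∀ c ∈ X, (1 + Matrix.single (1 : Fin 2) (0 : Fin 2) b : Matrix (Fin 2) (Fin 2) F) * c ∈ X)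
    (hne : ∃ c ∈ X, c ≠ 0) : ∀ c, c ∈ X := irr_two X a b ha hb hgen h1 h2 hne

end Cfsg.Agent.H24.SuR
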