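import Mathlib
import Cfsg.Agent.H97.SuRDefs
import Cfsg.Agent.H24.SuRIrr2

set_option autoImplicit false

/-!
# S2282-DATA2E (team project of helper97): the data `M`, `M'`, `J₂` for `k = 2`, with both
irreducibility statements
-/

namespace Cfsg.Agent.H24.SuR

open Matrix Cfsg.Agent.H45.U Cfsg.Agent.H97.SuR

variable {F : Type*} [Field F]

theorem closure_gen_eq_top (t : Fˣ) (ht : ∀ x : Fˣ, x ∈ Subgroup.zpowers t) :
    Subfield.closure ({(t : F)} : Set F) = ⊤ := by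
  rw [eq_top_iff]
  intro x _
  by_cases hx : x = 0
  · subst hx
    exact zero_mem _
  · obtain ⟨n, hn⟩ := Subgroup.mem_zpowers_iff.mp (ht (Units.mk0 x hx))
    have h1 : x = (t : F) ^ n := by
      have h := congrArg (fun u : Fˣ => (u : F)) hn
      simp only [Units.val_zpow_eq_zpow_val, Units.val_mk0] at h
      exact h.symm
    rw [h1]
    exact zpow_mem (Subfield.subset_closure (Set.mem_singleton _)) n

theorem closure_sigma_gen_eq_top (σ : F →+* F) (hσ : ∀ a, σ (σ a) = a) (t : Fˣ)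
    (ht : ∀ x : Fˣ, x ∈ Subgroup.zpowers t) :
    Subfield.closure ({σ (t : F)} : Set F) = ⊤ := by
  rw [eq_top_iff]
  intro x _
  by_cases hx : x = 0
  · subst hx
    exact zero_mem _
  · have hsx : σ x ≠ 0 := by
      intro h
      apply hx
      rw [← hσ x, h, map_zero]
    obtain ⟨n, hn⟩ := Subgroup.mem_zpowers_iff.mp (ht (Units.mk0 (σ x) hsx))
    have h1 : σ x = (t : F) ^ n := by
      have h := congrArg (fun u : Fˣ => (u : F)) hn
      simp only [Units.val_zpow_eq_zpow_val, Units.val_mk0] at h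
      exact h.symm
    have h2 : x = (σ (t : F)) ^ n := by
      rw [← hσ x, h1, map_zpow₀]
    rw [h2]
    exact zpow_mem (Subfield.subset_closure (Set.mem_singleton _)) n

theorem uniM_two : Cfsg.Agent.H97.SpR.uniM 2 (1 : F) = !![1, 1; 0, 1] := by
  ext i j
  fin_cases i <;> fin_cases j <;> simp [Cfsg.Agent.H97.SpR.uniM_apply]

theorem uniSL_two_coe :
    ((Cfsg.Agent.H97.SpR.uniSL 2 (1 : F) : Matrix.SpecialLinearGroup (Fin 2) F) :
      Matrix (Fin 2) (Fin 2) F) = 1 + Matrix.single (0 : Fin 2) (1 : Fin 2) (1 : F) := by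
  rw [Cfsg.Agent.H97.SpR.uniSL_coe]
  ext i j
  fin_cases i <;> fin_cases j <;>
    simp [Cfsg.Agent.H97.SpR.uniM_apply, Matrix.single_apply, Matrix.one_apply]

theorem ct_uniSL_two_inv (σ : F →+* F) :
    ct σ (((Cfsg.Agent.H97.SpR.uniSL 2 (1 : F))⁻¹ : Matrix.SpecialLinearGroup (Fin 2) F) :
      Matrix (Fin 2) (Fin 2) F) = 1 + Matrix.single (1 : Fin 2) (0 : Fin 2) (-1 : F) := by
  rw [Matrix.SpecialLinearGroup.coe_inv, Cfsg.Agent.H97.SpR.uniSL_coe]
  ext i j
  fin_cases i <;> fin_cases j <;>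
    simp [ct_apply, Matrix.adjugate_fin_two, Cfsg.Agent.H97.SpR.uniM_apply, Matrix.single_apply,
      Matrix.one_apply]

theorem data_two_even [Fintype F] (σ : F →+* F) (hσ : ∀ a, σ (σ a) = a) (h2 : (2 : F) = 0) :
    ∃ (M M' : Matrix (Fin 2) (Fin 2) F) (J₂ : Matrix.SpecialLinearGroup (Fin 2) F),
      M * M' = 1 ∧ M' * M = 1 ∧
      (J₂ : Matrix (Fin 2) (Fin 2) F) = M * Cfsg.Agent.H97.SpR.uniM 2 (1 : F) * M' ∧
      IrrU ({Cfsg.Agent.H97.SpR.uniSL 2 (1 : F), J₂} : Set (Matrix.SpecialLinearGroup (Fin 2) F)) ∧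
      IrrL σ ({Cfsg.Agent.H97.SpR.uniSL 2 (1 : F), J₂} :
        Set (Matrix.SpecialLinearGroup (Fin 2) F)) := by
  obtain ⟨t, ht⟩ := IsCyclic.exists_generator (α := Fˣ)
  have ht0 : (t : F) ≠ 0 := t.ne_zero
  have hdet : (!![1, 0; (t : F), 1] : Matrix (Fin 2) (Fin 2) F).det = 1 := by
    simp [Matrix.det_fin_two]
  have hJ : (!![1, 0; (t : F), 1] : Matrix (Fin 2) (Fin 2) F) =
      1 + Matrix.single (1 : Fin 2) (0 : Fin 2) (t : F) := by
    ext i j
    fin_cases i <;> fin_cases j <;> simp [Matrix.single_apply, Matrix.one_apply]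
  obtain ⟨J₂, hJ₂⟩ : ∃ J₂ : Matrix.SpecialLinearGroup (Fin 2) F,
      (J₂ : Matrix (Fin 2) (Fin 2) F) = !![1, 0; (t : F), 1] := ⟨⟨_, hdet⟩, rfl⟩
  have hJinv : ct σ ((J₂⁻¹ : Matrix.SpecialLinearGroup (Fin 2) F) : Matrix (Fin 2) (Fin 2) F) =
      1 + Matrix.single (0 : Fin 2) (1 : Fin 2) (-σ (t : F)) := by
    rw [Matrix.SpecialLinearGroup.coe_inv, hJ₂]
    ext i j
    fin_cases i <;> fin_cases j <;>
      simp [ct_apply, Matrix.adjugate_fin_two, Matrix.single_apply, Matrix.one_apply]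
  refine ⟨!![0, 1; (t : F), 0], !![0, (t : F)⁻¹; 1, 0], J₂, ?_, ?_, ?_, ?_, ?_⟩
  · ext i j
    fin_cases i <;> fin_cases j <;> simp [Matrix.mul_apply, Fin.sum_univ_two, ht0]
  · ext i j
    fin_cases i <;> fin_cases j <;> simp [Matrix.mul_apply, Fin.sum_univ_two, ht0]
  · rw [uniM_two, hJ₂]
    ext i j
    fin_cases i <;> fin_cases j <;> simp [Matrix.mul_apply, Fin.sum_univ_two, ht0]
  · intro X hX hne
    refine irr_two X 1 (t : F) one_ne_zero ht0 ?_ ?_ ?_ hne
    · rw [one_mul]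
      exact closure_gen_eq_top t ht
    · intro c hc
      have h := hX _ (Set.mem_insert _ _) c hc
      rw [uniSL_two_coe] at h
      exact h
    · intro c hc
      have h := hX _ (Set.mem_insert_of_mem _ (Set.mem_singleton _)) c hc
      rw [hJ₂, hJ] at h
      exact h
  · intro X hX hne
    refine irr_two X (-σ (t : F)) (-1) ?_ ?_ ?_ ?_ ?_ hne
    · rw [neg_ne_zero]
      intro h
      apply ht0
      rw [← hσ (t : F), h, map_zero]
    · exact neg_ne_zero.mpr one_ne_zero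
    · rw [neg_mul_neg, mul_one]
      exact closure_sigma_gen_eq_top σ hσ t ht
    · intro c hc
      have h := hX _ (Set.mem_insert_of_mem _ (Set.mem_singleton _)) c hc
      rw [hJinv] at h
      exact h
    · intro c hc
      have h := hX _ (Set.mem_insert _ _) c hc
      rw [ct_uniSL_two_inv] at h
      exact h

example [Fintype F] (σ : F →+* F) (hσ : ∀ a, σ (σ a) = a) (h2 : (2 : F) = 0) :
    ∃ (M M' : Matrix (Fin 2) (Fin 2) F) (J₂ : Matrix.SpecialLinearGroup (Fin 2) F),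
      M * M' = 1 ∧ M' * M = 1 ∧
      (J₂ : Matrix (Fin 2) (Fin 2) F) = M * Cfsg.Agent.H97.SpR.uniM 2 (1 : F) * M' ∧
      IrrU ({Cfsg.Agent.H97.SpR.uniSL 2 (1 : F), J₂} : Set (Matrix.SpecialLinearGroup (Fin 2) F)) ∧
      IrrL σ ({Cfsg.Agent.H97.SpR.uniSL 2 (1 : F), J₂} :
        Set (Matrix.SpecialLinearGroup (Fin 2) F)) := data_two_even σ hσ h2

end Cfsg.Agent.H24.SuR
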