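import Mathlib
import Cfsg.Agent.H51.SyDefs
import Cfsg.Agent.H25.SxSylJ
import Cfsg.Agent.H14.Thompson

set_option autoImplicit false

/-!
SY-IFCHAR (helper24, parallel take for helper51: S2949): inside `↥L` (`T` Sylow in `L`), the
normalizer of a subgroup `S` between `J(T)` and `T` normalizes `J(T)`.

`S' := S.map L.subtype` has `J(S') = J(T)` (helper25's `sylJ`), and conjugation by an element
normalizing `S'` fixes `J(S')` (helper14's `thompsonSubgroupOf_conj`).
-/

namespace Cfsg.Agent.H24.Sy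

open Cfsg

universe u

theorem ifChar : Cfsg.Agent.H51.Sy.StIfChar.{u} := by
  intro G _ _ T L hTL S hJS hST
  obtain ⟨hTle, hT2, -⟩ := id hTL
  have hJT : thompsonSubgroupOf 2 T ≤ T := Cfsg.Agent.H14.thompsonSubgroupOf_le 2 T
  have hJL : thompsonSubgroupOf 2 T ≤ L := hJT.trans hTle
  have hS'T : S.map L.subtype ≤ T := by
    have h := Subgroup.map_mono (f := L.subtype) hST
    rwa [Subgroup.map_subgroupOf_eq_of_le hTle] at h
  have hJS' : thompsonSubgroupOf 2 T ≤ S.map L.subtype := by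
    have h := Subgroup.map_mono (f := L.subtype) hJS
    rwa [Subgroup.map_subgroupOf_eq_of_le hJL] at h
  have hJeq : thompsonSubgroupOf 2 (S.map L.subtype) = thompsonSubgroupOf 2 T :=
    Cfsg.Agent.H25.Sx.sylJ T L (S.map L.subtype) hTL (Subgroup.map_subtype_le _)
      (hT2.to_le hS'T) hJS'
  intro n hn
  rw [Subgroup.mem_normalizer_iff] at hn
  have hconj : (S.map L.subtype).map (MulAut.conj (n : G)).toMonoidHom = S.map L.subtype := by
    ext g
    constructor
    · rintro ⟨_, ⟨y, hy, rfl⟩, rfl⟩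
      exact ⟨n * y * n⁻¹, (hn y).mp hy, by simp⟩
    · rintro ⟨y, hy, rfl⟩
      refine ⟨((n⁻¹ * y * n : ↥L) : G), ⟨n⁻¹ * y * n, ?_, rfl⟩, ?_⟩
      · refine (hn (n⁻¹ * y * n)).mpr ?_
        have e : n * (n⁻¹ * y * n) * n⁻¹ = y := by group
        rw [e]; exact hy
      · simp [mul_assoc]
  have hJconj : (thompsonSubgroupOf 2 T).map (MulAut.conj (n : G)).toMonoidHom =
      thompsonSubgroupOf 2 T := by
    rw [← hJeq, Cfsg.Agent.H14.thompsonSubgroupOf_conj, hconj]
  rw [Subgroup.mem_normalizer_iff]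
  intro y
  rw [Subgroup.mem_subgroupOf, Subgroup.mem_subgroupOf]
  constructor
  · intro hy
    have h : (n : G) * y * (n : G)⁻¹ ∈
        (thompsonSubgroupOf 2 T).map (MulAut.conj (n : G)).toMonoidHom := ⟨y, hy, by simp⟩
    rw [hJconj] at h
    simpa using h
  · intro hy
    have hy' : ((n * y * n⁻¹ : ↥L) : G) ∈
        (thompsonSubgroupOf 2 T).map (MulAut.conj (n : G)).toMonoidHom := by
      rw [hJconj]; exact hy
    obtain ⟨z, hz, hzy⟩ := hy'
    have hzy' : z = (y : G) := by
      have h1 : (n : G) * z * (n : G)⁻¹ = (n : G) * y * (n : G)⁻¹ := by simpa using hzy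
      exact mul_left_cancel (mul_right_cancel h1)
    rw [← hzy']; exact hz

example : ∀ {G : Type u} [Group G] [Finite G] (T L : Subgroup G),
  IsSylowTwoIn T L →
  ∀ S : Subgroup ↥L, (thompsonSubgroupOf 2 T).subgroupOf L ≤ S → S ≤ T.subgroupOf L →
    Subgroup.normalizer (S : Set ↥L) ≤
      Subgroup.normalizer (((thompsonSubgroupOf 2 T).subgroupOf L : Subgroup ↥L) : Set ↥L) :=
  ifChar

end Cfsg.Agent.H24.Sy
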