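import Mathlib
import Cfsg.Agent.H36.TihDefs
import Cfsg.Agent.H1.CoprimeSylow

set_option autoImplicit false

/-!
# S4151-R1A: a solvable group acting coprimely and nontrivially on a normal subgroup `O`
does not centralize some invariant subgroup of prime power order of `O`
-/

namespace Cfsg.Agent.H24.Tih

universe u

theorem stR1a : Cfsg.Agent.H36.Tih.StR1a.{u} := by
  intro G _ _ O A hO hcop hsolv hne
  by_contra hcon
  have key : ∀ (r : ℕ) (R : Subgroup G), r.Prime → IsPGroup r R → R ≤ O →
      (∀ a ∈ A, ∀ x ∈ R, a * x * a⁻¹ ∈ R) → ∀ x ∈ R, ∀ a ∈ A, x * a = a * x := by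
    intro r R hr hR hRO hinv
    by_contra h
    exact hcon ⟨r, R, hr, hR, hRO, hinv, h⟩
  apply hne
  have hAO : A ≤ Subgroup.normalizer (O : Set G) := by
    intro a _
    rw [Subgroup.mem_normalizer_iff]
    intro g
    constructor
    · exact fun hg => hO.conj_mem g hg a
    · intro hg
      have h1 := hO.conj_mem _ hg a⁻¹
      have h2 : a⁻¹ * (a * g * a⁻¹) * a⁻¹⁻¹ = g := by group
      rw [h2] at h1
      exact h1
  -- the fixed points contain a Sylow `r`-subgroup of `O` for every prime `r`
  have hdvd : Nat.card O ∣ Nat.card ↥(O ⊓ Subgroup.centralizer (A : Set G)) := by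
    rw [← Nat.factorization_prime_le_iff_dvd Nat.card_pos.ne' Nat.card_pos.ne']
    intro r hr
    have : Fact r.Prime := ⟨hr⟩
    obtain ⟨X, hXO, hXc, hXA⟩ :=
      Cfsg.Agent.H1.coprime_exists_invariant_sylow_aux A O hAO hcop (Or.inl hsolv) r
    have hXr : IsPGroup r X := IsPGroup.of_card hXc
    have hinv : ∀ a ∈ A, ∀ x ∈ X, a * x * a⁻¹ ∈ X := by
      intro a ha x hx
      exact (Subgroup.mem_normalizer_iff.mp (hXA ha) x).mp hx
    have hcent := key r X hr hXr hXO hinv
    have hXC : X ≤ O ⊓ Subgroup.centralizer (A : Set G) := by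
      intro x hx
      have hxc : x ∈ Subgroup.centralizer (A : Set G) := by
        rw [Subgroup.mem_centralizer_iff]
        intro a ha
        exact (hcent x hx a ha).symm
      exact ⟨hXO hx, hxc⟩
    have h1 : r ^ (Nat.card O).factorization r ∣
        Nat.card ↥(O ⊓ Subgroup.centralizer (A : Set G)) := by
      rw [← hXc]
      exact Subgroup.card_dvd_of_le hXC
    exact (hr.pow_dvd_iff_le_factorization Nat.card_pos.ne').mp h1
  have heq : O ⊓ Subgroup.centralizer (A : Set G) = O :=
    Subgroup.eq_of_le_of_card_ge inf_le_left (Nat.le_of_dvd Nat.card_pos hdvd)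
  intro x hx a ha
  have hx' : x ∈ O ⊓ Subgroup.centralizer (A : Set G) := by rw [heq]; exact hx
  exact ((Subgroup.mem_centralizer_iff.mp hx'.2) a ha).symm

end Cfsg.Agent.H24.Tih
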