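import Mathlib
import Cfsg.Agent.H36.TihDefs

set_option autoImplicit false

/-!
# S4151-R5: a `Q`-invariant Sylow `p`-subgroup `P = [P, Q]` of a Z-group `H` is normal in `H`
-/

namespace Cfsg.Agent.H24.Tih

universe u

/-- Conjugation by an element normalizing a cyclic subgroup is a power map on it. -/
theorem conj_eq_zpow_of_cyclic {G : Type*} [Group G] (D : Subgroup G) (hD : IsCyclic D) (a : G)
    (ha : ∀ d ∈ D, a * d * a⁻¹ ∈ D) : ∃ m : ℤ, ∀ d ∈ D, a * d * a⁻¹ = d ^ m := by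
  let σ : D →* D :=
    { toFun := fun c => ⟨a * c * a⁻¹, ha c c.2⟩
      map_one' := by ext; simp
      map_mul' := by intro x y; ext; simp [mul_assoc] }
  obtain ⟨m, hm⟩ := MonoidHom.map_cyclic σ
  refine ⟨m, fun x hx => ?_⟩
  have := congrArg Subtype.val (hm ⟨x, hx⟩)
  simpa [σ] using this

/-- The commutator `a b a⁻¹ b⁻¹` of two elements which, together with their inverses, normalize
a cyclic subgroup `D` centralizes `D`. -/
theorem commutator_centralizes_cyclic {G : Type*} [Group G] (D : Subgroup G) (hD : IsCyclic D)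
    (a b : G) (ha : ∀ d ∈ D, a * d * a⁻¹ ∈ D) (ha' : ∀ d ∈ D, a⁻¹ * d * a ∈ D)
    (hb : ∀ d ∈ D, b * d * b⁻¹ ∈ D) (hb' : ∀ d ∈ D, b⁻¹ * d * b ∈ D) :
    ∀ d ∈ D, (a * b * a⁻¹ * b⁻¹) * d = d * (a * b * a⁻¹ * b⁻¹) := by
  obtain ⟨m, hm⟩ := conj_eq_zpow_of_cyclic D hD a ha
  obtain ⟨m', hm'⟩ := conj_eq_zpow_of_cyclic D hD a⁻¹ (by simpa using ha')
  obtain ⟨k, hk⟩ := conj_eq_zpow_of_cyclic D hD b hb
  obtain ⟨k', hk'⟩ := conj_eq_zpow_of_cyclic D hD b⁻¹ (by simpa using hb')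
  simp only [inv_inv] at hm' hk'
  intro d hd
  have e1 : d ^ (m' * m) = d := by
    have : a * (a⁻¹ * d * a) * a⁻¹ = d := by group
    rw [hm' d hd, hm _ (D.zpow_mem hd m'), ← zpow_mul] at this
    exact this
  have e2 : d ^ (k' * k) = d := by
    have : b * (b⁻¹ * d * b) * b⁻¹ = d := by group
    rw [hk' d hd, hk _ (D.zpow_mem hd k'), ← zpow_mul] at this
    exact this
  have e3 : (a * b * a⁻¹ * b⁻¹) * d * (a * b * a⁻¹ * b⁻¹)⁻¹ = d := by
    have h1 : (a * b * a⁻¹ * b⁻¹) * d * (a * b * a⁻¹ * b⁻¹)⁻¹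
        = a * (b * (a⁻¹ * (b⁻¹ * d * b) * a) * b⁻¹) * a⁻¹ := by group
    rw [h1, hk' d hd, hm' _ (D.zpow_mem hd k'), hk _ (D.zpow_mem (D.zpow_mem hd k') m'),
      hm _ (D.zpow_mem (D.zpow_mem (D.zpow_mem hd k') m') k), ← zpow_mul, ← zpow_mul, ← zpow_mul]
    have h2 : k' * (m' * (k * m)) = (k' * k) * (m' * m) := by ring
    rw [h2, zpow_mul, e2, e1]
  exact mul_inv_eq_iff_eq_mul.mp e3

theorem stR5 : Cfsg.Agent.H36.Tih.StR5.{u} := by
  intro G _ _ H Q P p hp hZ hQH hPH hPp hidx hQP hgen h hh x hx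
  have : Fact p.Prime := ⟨hp⟩
  have hZ' : IsZGroup H := hZ
  -- `D = ⁅H, H⁆` is cyclic
  have hDcyc : IsCyclic ↥(⁅H, H⁆ : Subgroup G) := by
    have h1 : IsCyclic (commutator H) := IsZGroup.isCyclic_commutator H
    have h2 : IsCyclic ((commutator H).map H.subtype) :=
      isCyclic_of_surjective
        ((commutator H).equivMapOfInjective H.subtype H.subtype_injective).toMonoidHom
        ((commutator H).equivMapOfInjective H.subtype H.subtype_injective).surjective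
    rw [Subgroup.map_subtype_commutator] at h2
    exact h2
  have hDH : (⁅H, H⁆ : Subgroup G) ≤ H := Subgroup.commutator_le.mpr (fun g₁ h₁ g₂ h₂ => by
    rw [commutatorElement_def]
    exact H.mul_mem (H.mul_mem (H.mul_mem h₁ h₂) (H.inv_mem h₁)) (H.inv_mem h₂))
  have hnorm : ∀ a : G, (∀ y ∈ H, a * y * a⁻¹ ∈ H) →
      ∀ d ∈ (⁅H, H⁆ : Subgroup G), a * d * a⁻¹ ∈ (⁅H, H⁆ : Subgroup G) := by
    intro a ha d hd
    have h1 : H.map (MulAut.conj a).toMonoidHom ≤ H := by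
      rintro _ ⟨y, hy, rfl⟩
      exact ha y hy
    have h2 : a * d * a⁻¹ ∈ (⁅H, H⁆ : Subgroup G).map (MulAut.conj a).toMonoidHom :=
      ⟨d, hd, rfl⟩
    rw [Subgroup.map_commutator] at h2
    exact Subgroup.commutator_mono h1 h1 h2
  have hHn : ∀ a ∈ H, ∀ y ∈ H, a * y * a⁻¹ ∈ H :=
    fun a ha y hy => H.mul_mem (H.mul_mem ha hy) (H.inv_mem ha)
  -- `P` centralizes `D`
  have hPD : ∀ y ∈ P, ∀ d ∈ (⁅H, H⁆ : Subgroup G), y * d = d * y := by
    have hle : P ≤ Subgroup.centralizer ((⁅H, H⁆ : Subgroup G) : Set G) := by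
      refine hgen.trans ((Subgroup.closure_le _).mpr ?_)
      rintro y ⟨q, hq, z, hz, rfl⟩
      rw [SetLike.mem_coe, Subgroup.mem_centralizer_iff]
      intro d hd
      have hzH := hPH hz
      exact (commutator_centralizes_cyclic _ hDcyc q z (hnorm q (hQH q hq))
        (fun d hd => by simpa using hnorm q⁻¹ (hQH q⁻¹ (Q.inv_mem hq)) d hd)
        (hnorm z (hHn z hzH))
        (fun d hd => by simpa using hnorm z⁻¹ (hHn z⁻¹ (H.inv_mem hzH)) d hd) d hd).symm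
    intro y hy d hd
    exact ((Subgroup.mem_centralizer_iff.mp (hle hy)) d hd).symm
  -- the commutator `c = h x h⁻¹ x⁻¹`
  obtain ⟨c, hc⟩ : ∃ c, c = h * x * h⁻¹ * x⁻¹ := ⟨_, rfl⟩
  have hcD : c ∈ (⁅H, H⁆ : Subgroup G) := by
    rw [hc]
    exact Subgroup.commutator_mem_commutator hh (hPH hx)
  have hcx : x * c = c * x := hPD x hx c hcD
  have hconj : h * x * h⁻¹ = c * x := by rw [hc]; group
  have hck : c ^ orderOf x = 1 := by
    have h1 : (c * x) ^ orderOf x = c ^ orderOf x * x ^ orderOf x :=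
      Commute.mul_pow (show Commute c x from hcx.symm) _
    rw [pow_orderOf_eq_one, mul_one, ← hconj, conj_pow, pow_orderOf_eq_one] at h1
    rw [← h1]
    group
  obtain ⟨j, hj⟩ : ∃ j, orderOf x = p ^ j := by
    obtain ⟨j, hj⟩ := hPp ⟨x, hx⟩
    have h1 : x ^ p ^ j = 1 := by
      have := congrArg Subtype.val hj
      simpa using this
    obtain ⟨i, _, hi⟩ := (Nat.dvd_prime_pow hp).mp (orderOf_dvd_of_pow_eq_one h1)
    exact ⟨i, hi⟩
  have hcp : IsPGroup p (Subgroup.zpowers c) := by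
    rintro ⟨y, hy⟩
    obtain ⟨z, rfl⟩ := Subgroup.mem_zpowers_iff.mp hy
    refine ⟨j, Subtype.ext ?_⟩
    change (c ^ z) ^ p ^ j = 1
    rw [← zpow_natCast, ← zpow_mul, mul_comm, zpow_mul, zpow_natCast, ← hj, hck, one_zpow]
  -- `H` normalizes `zpowers c`
  have hHc : ∀ y ∈ H, ∀ g ∈ Subgroup.zpowers c, y * g * y⁻¹ ∈ Subgroup.zpowers c := by
    intro y hy g hg
    obtain ⟨m, hm⟩ := conj_eq_zpow_of_cyclic _ hDcyc y (hnorm y (hHn y hy))
    obtain ⟨z, rfl⟩ := Subgroup.mem_zpowers_iff.mp hg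
    rw [hm _ (Subgroup.zpow_mem _ hcD z), ← zpow_mul]
    exact Subgroup.zpow_mem_zpowers c _
  have hPn : P ≤ Subgroup.normalizer ((Subgroup.zpowers c : Subgroup G) : Set G) := by
    intro y hy
    rw [Subgroup.mem_normalizer_iff]
    intro g
    constructor
    · exact fun hg => hHc y (hPH hy) g hg
    · intro hg
      have h1 := hHc y⁻¹ (H.inv_mem (hPH hy)) _ hg
      have h2 : y⁻¹ * (y * g * y⁻¹) * y⁻¹⁻¹ = g := by group
      rw [h2] at h1
      exact h1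
  have hKp : IsPGroup p ↥(P ⊔ Subgroup.zpowers c) := hPp.to_sup_of_normal_right' hcp hPn
  have hKH : P ⊔ Subgroup.zpowers c ≤ H :=
    sup_le hPH ((Subgroup.zpowers_le).mpr (hDH hcD))
  have hrel := Subgroup.relIndex_mul_relIndex P (P ⊔ Subgroup.zpowers c) H le_sup_left hKH
  have hone : P.relIndex (P ⊔ Subgroup.zpowers c) = 1 := by
    obtain ⟨i, hi⟩ := hKp.index (P.subgroupOf (P ⊔ Subgroup.zpowers c))
    rcases Nat.eq_zero_or_pos i with h0 | h0
    · rw [Subgroup.relIndex, hi, h0, pow_zero]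
    · exfalso
      apply hidx
      rw [← hrel, Subgroup.relIndex, hi]
      exact Dvd.dvd.mul_right (dvd_pow_self p h0.ne') _
  have hcP : c ∈ P :=
    (Subgroup.relIndex_eq_one.mp hone) (Subgroup.mem_sup_right (Subgroup.mem_zpowers c))
  rw [hconj]
  exact P.mul_mem hcP hx

end Cfsg.Agent.H24.Tih
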