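import Mathlib
import Cfsg.Agent.H4.TnDefs

/-!
# S3805 team project (lead: helper4): basic computations in the configuration `Cfg`
-/

set_option autoImplicit false

namespace Cfsg.Agent.H24.Tn

open Subgroup Cfsg.Agent.H4.Tn

universe u

variable {G : Type u} [Group G] {T : Subgroup G} {a b u v : G}

theorem conj_eq_of_comm' {x y : G} (h : x * y = y * x) : x * y * x⁻¹ = y := by
  rw [h, mul_inv_cancel_right]

theorem conj_mul' (x y z : G) : (x * y) * z * (x * y)⁻¹ = x * (y * z * y⁻¹) * x⁻¹ := by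
  group

theorem a_ne_one (cfg : Cfg G T a b u v) : a ≠ 1 := by
  intro h
  have := (cfg.indep 1 0 (by simpa using h)).1
  omega

theorem b_ne_one (cfg : Cfg G T a b u v) : b ≠ 1 := by
  intro h
  have := (cfg.indep 0 1 (by simpa using h)).2
  omega

theorem a_mul_a_ne (cfg : Cfg G T a b u v) : a * a ≠ 1 := by
  intro h
  have := (cfg.indep 2 0 (by simpa [pow_two] using h)).1
  omega

theorem b_mul_b_ne (cfg : Cfg G T a b u v) : b * b ≠ 1 := by
  intro h
  have := (cfg.indep 0 2 (by simpa [pow_two] using h)).2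
  omega

theorem a_ne_inv (cfg : Cfg G T a b u v) : a ≠ a⁻¹ := by
  intro h
  exact a_mul_a_ne cfg (by rw [eq_inv_iff_mul_eq_one] at h; exact h)

theorem b_ne_inv (cfg : Cfg G T a b u v) : b ≠ b⁻¹ := by
  intro h
  exact b_mul_b_ne cfg (by rw [eq_inv_iff_mul_eq_one] at h; exact h)

theorem u_inv (cfg : Cfg G T a b u v) : u⁻¹ = u := inv_eq_of_mul_eq_one_left cfg.u2

theorem v_inv (cfg : Cfg G T a b u v) : v⁻¹ = v := inv_eq_of_mul_eq_one_left cfg.v2

theorem ab_comm (cfg : Cfg G T a b u v) : a * b = b * a := cfg.comm a cfg.aT b cfg.bT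

theorem va_pow (cfg : Cfg G T a b u v) (i : ℕ) : v * a ^ i = (a ^ i)⁻¹ * v := by
  have h : SemiconjBy v a a⁻¹ := cfg.va
  have h2 := h.pow_right i
  rw [inv_pow] at h2
  exact h2

theorem ub_pow (cfg : Cfg G T a b u v) (j : ℕ) : u * b ^ j = (b ^ j)⁻¹ * u := by
  have h : SemiconjBy u b b⁻¹ := cfg.ub
  have h2 := h.pow_right j
  rw [inv_pow] at h2
  exact h2

theorem ua_pow (cfg : Cfg G T a b u v) (i : ℕ) : u * a ^ i = a ^ i * u := by
  have h : Commute u a := cfg.ua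
  exact h.pow_right i

theorem vb_pow (cfg : Cfg G T a b u v) (j : ℕ) : v * b ^ j = b ^ j * v := by
  have h : Commute v b := cfg.vb
  exact h.pow_right j

theorem ab_pow (cfg : Cfg G T a b u v) (i j : ℕ) : a ^ i * b ^ j = b ^ j * a ^ i := by
  have h : Commute a b := ab_comm cfg
  exact (h.pow_pow i j)

theorem a_pow_cube (cfg : Cfg G T a b u v) (i : ℕ) : (a ^ i) ^ 3 = 1 := by
  rw [← pow_mul, mul_comm, pow_mul, cfg.a3, one_pow]

theorem b_pow_cube (cfg : Cfg G T a b u v) (j : ℕ) : (b ^ j) ^ 3 = 1 := by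
  rw [← pow_mul, mul_comm, pow_mul, cfg.b3, one_pow]

theorem ainv_T (cfg : Cfg G T a b u v) : a⁻¹ ∈ T := T.inv_mem cfg.aT

theorem ainv_ne_one (cfg : Cfg G T a b u v) : a⁻¹ ≠ 1 := by
  intro h
  exact a_ne_one cfg (inv_eq_one.mp h)

/-- Conjugation by an element of `N` maps `a` to `a` or `a⁻¹`. -/
theorem conj_a_of_mem_N (cfg : Cfg G T a b u v) {n : G} (hn : n ∈ normalizer (T : Set G)) :
    n * a * n⁻¹ = a ∨ n * a * n⁻¹ = a⁻¹ := by
  obtain ⟨t, ht, h | h | h | h⟩ := cfg.Nelts n hn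
  · left
    rw [h]
    exact conj_eq_of_comm' (cfg.comm t ht a cfg.aT)
  · left
    rw [h, conj_mul', conj_eq_of_comm' cfg.ua]
    exact conj_eq_of_comm' (cfg.comm t ht a cfg.aT)
  · right
    rw [h, conj_mul', cfg.va, mul_inv_cancel_right]
    exact conj_eq_of_comm' (cfg.comm t ht a⁻¹ (ainv_T cfg))
  · right
    rw [h, conj_mul', conj_mul', cfg.va, mul_inv_cancel_right]
    have h1 : u * a⁻¹ = a⁻¹ * u := by
      have h : Commute u a := cfg.ua
      exact h.inv_right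
    rw [conj_eq_of_comm' h1]
    exact conj_eq_of_comm' (cfg.comm t ht a⁻¹ (ainv_T cfg))

/-- Conjugation by an element of `N` maps `b` to `b` or `b⁻¹`. -/
theorem conj_b_of_mem_N (cfg : Cfg G T a b u v) {n : G} (hn : n ∈ normalizer (T : Set G)) :
    n * b * n⁻¹ = b ∨ n * b * n⁻¹ = b⁻¹ := by
  have hbinv : b⁻¹ ∈ T := T.inv_mem cfg.bT
  obtain ⟨t, ht, h | h | h | h⟩ := cfg.Nelts n hn
  · left
    rw [h]
    exact conj_eq_of_comm' (cfg.comm t ht b cfg.bT)
  · right
    rw [h, conj_mul', cfg.ub, mul_inv_cancel_right]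
    exact conj_eq_of_comm' (cfg.comm t ht b⁻¹ hbinv)
  · left
    rw [h, conj_mul', conj_eq_of_comm' cfg.vb]
    exact conj_eq_of_comm' (cfg.comm t ht b cfg.bT)
  · right
    rw [h, conj_mul', conj_mul', conj_eq_of_comm' cfg.vb, cfg.ub, mul_inv_cancel_right]
    exact conj_eq_of_comm' (cfg.comm t ht b⁻¹ hbinv)

end Cfsg.Agent.H24.Tn
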