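import Cfsg.Agent.H24.TtSplit

/-!
# S3385 (Sims/Tutte) piece: TT-C1
-/

set_option autoImplicit false

namespace Cfsg.Agent.H24.Tt

open Cfsg.Agent.H64.Tt

universe u

/-- TT-C1: `[x_a, x_b] ∈ X[a+1,b-1]`. -/
theorem c1 (hcard : CardStmt.{u}) : C1Stmt.{u} := by
  intro G _ _ x g k T a b hab hk
  have hab' : a ≤ b := le_of_lt hab
  have hxb : x b ∈ X x a b := mem_X x hab' le_rfl
  have hxa : x a ∈ X x a b := mem_X x le_rfl hab'
  have hxai : (x a)⁻¹ ∈ X x a b := inv_mem hxa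
  have hxbi : (x b)⁻¹ ∈ X x a b := inv_mem hxb
  -- A = X[a+1,b], B = X[a,b-1]
  have hA : ∀ {u v : G}, u ∈ X x a b → v ∈ X x a b →
      (u * v ∈ X x (a + 1) b ↔ (u ∈ X x (a + 1) b ↔ v ∈ X x (a + 1) b)) := fun hu hv =>
    idx2_mul_mem (X_mono x (a := a + 1) (b := b) (a' := a) (b' := b) (by omega) le_rfl)
      (card_left hcard x g k T a b hab' hk) hu hv
  have hB : ∀ {u v : G}, u ∈ X x a b → v ∈ X x a b →
      (u * v ∈ X x a (b - 1) ↔ (u ∈ X x a (b - 1) ↔ v ∈ X x a (b - 1))) := fun hu hv =>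
    idx2_mul_mem (X_mono x (a := a) (b := b - 1) (a' := a) (b' := b) le_rfl (by omega))
      (card_right hcard x g k T a b hab' hk) hu hv
  have haA : x a ∉ X x (a + 1) b := left_not_mem hcard x g k T a b hab' hk
  have hbB : x b ∉ X x a (b - 1) := right_not_mem hcard x g k T a b hab' hk
  have hbA : x b ∈ X x (a + 1) b := mem_X x (by omega) le_rfl
  have haB : x a ∈ X x a (b - 1) := mem_X x le_rfl (by omega)
  have haiA : (x a)⁻¹ ∉ X x (a + 1) b := fun h => haA (by simpa using inv_mem h)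
  have hbiB : (x b)⁻¹ ∉ X x a (b - 1) := fun h => hbB (by simpa using inv_mem h)
  -- membership in A
  have hwA : x a * x b * (x a)⁻¹ * (x b)⁻¹ ∈ X x (a + 1) b := by
    have h1 : x a * x b ∉ X x (a + 1) b := by
      rw [hA hxa hxb]
      exact fun h => haA (h.2 hbA)
    have h2 : x a * x b * (x a)⁻¹ ∈ X x (a + 1) b := by
      rw [hA (mul_mem hxa hxb) hxai]
      exact iff_of_false h1 haiA
    exact mul_mem h2 (inv_mem hbA)
  -- membership in B
  have hwB : x a * x b * (x a)⁻¹ * (x b)⁻¹ ∈ X x a (b - 1) := by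
    have h1 : x a * x b ∉ X x a (b - 1) := by
      rw [hB hxa hxb]
      exact fun h => hbB (h.1 haB)
    have h2 : x a * x b * (x a)⁻¹ ∉ X x a (b - 1) := by
      rw [hB (mul_mem hxa hxb) hxai]
      exact fun h => h1 (h.2 (inv_mem haB))
    rw [hB (mul_mem (mul_mem hxa hxb) hxai) hxbi]
    exact iff_of_false h2 hbiB
  -- the intersection
  have hle : X x (a + 1) (b - 1) ≤ X x (a + 1) b ⊓ X x a (b - 1) :=
    le_inf (X_mono x le_rfl (by omega)) (X_mono x (by omega) le_rfl)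
  have hcC : Nat.card (X x (a + 1) (b - 1)) = 2 ^ (b - 1 - (a + 1) + 1).toNat :=
    card_win hcard x g k T (a + 1) (b - 1) (by omega) (by omega)
  have hcB : Nat.card (X x a (b - 1)) = 2 ^ (b - 1 - a + 1).toNat :=
    card_win hcard x g k T a (b - 1) (by omega) (by omega)
  have hne : X x (a + 1) b ⊓ X x a (b - 1) ≠ X x a (b - 1) := by
    intro h
    have : x a ∈ X x (a + 1) b ⊓ X x a (b - 1) := by rw [h]; exact haB
    exact haA this.1
  have hdvd : Nat.card (X x (a + 1) b ⊓ X x a (b - 1) : Subgroup G) ∣ 2 ^ (b - 1 - a + 1).toNat := by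
    rw [← hcB]
    exact Subgroup.card_dvd_of_le inf_le_right
  obtain ⟨m, hm, hm2⟩ := (Nat.dvd_prime_pow Nat.prime_two).1 hdvd
  have hmlt : m < (b - 1 - a + 1).toNat := by
    rcases lt_or_eq_of_le hm with h | h
    · exact h
    · exfalso
      apply hne
      apply Subgroup.eq_of_le_of_card_ge inf_le_right
      rw [hcB, hm2, h]
  have hcard_le : Nat.card (X x (a + 1) b ⊓ X x a (b - 1) : Subgroup G)
      ≤ Nat.card (X x (a + 1) (b - 1)) := by
    rw [hcC, hm2]
    apply Nat.pow_le_pow_right (by norm_num)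
    omega
  have heq : X x (a + 1) (b - 1) = X x (a + 1) b ⊓ X x a (b - 1) :=
    Subgroup.eq_of_le_of_card_ge hle hcard_le
  rw [heq]
  exact ⟨hwA, hwB⟩

end Cfsg.Agent.H24.Tt

universe w

example : Cfsg.Agent.H64.Tt.CardStmt.{w} → Cfsg.Agent.H64.Tt.C1Stmt.{w} :=
  Cfsg.Agent.H24.Tt.c1
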