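import Cfsg.Agent.H64.TtDefs

/-!
# S3385 (Sims/Tutte) pieces: TT-SPLIT and shared index-two helpers
-/

set_option autoImplicit false

namespace Cfsg.Agent.H24.Tt

open Cfsg.Agent.H64.Tt

universe u

/-- index-two membership: for `K ≤ H` with `|H| = 2 |K|` and `u v ∈ H`,
`u * v ∈ K ↔ (u ∈ K ↔ v ∈ K)`. -/
theorem idx2_mul_mem {G : Type u} [Group G] [Finite G] {K H : Subgroup G} (hKH : K ≤ H)
    (hcard : Nat.card H = 2 * Nat.card K) {u v : G} (hu : u ∈ H) (hv : v ∈ H) :
    u * v ∈ K ↔ (u ∈ K ↔ v ∈ K) := by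
  have hidx : (K.subgroupOf H).index = 2 := by
    have h1 := Subgroup.card_mul_index (K.subgroupOf H)
    have h2 : Nat.card (K.subgroupOf H) = Nat.card K :=
      Nat.card_congr (Subgroup.subgroupOfEquivOfLe hKH).toEquiv
    rw [h2, hcard] at h1
    have hpos : 0 < Nat.card K := Nat.card_pos
    have h3 : Nat.card K * (K.subgroupOf H).index = Nat.card K * 2 := by rw [h1]; ring
    exact Nat.eq_of_mul_eq_mul_left hpos h3
  have := Subgroup.mul_mem_iff_of_index_two hidx (a := ⟨u, hu⟩) (b := ⟨v, hv⟩)
  simpa [Subgroup.mem_subgroupOf] using this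

/-- CARD extended to empty windows. -/
theorem card_win (hcard : CardStmt.{u}) {G : Type u} [Group G] [Finite G] (x : ℤ → G) (g : G)
    (k : ℕ) (T : TData x g k) (a b : ℤ) (hab : a ≤ b + 1) (hk : b - a + 1 ≤ k) :
    Nat.card (X x a b) = 2 ^ (b - a + 1).toNat := by
  rcases lt_or_ge b a with h | h
  · have h0 : b - a + 1 = 0 := by omega
    rw [X_empty x h, h0]
    simp
  · exact hcard x g k T a b h hk

/-- dropping the right end halves the order. -/
theorem card_right (hcard : CardStmt.{u}) {G : Type u} [Group G] [Finite G] (x : ℤ → G) (g : G)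
    (k : ℕ) (T : TData x g k) (a b : ℤ) (hab : a ≤ b) (hk : b - a + 1 ≤ k) :
    Nat.card (X x a b) = 2 * Nat.card (X x a (b - 1)) := by
  rw [hcard x g k T a b hab hk, card_win hcard x g k T a (b - 1) (by omega) (by omega)]
  have h1 : (b - a + 1).toNat = (b - 1 - a + 1).toNat + 1 := by omega
  rw [h1, pow_succ]
  ring

/-- dropping the left end halves the order. -/
theorem card_left (hcard : CardStmt.{u}) {G : Type u} [Group G] [Finite G] (x : ℤ → G) (g : G)
    (k : ℕ) (T : TData x g k) (a b : ℤ) (hab : a ≤ b) (hk : b - a + 1 ≤ k) :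
    Nat.card (X x a b) = 2 * Nat.card (X x (a + 1) b) := by
  rw [hcard x g k T a b hab hk, card_win hcard x g k T (a + 1) b (by omega) (by omega)]
  have h1 : (b - a + 1).toNat = (b - (a + 1) + 1).toNat + 1 := by omega
  rw [h1, pow_succ]
  ring

/-- the right end is not in the window without it. -/
theorem right_not_mem (hcard : CardStmt.{u}) {G : Type u} [Group G] [Finite G] (x : ℤ → G)
    (g : G) (k : ℕ) (T : TData x g k) (a b : ℤ) (hab : a ≤ b) (hk : b - a + 1 ≤ k) :
    x b ∉ X x a (b - 1) := by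
  intro hmem
  have hle : X x a b ≤ X x a (b - 1) := by
    rw [X_le_iff]
    intro i h1 h2
    rcases eq_or_lt_of_le h2 with h | h
    · rw [h]; exact hmem
    · exact mem_X x h1 (by omega)
  have h1 := Subgroup.card_le_of_le hle
  have h2 := card_right hcard x g k T a b hab hk
  have hpos : 0 < Nat.card (X x a (b - 1)) := Nat.card_pos
  omega

/-- the left end is not in the window without it. -/
theorem left_not_mem (hcard : CardStmt.{u}) {G : Type u} [Group G] [Finite G] (x : ℤ → G)
    (g : G) (k : ℕ) (T : TData x g k) (a b : ℤ) (hab : a ≤ b) (hk : b - a + 1 ≤ k) :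
    x a ∉ X x (a + 1) b := by
  intro hmem
  have hle : X x a b ≤ X x (a + 1) b := by
    rw [X_le_iff]
    intro i h1 h2
    rcases eq_or_lt_of_le h1 with h | h
    · rw [← h]; exact hmem
    · exact mem_X x (by omega) h2
  have h1 := Subgroup.card_le_of_le hle
  have h2 := card_left hcard x g k T a b hab hk
  have hpos : 0 < Nat.card (X x (a + 1) b) := Nat.card_pos
  omega

/-- TT-SPLIT. -/
theorem split (hcard : CardStmt.{u}) : SplitStmt.{u} := by
  intro G _ _ x g k T a b hab hk c hc
  have hxb : x b ∈ X x a b := mem_X x hab le_rfl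
  have hxa : x a ∈ X x a b := mem_X x le_rfl hab
  constructor
  · by_cases hcK : c ∈ X x a (b - 1)
    · exact Or.inl hcK
    · right
      rw [idx2_mul_mem (X_mono x le_rfl (by omega)) (card_right hcard x g k T a b hab hk) hc hxb]
      exact iff_of_false hcK (right_not_mem hcard x g k T a b hab hk)
  · by_cases hcK : c ∈ X x (a + 1) b
    · exact Or.inl hcK
    · right
      rw [idx2_mul_mem (X_mono x (by omega) le_rfl) (card_left hcard x g k T a b hab hk) hxa hc]
      exact iff_of_false (left_not_mem hcard x g k T a b hab hk) hcK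

end Cfsg.Agent.H24.Tt

universe w

example : Cfsg.Agent.H64.Tt.CardStmt.{w} → Cfsg.Agent.H64.Tt.SplitStmt.{w} :=
  Cfsg.Agent.H24.Tt.split
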